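import Groth.Prelude.Def_CohCx
import Groth.Prelude.Def_CohTop
import Mathlib.Topology.Spectral.Prespectral
import Mathlib.Topology.QuasiSeparated

/-!
# Compact opens of a prespectral quasi-separated space form a "quasi-compact collection"

Reduction of the statement "`H^q(U, -)` commutes with directed colimits for `U` compact open" to the abstract statement
on sites (collection `B` = compact opens, `Cov` = finite families of compact opens covering a compact open).
-/

set_option autoImplicit false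
universe u
open CategoryTheory CategoryTheory.Limits TopologicalSpace Opposite

namespace Groth.Agent.H16.SpectralColim

variable {X : TopCat.{u}}

/-- The collection of compact opens. -/
def B (X : TopCat.{u}) : Set (Opens X) := {V | IsCompact (V : Set X)}

/-- Finite families of compact opens covering a compact open. -/
def Cov (X : TopCat.{u}) (U : Opens X) (ι : Type u) (Y : ι → Over U) : Prop :=
  Finite ι ∧ IsCompact (U : Set X) ∧ (∀ i, IsCompact ((Y i).left : Set X)) ∧ U ≤ ⨆ i, (Y i).left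

lemma ofArrows_mem {U : Opens X} {ι : Type u} (Y : ι → Over U) (h : U ≤ ⨆ i, (Y i).left) :
    Sieve.ofArrows (fun i => (Y i).left) (fun i => (Y i).hom) ∈ Opens.grothendieckTopology X U := by
  intro x hx
  have hx' := h hx
  rw [Opens.mem_iSup] at hx'
  obtain ⟨i, hi⟩ := hx'
  exact ⟨(Y i).left, (Y i).hom, Sieve.ofArrows_mk _ _ i, hi⟩

lemma prod_left_eq {U : Opens X} {κ : Type} (Z : κ → Over U) [HasProduct Z] [Nonempty κ] :
    (∏ᶜ Z).left = ⨅ k, (Z k).left := by
  apply le_antisymm
  · exact le_iInf fun k => leOfHom (Pi.π Z k).left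
  · obtain ⟨k₀⟩ := (inferInstance : Nonempty κ)
    have hle : (⨅ k, (Z k).left) ≤ U := (iInf_le _ k₀).trans (leOfHom (Z k₀).hom)
    let W : Over U := Over.mk (homOfLE hle)
    let φ : W ⟶ ∏ᶜ Z := Pi.lift fun k => Over.homMk (homOfLE (iInf_le _ k)) (Subsingleton.elim _ _)
    exact leOfHom φ.left

lemma isCompact_iInf_fin [QuasiSeparatedSpace X] (p : ℕ) (V : Fin (p + 1) → Opens X)
    (hV : ∀ k, IsCompact ((V k : Opens X) : Set X)) : IsCompact (((⨅ k, V k : Opens X)) : Set X) := by
  induction p with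
  | zero =>
    have : (⨅ k, V k) = V 0 := le_antisymm (iInf_le _ 0) (le_iInf fun k => by
      have hk : k = 0 := Fin.ext (by omega)
      rw [hk])
    rw [this]
    exact hV 0
  | succ p ih =>
    have h1 : (⨅ k, V k) = V 0 ⊓ ⨅ k : Fin (p + 1), V k.succ := by
      apply le_antisymm
      · exact le_inf (iInf_le _ 0) (le_iInf fun k => iInf_le _ k.succ)
      · refine le_iInf fun k => ?_
        refine Fin.cases ?_ (fun k => ?_) k
        · exact inf_le_left
        · exact inf_le_right.trans (iInf_le _ k)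
    rw [h1, Opens.coe_inf]
    exact QuasiSeparatedSpace.inter_isCompact _ _ (V 0).isOpen (hV 0)
      (⨅ k : Fin (p + 1), V k.succ).isOpen (ih _ fun k => hV k.succ)

lemma refine [PrespectralSpace X] (U : Opens X) (hU : IsCompact (U : Set X)) (T : Sieve U)
    (hT : T ∈ Opens.grothendieckTopology X U) :
    ∃ (ι : Type u) (Y : ι → Over U), Cov X U ι Y ∧ ∀ i, T.arrows (Y i).hom := by
  have key : ∀ x : U, ∃ W : Opens X, IsCompact (W : Set X) ∧ x.1 ∈ W ∧
      ∃ h : W ≤ U, T.arrows (homOfLE h) := by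
    intro x
    obtain ⟨V, f, hf, hxV⟩ := hT x.1 x.2
    obtain ⟨W, ⟨hWo, hWc⟩, hxW, hWV⟩ :=
      PrespectralSpace.isTopologicalBasis.exists_subset_of_mem_open hxV V.isOpen
    have hWV' : (⟨W, hWo⟩ : Opens X) ≤ V := hWV
    refine ⟨⟨W, hWo⟩, hWc, hxW, hWV'.trans (leOfHom f), ?_⟩
    have := T.downward_closed hf (homOfLE hWV')
    exact (Subsingleton.elim _ _ : homOfLE hWV' ≫ f = homOfLE (hWV'.trans (leOfHom f))) ▸ this
  choose W hWc hxW hWU hWT using key
  obtain ⟨t, ht⟩ := hU.elim_finite_subcover (fun x : U => (W x : Set X)) (fun x => (W x).isOpen)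
    (fun x hx => Set.mem_iUnion.2 ⟨⟨x, hx⟩, hxW _⟩)
  refine ⟨↥t, fun i => Over.mk (homOfLE (hWU i.1)), ⟨inferInstance, hU, fun i => hWc i.1, ?_⟩,
    fun i => hWT i.1⟩
  intro x hx
  obtain ⟨i, hi⟩ := Set.mem_iUnion.1 (ht hx)
  obtain ⟨hit, hxi⟩ := Set.mem_iUnion.1 hi
  rw [Opens.mem_iSup]
  exact ⟨⟨i, hit⟩, hxi⟩

/-- Reduction of the topological statement to the abstract statement `H` on sites. -/
theorem main [PrespectralSpace X] [QuasiSeparatedSpace X]
    (H : ∀ (B : Set (Opens X)) (Cov : ∀ (U : Opens X) (ι : Type u), (ι → Over U) → Prop)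
      (_ : ∀ (U : Opens X) (ι : Type u) (Y : ι → Over U), Cov U ι Y → Finite ι ∧ U ∈ B ∧
        Sieve.ofArrows (fun i => (Y i).left) (fun i => (Y i).hom) ∈ Opens.grothendieckTopology X U ∧
        ∀ (p : ℕ) (a : Fin (p + 1) → ι), (∏ᶜ fun k => Y (a k)).left ∈ B)
      (_ : ∀ U ∈ B, ∀ T ∈ Opens.grothendieckTopology X U,
        ∃ (ι : Type u) (Y : ι → Over U), Cov U ι Y ∧ ∀ i, T.arrows (Y i).hom)
      (U : Opens X) (_ : U ∈ B) (p : ℕ) (I : Type u) [SmallCategory I] [IsFiltered I]
      (F : I ⥤ Sheaf (Opens.grothendieckTopology X) AddCommGrpCat.{u}),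
      PreservesColimit F
        ((Sheaf.cohomologyPresheafFunctor (Opens.grothendieckTopology X) p).flip.obj (op U)))
    (U : Opens X) (hU : IsCompact (U : Set X))
    (ι : Type u) [Preorder ι] [IsDirected ι (· ≤ ·)] [Nonempty ι] (q : ℕ) :
    PreservesColimitsOfShape ι
      ((Sheaf.cohomologyPresheafFunctor (Opens.grothendieckTopology X) q).flip.obj (op U) :
        CohTop.Ab X ⥤ AddCommGrpCat.{u}) := by
  constructor
  intro F
  refine H (B X) (Cov X) ?_ ?_ U hU q ι F
  · rintro V κ Y ⟨hfin, hV, hY, hcov⟩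
    refine ⟨hfin, hV, ofArrows_mem Y hcov, fun p a => ?_⟩
    change IsCompact (((∏ᶜ fun k => Y (a k)).left : Opens X) : Set X)
    rw [prod_left_eq (fun k => Y (a k))]
    exact isCompact_iInf_fin p _ fun k => hY (a k)
  · intro V hV T hT
    exact refine V hV T hT

end Groth.Agent.H16.SpectralColim
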