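import Mathlib

/-!
# `InjectiveResolution.extMk`: kernel in all degrees (helper16)
-/

set_option autoImplicit false
universe w v u
open CategoryTheory CategoryTheory.Limits CochainComplex HomComplex Abelian

namespace Groth.Agent.H16.ExtRes

variable {C : Type u} [Category.{v} C] [Abelian C] [HasExt.{w} C]
  {X Y : C} (R : InjectiveResolution Y)

lemma extMk_zero_eq_zero_iff (f : X ⟶ R.cocomplex.X 0)
    (hf : f ≫ R.cocomplex.d 0 1 = 0) :
    R.extMk f 1 rfl hf = 0 ↔ f = 0 := by
  simp only [← R.extEquivCohomologyClass.apply_eq_iff_eq,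
    InjectiveResolution.extEquivCohomologyClass_extMk,
    InjectiveResolution.extEquivCohomologyClass_zero,
    CohomologyClass.mk_eq_zero_iff]
  rw [Cocycle.fromSingleMk_mem_coboundaries_iff _ _ _ _ _ (-1) (by lia)]
  constructor
  · rintro ⟨g, hg⟩
    have hz : IsZero (R.cochainComplex.X (-1)) :=
      CochainComplex.isZero_of_isStrictlyGE _ 0 _ (by lia)
    have hg0 : g = 0 := hz.eq_of_tgt _ _
    rw [hg0, Limits.zero_comp] at hg
    rw [← cancel_mono (R.cochainComplexXIso ((0 : ℕ) : ℤ) 0 rfl).inv, Limits.zero_comp]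
    exact hg.symm
  · rintro rfl
    exact ⟨0, by simp⟩

/-- unified kernel statement -/
lemma extMk_eq_zero_iff' (n : ℕ) (f : X ⟶ R.cocomplex.X n)
    (hf : f ≫ R.cocomplex.d n (n + 1) = 0) :
    R.extMk f (n + 1) rfl hf = 0 ↔
      ∃ g : X ⟶ R.cocomplex.X ((ComplexShape.up ℕ).prev n),
        g ≫ R.cocomplex.d ((ComplexShape.up ℕ).prev n) n = f := by
  cases n with
  | zero =>
    rw [extMk_zero_eq_zero_iff]
    have hd : R.cocomplex.d ((ComplexShape.up ℕ).prev 0) 0 = 0 := by
      apply HomologicalComplex.shape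
      simp
    constructor
    · rintro rfl
      exact ⟨0, by simp⟩
    · rintro ⟨g, hg⟩
      rw [hd, Limits.comp_zero] at hg
      exact hg.symm
  | succ p =>
    have hprev : (ComplexShape.up ℕ).prev (p + 1) = p := by simp
    rw [R.extMk_eq_zero_iff f (p + 1 + 1) rfl hf p rfl]
    constructor
    · rintro ⟨g, hg⟩
      refine ⟨g ≫ eqToHom (by rw [hprev]), ?_⟩
      rw [← hg, Category.assoc]
      congr 1
      have : ∀ (q : ℕ) (hq : q = p),
          eqToHom (by rw [hq]) ≫ R.cocomplex.d q (p + 1) = R.cocomplex.d p (p + 1) := by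
        rintro q rfl
        simp
      exact this _ hprev
    · rintro ⟨g, hg⟩
      refine ⟨g ≫ eqToHom (by rw [hprev]), ?_⟩
      rw [← hg, Category.assoc]
      congr 1
      have : ∀ (q : ℕ) (hq : q = p),
          eqToHom (by rw [hq]) ≫ R.cocomplex.d p (p + 1) = R.cocomplex.d q (p + 1) := by
        rintro q rfl
        simp
      exact this _ hprev

end Groth.Agent.H16.ExtRes
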