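import Mathlib

/-!
# Exactness of abelian sheaves tested on a weakly contractible generating class (helper16)
-/

set_option autoImplicit false
open CategoryTheory CategoryTheory.Limits Opposite
universe w v u

namespace Groth.Agent.H16.WCExact

variable {C : Type u} [Category.{v} C] (J : GrothendieckTopology C)
  [HasSheafify J AddCommGrpCat.{w}] [J.WEqualsLocallyBijective AddCommGrpCat.{w}]

/-- sections over `U`. -/
abbrev Γ (U : C) : Sheaf J AddCommGrpCat.{w} ⥤ AddCommGrpCat.{w} :=
  sheafToPresheaf J AddCommGrpCat.{w} ⋙ (evaluation Cᵒᵖ AddCommGrpCat.{w}).obj (op U)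

/-- the short complex `Z ⟶ X₂ ⟶ X₃`. -/
noncomputable abbrev cyc (S : ShortComplex (Sheaf J AddCommGrpCat.{w})) :
    ShortComplex (Sheaf J AddCommGrpCat.{w}) :=
  ShortComplex.mk S.iCycles S.g S.iCycles_g

lemma cyc_exact (S : ShortComplex (Sheaf J AddCommGrpCat.{w})) : (cyc J S).Exact :=
  ShortComplex.exact_of_f_is_kernel _ S.cyclesIsKernel

lemma cyc_sections_exact (S : ShortComplex (Sheaf J AddCommGrpCat.{w})) (U : C) :
    ((cyc J S).map (Γ J U)).Exact :=
  (cyc_exact J S).map_of_mono_of_preservesKernel (Γ J U)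
    (inferInstanceAs (Mono S.iCycles)) inferInstance

lemma iCycles_sections_injective (S : ShortComplex (Sheaf J AddCommGrpCat.{w})) (U : C) :
    Function.Injective ((Γ J U).map S.iCycles) := by
  haveI : Mono ((Γ J U).map S.iCycles) := inferInstance
  exact (AddCommGrpCat.mono_iff_injective _).1 inferInstance


theorem sections_exact_of_exact (B : C → Prop)
    (hB : ∀ U : C, B U → ∀ (P Q : Sheaf J (Type w)) (ψ : P ⟶ Q), Epi ψ →
      Function.Surjective (ψ.hom.app (op U)))
    (S : ShortComplex (Sheaf J AddCommGrpCat.{w})) (hS : S.Exact) (U : C) (hU : B U) :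
    (S.map (Γ J U)).Exact := by
  rw [ShortComplex.ab_exact_iff]
  intro x hx
  obtain ⟨z, hz⟩ := (ShortComplex.ab_exact_iff _).1 (cyc_sections_exact J S U) x hx
  haveI : Epi S.toCycles := hS.epi_toCycles
  haveI : Sheaf.IsLocallySurjective S.toCycles :=
    (Sheaf.isLocallySurjective_iff_epi' (φ := S.toCycles)).2 inferInstance
  have hepi : Epi ((sheafCompose J (forget AddCommGrpCat.{w})).map S.toCycles) := inferInstance
  obtain ⟨y, hy⟩ := hB U hU _ _ _ hepi z
  refine ⟨y, ?_⟩
  have h1 : (Γ J U).map S.toCycles ≫ (Γ J U).map S.iCycles = (Γ J U).map S.f := by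
    rw [← Functor.map_comp, S.toCycles_i]
  have h2 := congrArg (fun φ => φ.hom y) h1
  simp only [AddCommGrpCat.hom_comp, AddMonoidHom.comp_apply] at h2
  change ((Γ J U).map S.f).hom y = x
  rw [← h2, ← hz]
  congr 1


theorem exact_of_sections_exact (B : C → Prop)
    (hcov : ∀ V : C, ∃ S : Sieve V, S ∈ J V ∧ ∀ ⦃W : C⦄ (f : W ⟶ V), S.arrows f →
      ∃ (U : C) (g : W ⟶ U) (h : U ⟶ V), B U ∧ g ≫ h = f)
    (S : ShortComplex (Sheaf J AddCommGrpCat.{w}))
    (h : ∀ U : C, B U → (S.map (Γ J U)).Exact) : S.Exact := by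
  rw [ShortComplex.exact_iff_epi_toCycles]
  haveI : Sheaf.IsLocallySurjective S.toCycles := by
    constructor
    intro V s
    obtain ⟨T, hT, hT'⟩ := hcov V
    refine J.superset_covering ?_ hT
    intro W f hf
    obtain ⟨U, g, k, hU, rfl⟩ := hT' f hf
    let sU : S.cycles.obj.obj (op U) := S.cycles.obj.map k.op s
    have hx : ((Γ J U).map S.g).hom (((Γ J U).map S.iCycles).hom sU) = 0 := by
      have h1 : (Γ J U).map S.iCycles ≫ (Γ J U).map S.g = 0 := by
        rw [← Functor.map_comp, S.iCycles_g, Functor.map_zero]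
      have h2 := congrArg (fun φ => φ.hom sU) h1
      simp only [AddCommGrpCat.hom_comp, AddMonoidHom.comp_apply] at h2
      rw [h2]
      rfl
    obtain ⟨y, hy⟩ := (ShortComplex.ab_exact_iff _).1 (h U hU) _ hx
    have hy2 : ((Γ J U).map S.toCycles).hom y = sU := by
      apply iCycles_sections_injective J S U
      have h1 : (Γ J U).map S.toCycles ≫ (Γ J U).map S.iCycles = (Γ J U).map S.f := by
        rw [← Functor.map_comp, S.toCycles_i]
      have h2 := congrArg (fun φ => φ.hom y) h1
      simp only [AddCommGrpCat.hom_comp, AddMonoidHom.comp_apply] at h2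
      exact h2.trans hy
    refine ⟨S.X₁.obj.map g.op y, ?_⟩
    have nat := S.toCycles.hom.naturality g.op
    have h3 := congrArg (fun φ => φ.hom y) nat
    simp only [AddCommGrpCat.hom_comp, AddMonoidHom.comp_apply] at h3
    change (S.toCycles.hom.app (op W)).hom ((S.X₁.obj.map g.op).hom y) =
      (S.cycles.obj.map (g ≫ k).op).hom s
    rw [h3]
    have h4 : (S.toCycles.hom.app (op U)).hom y = sU := hy2
    rw [h4]
    change (S.cycles.obj.map g.op).hom ((S.cycles.obj.map k.op).hom s) = _
    rw [op_comp, Functor.map_comp]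
    rfl
  infer_instance

end Groth.Agent.H16.WCExact
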