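import Mathlib
import Groth.Agent.H16.WCExact

/-!
# Weakly contractible objects: sections are exact, free sheaf is projective (helper16)
-/

set_option autoImplicit false
open CategoryTheory CategoryTheory.Limits Opposite
universe u

namespace Groth.Agent.H16.WCProj

open Groth.Agent.H16.WCExact

variable {C : Type u} [SmallCategory C] (J : GrothendieckTopology C)

/-- weak contractibility -/
def IsWC (U : C) : Prop :=
  ∀ (F G : Sheaf J (Type u)) (φ : F ⟶ G), Epi φ → Function.Surjective (φ.hom.app (op U))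

lemma surjective_sections_of_epi (U : C) (hU : IsWC J U) {E G : Sheaf J AddCommGrpCat.{u}}
    (e : E ⟶ G) [Epi e] : Function.Surjective ((Γ J U).map e).hom := by
  haveI : Sheaf.IsLocallySurjective e := (Sheaf.isLocallySurjective_iff_epi' (φ := e)).2 inferInstance
  have hepi : Epi ((sheafCompose J (forget AddCommGrpCat.{u})).map e) := inferInstance
  exact hU _ _ _ hepi

theorem preservesFiniteColimits_sections (U : C) (hU : IsWC J U) :
    PreservesFiniteColimits (Γ J U : Sheaf J AddCommGrpCat.{u} ⥤ AddCommGrpCat.{u}) := by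
  refine ((Functor.preservesFiniteColimits_tfae (Γ J U)).out 0 3).1 ?_
  intro S hS
  refine ⟨sections_exact_of_exact J (fun V => V = U) ?_ S hS.exact U rfl, ?_⟩
  · rintro V rfl
    exact hU
  · haveI := hS.epi_g
    exact (AddCommGrpCat.epi_iff_surjective _).2 (surjective_sections_of_epi J U hU S.g)

/-- the left adjoint `PSh(Set) ⥤ Sh(Ab)` -/
noncomputable abbrev L : (Cᵒᵖ ⥤ Type u) ⥤ Sheaf J AddCommGrpCat.{u} :=
  (Functor.whiskeringRight Cᵒᵖ _ _).obj AddCommGrpCat.free ⋙ presheafToSheaf J AddCommGrpCat.{u}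

/-- the right adjoint `Sh(Ab) ⥤ PSh(Set)` -/
noncomputable abbrev R : Sheaf J AddCommGrpCat.{u} ⥤ (Cᵒᵖ ⥤ Type u) :=
  sheafToPresheaf J AddCommGrpCat.{u} ⋙
    (Functor.whiskeringRight Cᵒᵖ _ _).obj (forget AddCommGrpCat.{u})

noncomputable def adjLR : L J ⊣ R J :=
  (Adjunction.whiskerRight Cᵒᵖ AddCommGrpCat.adj).comp (sheafificationAdjunction J AddCommGrpCat.{u})

/-- `Hom(ℤ_U, G) ≃ G(U)` -/
noncomputable def secEquiv (U : C) (G : Sheaf J AddCommGrpCat.{u}) :
    ((L J).obj (yoneda.obj U) ⟶ G) ≃ ((R J).obj G).obj (op U) :=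
  ((adjLR J).homEquiv (yoneda.obj U) G).trans yonedaEquiv

lemma secEquiv_naturality (U : C) {E G : Sheaf J AddCommGrpCat.{u}} (e : E ⟶ G)
    (f : (L J).obj (yoneda.obj U) ⟶ E) :
    secEquiv J U G (f ≫ e) = ((R J).map e).app (op U) (secEquiv J U E f) := by
  dsimp only [secEquiv, Equiv.trans_apply]
  rw [Adjunction.homEquiv_naturality_right, yonedaEquiv_comp]

theorem projective_free (U : C) (hU : IsWC J U) : Projective ((L J).obj (yoneda.obj U)) := by
  constructor
  intro E G f e _
  obtain ⟨t, ht⟩ := surjective_sections_of_epi J U hU e (secEquiv J U G f)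
  refine ⟨(secEquiv J U E).symm t, ?_⟩
  apply (secEquiv J U G).injective
  rw [secEquiv_naturality, Equiv.apply_symm_apply]
  exact ht

end Groth.Agent.H16.WCProj
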