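import Mathlib
import Groth.Agent.H16.WCProj

/-!
# Cohomology classes of positive degree die on a covering sieve (helper16)
-/

set_option autoImplicit false
open CategoryTheory CategoryTheory.Limits Opposite
universe u

namespace Groth.Agent.H16.KillClass

open Groth.Agent.H16.WCExact Groth.Agent.H16.WCProj Abelian

variable {C : Type u} [SmallCategory C] (J : GrothendieckTopology C)

/-- the free abelian sheaf on (the representable presheaf of) `U`. -/
noncomputable abbrev Z (U : C) : Sheaf J AddCommGrpCat.{u} := (L J).obj (yoneda.obj U)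

/-- functoriality of `Z`. -/
noncomputable abbrev Zmap {V U : C} (a : V ⟶ U) : Z J V ⟶ Z J U := (L J).map (yoneda.map a)

lemma secEquiv_naturality_left {V U : C} (a : V ⟶ U) (G : Sheaf J AddCommGrpCat.{u})
    (h : Z J U ⟶ G) :
    secEquiv J V G (Zmap J a ≫ h) = ((R J).obj G).map a.op (secEquiv J U G h) := by
  dsimp only [secEquiv, Equiv.trans_apply]
  rw [Adjunction.homEquiv_naturality_left, yonedaEquiv_naturality]

/-- local lifting along an epimorphism. -/
lemma exists_cover_lift {I Q : Sheaf J AddCommGrpCat.{u}} (p : I ⟶ Q) [Epi p] (U : C)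
    (h : Z J U ⟶ Q) :
    ∃ S : Sieve U, S ∈ J U ∧ ∀ ⦃V : C⦄ (a : V ⟶ U), S.arrows a →
      ∃ h' : Z J V ⟶ I, h' ≫ p = Zmap J a ≫ h := by
  haveI : Sheaf.IsLocallySurjective p := (Sheaf.isLocallySurjective_iff_epi' (φ := p)).2 inferInstance
  let q : Q.obj.obj (op U) := secEquiv J U Q h
  refine ⟨Presheaf.imageSieve p.hom q, Presheaf.imageSieve_mem J p.hom q, ?_⟩
  intro V a ha
  obtain ⟨t, ht⟩ := ha
  refine ⟨(secEquiv J V I).symm t, ?_⟩
  apply (secEquiv J V Q).injective
  rw [secEquiv_naturality, Equiv.apply_symm_apply, secEquiv_naturality_left]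
  exact ht

variable [HasExt.{u} (Sheaf J AddCommGrpCat.{u})]

/-- main theorem, in `Ext` form. -/
theorem exists_cover_kill : ∀ (n : ℕ) (F : Sheaf J AddCommGrpCat.{u}) (U : C)
    (ξ : Ext (Z J U) F (n + 1)),
    ∃ S : Sieve U, S ∈ J U ∧ ∀ ⦃V : C⦄ (a : V ⟶ U), S.arrows a →
      (Ext.mk₀ (Zmap J a)).comp ξ (zero_add (n + 1)) = 0 := by
  intro n
  induction n with
  | zero =>
    intro F U ξ
    -- embed into an injective
    let ι := Injective.ι F
    let S : ShortComplex (Sheaf J AddCommGrpCat.{u}) :=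
      ShortComplex.mk ι (cokernel.π ι) (cokernel.condition ι)
    have hS : S.ShortExact :=
      { exact := ShortComplex.exact_cokernel ι
        mono_f := (inferInstance : Mono ι)
        epi_g := (inferInstance : Epi (cokernel.π ι)) }
    have h0 : ξ.comp (Ext.mk₀ S.f) (add_zero 1) = 0 := Ext.eq_zero_of_injective _
    obtain ⟨η, hη⟩ := Ext.covariant_sequence_exact₁ (Z J U) hS ξ h0 (zero_add 1)
    obtain ⟨T, hT, hT'⟩ := exists_cover_lift J S.g U (Ext.addEquiv₀ η)
    refine ⟨T, hT, ?_⟩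
    intro V a ha
    obtain ⟨h', hh'⟩ := hT' a ha
    have hη' : η = Ext.mk₀ (Ext.addEquiv₀ η) := (Ext.mk₀_addEquiv₀_apply η).symm
    rw [← hη, hη', ← Ext.comp_assoc (Ext.mk₀ (Zmap J a)) (Ext.mk₀ (Ext.addEquiv₀ η)) hS.extClass
      (zero_add 0) (zero_add 1) (by omega), Ext.mk₀_comp_mk₀, ← hh', ← Ext.mk₀_comp_mk₀,
      Ext.comp_assoc (Ext.mk₀ h') (Ext.mk₀ S.g) hS.extClass (zero_add 0) (zero_add 1) (by omega),
      ShortComplex.ShortExact.comp_extClass, Ext.comp_zero]
  | succ n ih =>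
    intro F U ξ
    let ι := Injective.ι F
    let S : ShortComplex (Sheaf J AddCommGrpCat.{u}) :=
      ShortComplex.mk ι (cokernel.π ι) (cokernel.condition ι)
    have hS : S.ShortExact :=
      { exact := ShortComplex.exact_cokernel ι
        mono_f := (inferInstance : Mono ι)
        epi_g := (inferInstance : Epi (cokernel.π ι)) }
    have h0 : ξ.comp (Ext.mk₀ S.f) (add_zero (n + 1 + 1)) = 0 := Ext.eq_zero_of_injective _
    obtain ⟨η, hη⟩ := Ext.covariant_sequence_exact₁ (Z J U) hS ξ h0 (rfl : n + 1 + 1 = n + 1 + 1)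
    obtain ⟨T, hT, hT'⟩ := ih S.X₃ U η
    refine ⟨T, hT, ?_⟩
    intro V a ha
    have := hT' a ha
    rw [← hη, ← Ext.comp_assoc (Ext.mk₀ (Zmap J a)) η hS.extClass
      (zero_add (n + 1)) rfl (by omega), this, Ext.zero_comp]

end Groth.Agent.H16.KillClass
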