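import Mathlib
import Groth.Agent.H16.KillClass
import Groth.Agent.H16.ExtRes

/-!
# Cohomology presheaf via an injective resolution, part A: the class map (helper16)
-/

set_option autoImplicit false
open CategoryTheory CategoryTheory.Limits Opposite
universe u

namespace Groth.Agent.H16.CohPresheaf

open Groth.Agent.H16.WCExact Groth.Agent.H16.WCProj Groth.Agent.H16.KillClass Abelian

variable {C : Type u} [SmallCategory C] (J : GrothendieckTopology C)

/-- sections over `W` as maps out of `Z_W`, with the target type in the form used below. -/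
noncomputable def sec (W : C) (G : Sheaf J AddCommGrpCat.{u}) :
    (Z J W ⟶ G) ≃ (G.obj.obj (op W) : Type u) := secEquiv J W G

/-- the universal section of `Z_W` over `W`. -/
noncomputable def univ (W : C) : (Z J W).obj.obj (op W) := sec J W (Z J W) (𝟙 _)

lemma sec_eq (W : C) (G : Sheaf J AddCommGrpCat.{u}) (h : Z J W ⟶ G) :
    sec J W G h = (h.hom.app (op W)).hom (univ J W) := by
  have := secEquiv_naturality J W h (𝟙 _)
  rw [Category.id_comp] at this
  exact this

lemma sec_add (W : C) (G : Sheaf J AddCommGrpCat.{u}) (h₁ h₂ : Z J W ⟶ G) :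
    sec J W G (h₁ + h₂) = sec J W G h₁ + sec J W G h₂ := by
  rw [sec_eq, sec_eq, sec_eq]
  rfl

lemma sec_zero (W : C) (G : Sheaf J AddCommGrpCat.{u}) :
    sec J W G 0 = 0 := by
  have := sec_add J W G 0 0
  rw [add_zero] at this
  exact left_eq_add.mp this

lemma sec_symm_add (W : C) (G : Sheaf J AddCommGrpCat.{u}) (x y : G.obj.obj (op W)) :
    (sec J W G).symm (x + y) = (sec J W G).symm x + (sec J W G).symm y := by
  apply (sec J W G).injective
  rw [Equiv.apply_symm_apply, sec_add, Equiv.apply_symm_apply, Equiv.apply_symm_apply]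

lemma sec_symm_zero (W : C) (G : Sheaf J AddCommGrpCat.{u}) :
    (sec J W G).symm 0 = 0 := by
  apply (sec J W G).injective
  rw [Equiv.apply_symm_apply, sec_zero]

lemma sec_comp (W : C) {G G' : Sheaf J AddCommGrpCat.{u}} (φ : G ⟶ G') (h : Z J W ⟶ G) :
    sec J W G' (h ≫ φ) = (φ.hom.app (op W)).hom (sec J W G h) :=
  secEquiv_naturality J W φ h

lemma sec_symm_comp (W : C) {G G' : Sheaf J AddCommGrpCat.{u}} (φ : G ⟶ G')
    (x : G.obj.obj (op W)) :
    (sec J W G).symm x ≫ φ = (sec J W G').symm ((φ.hom.app (op W)).hom x) := by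
  apply (sec J W G').injective
  rw [Equiv.apply_symm_apply, sec_comp, Equiv.apply_symm_apply]

lemma sec_res {W' W : C} (a : W' ⟶ W) (G : Sheaf J AddCommGrpCat.{u}) (h : Z J W ⟶ G) :
    sec J W' G (Zmap J a ≫ h) = (G.obj.map a.op).hom (sec J W G h) :=
  secEquiv_naturality_left J a G h

lemma sec_symm_res {W' W : C} (a : W' ⟶ W) (G : Sheaf J AddCommGrpCat.{u})
    (x : G.obj.obj (op W)) :
    Zmap J a ≫ (sec J W G).symm x = (sec J W' G).symm ((G.obj.map a.op).hom x) := by
  apply (sec J W' G).injective
  rw [Equiv.apply_symm_apply, sec_res, Equiv.apply_symm_apply]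

end Groth.Agent.H16.CohPresheaf
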