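import Mathlib
import Groth.Agent.H16.CohPresheafA

/-!
# Cohomology presheaf via an injective resolution, part B: the class map (helper16)
-/

set_option autoImplicit false
open CategoryTheory CategoryTheory.Limits Opposite
universe u

namespace Groth.Agent.H16.CohPresheaf

open Groth.Agent.H16.WCExact Groth.Agent.H16.WCProj Groth.Agent.H16.KillClass Abelian

variable {C : Type u} [SmallCategory C] (J : GrothendieckTopology C)
  [HasExt.{u} (Sheaf J AddCommGrpCat.{u})]
  {F : Sheaf J AddCommGrpCat.{u}} (R : InjectiveResolution F)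

/-- the differential on sections over `W`. -/
noncomputable abbrev dW (i j : ℕ) (W : C) :
    (R.cocomplex.X i).obj.obj (op W) →+ (R.cocomplex.X j).obj.obj (op W) :=
  ((R.cocomplex.d i j).hom.app (op W)).hom

lemma sec_symm_d (n : ℕ) (W : C) (x : (R.cocomplex.X n).obj.obj (op W))
    (hx : dW J R n (n + 1) W x = 0) :
    (sec J W (R.cocomplex.X n)).symm x ≫ R.cocomplex.d n (n + 1) = 0 := by
  rw [sec_symm_comp, hx, sec_symm_zero]

/-- the class in `Ext^n(Z_W, F)` of a cocycle of `R(W)`. -/
noncomputable def cls (n : ℕ) (W : C) (x : (R.cocomplex.X n).obj.obj (op W))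
    (hx : dW J R n (n + 1) W x = 0) : Ext (Z J W) F n :=
  R.extMk ((sec J W (R.cocomplex.X n)).symm x) (n + 1) rfl (sec_symm_d J R n W x hx)

lemma cls_congr (n : ℕ) (W : C) {x y : (R.cocomplex.X n).obj.obj (op W)} (h : x = y)
    (hx : dW J R n (n + 1) W x = 0) :
    cls J R n W x hx = cls J R n W y (h ▸ hx) := by
  subst h
  rfl

lemma cls_add (n : ℕ) (W : C) (x y : (R.cocomplex.X n).obj.obj (op W))
    (hx : dW J R n (n + 1) W x = 0) (hy : dW J R n (n + 1) W y = 0) :
    cls J R n W (x + y) (by rw [map_add, hx, hy, add_zero]) =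
      cls J R n W x hx + cls J R n W y hy := by
  dsimp only [cls]
  rw [R.add_extMk]
  congr 1
  exact sec_symm_add J W _ x y

lemma cls_res (n : ℕ) {W' W : C} (a : W' ⟶ W) (x : (R.cocomplex.X n).obj.obj (op W))
    (hx : dW J R n (n + 1) W x = 0) :
    (Ext.mk₀ (Zmap J a)).comp (cls J R n W x hx) (zero_add n) =
      cls J R n W' (((R.cocomplex.X n).obj.map a.op).hom x) (by
        have h := (R.cocomplex.d n (n + 1)).hom.naturality a.op
        have h2 := congrArg (fun φ => φ.hom x) h
        simp only [AddCommGrpCat.hom_comp, AddMonoidHom.comp_apply] at h2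
        change ((R.cocomplex.d n (n + 1)).hom.app (op W')).hom _ = 0
        rw [h2]
        change ((R.cocomplex.X (n + 1)).obj.map a.op).hom (dW J R n (n + 1) W x) = 0
        rw [hx, map_zero]) := by
  dsimp only [cls]
  rw [R.mk₀_comp_extMk]
  congr 1
  exact sec_symm_res J a _ x

lemma cls_surjective (n : ℕ) (W : C) (α : Ext (Z J W) F n) :
    ∃ (x : (R.cocomplex.X n).obj.obj (op W)) (hx : dW J R n (n + 1) W x = 0),
      cls J R n W x hx = α := by
  obtain ⟨f, hf, rfl⟩ := R.extMk_surjective α (n + 1) rfl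
  refine ⟨sec J W _ f, ?_, ?_⟩
  · have := sec_comp J W (R.cocomplex.d n (n + 1)) f
    rw [hf, sec_zero] at this
    exact this.symm
  · dsimp only [cls]
    congr 1
    exact Equiv.symm_apply_apply _ f

lemma cls_eq_zero_iff (n : ℕ) (W : C) (x : (R.cocomplex.X n).obj.obj (op W))
    (hx : dW J R n (n + 1) W x = 0) :
    cls J R n W x hx = 0 ↔
      ∃ y : (R.cocomplex.X ((ComplexShape.up ℕ).prev n)).obj.obj (op W),
        dW J R ((ComplexShape.up ℕ).prev n) n W y = x := by
  dsimp only [cls]
  rw [ExtRes.extMk_eq_zero_iff']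
  constructor
  · rintro ⟨g, hg⟩
    refine ⟨sec J W _ g, ?_⟩
    have := sec_comp J W (R.cocomplex.d ((ComplexShape.up ℕ).prev n) n) g
    rw [hg, Equiv.apply_symm_apply] at this
    exact this.symm
  · rintro ⟨y, rfl⟩
    refine ⟨(sec J W _).symm y, ?_⟩
    rw [sec_symm_comp]

end Groth.Agent.H16.CohPresheaf
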