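import Mathlib
import Groth.Agent.H16.CohPresheafB

/-!
# Cohomology presheaf via an injective resolution, part C: the isomorphism (helper16)
-/

set_option autoImplicit false
open CategoryTheory CategoryTheory.Limits Opposite
universe u

namespace Groth.Agent.H16.CohPresheaf

open Groth.Agent.H16.WCExact Groth.Agent.H16.WCProj Groth.Agent.H16.KillClass Abelian

section general

variable {K : Type*} [Category K] {A : Type*} [Category A] [Abelian A]

lemma exact_of_app_exact (S : ShortComplex (K ⥤ A))
    (h : ∀ k, (S.map ((evaluation K A).obj k)).Exact) : S.Exact := by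
  rw [ShortComplex.exact_iff_isZero_homology, Functor.isZero_iff]
  intro k
  exact IsZero.of_iso ((ShortComplex.exact_iff_isZero_homology _).1 (h k))
    (S.mapHomologyIso ((evaluation K A).obj k)).symm

end general

variable {C : Type u} [SmallCategory C] (J : GrothendieckTopology C)
  [HasExt.{u} (Sheaf J AddCommGrpCat.{u})]
  {F : Sheaf J AddCommGrpCat.{u}} (R : InjectiveResolution F) (n : ℕ)

/-- the presheaf complex. -/
noncomputable abbrev P : CochainComplex (Cᵒᵖ ⥤ AddCommGrpCat.{u}) ℕ :=
  ((sheafToPresheaf J AddCommGrpCat.{u}).mapHomologicalComplex (ComplexShape.up ℕ)).obj R.cocomplex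

/-- the short complex computing homology in degree `n`. -/
noncomputable abbrev T : ShortComplex (Cᵒᵖ ⥤ AddCommGrpCat.{u}) :=
  (P J R).sc' ((ComplexShape.up ℕ).prev n) n (n + 1)

/-- evaluation. -/
abbrev ev (W : C) : (Cᵒᵖ ⥤ AddCommGrpCat.{u}) ⥤ AddCommGrpCat.{u} :=
  (evaluation Cᵒᵖ AddCommGrpCat.{u}).obj (op W)

lemma iCycles_app_injective (W : C) :
    Function.Injective ((T J R n).iCycles.app (op W)).hom := by
  haveI : Mono ((T J R n).iCycles.app (op W)) := inferInstance
  exact (AddCommGrpCat.mono_iff_injective _).1 inferInstance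

lemma d_iCycles_app (W : C) (z : ((T J R n).cycles).obj (op W)) :
    dW J R n (n + 1) W (((T J R n).iCycles.app (op W)).hom z) = 0 := by
  have h := congrArg (fun φ => (φ.app (op W)).hom z) (T J R n).iCycles_g
  exact h

lemma exists_cycle (W : C) (x : (R.cocomplex.X n).obj.obj (op W))
    (hx : dW J R n (n + 1) W x = 0) :
    ∃ z : ((T J R n).cycles).obj (op W), ((T J R n).iCycles.app (op W)).hom z = x := by
  let S' : ShortComplex (Cᵒᵖ ⥤ AddCommGrpCat.{u}) :=
    ShortComplex.mk (T J R n).iCycles (T J R n).g (T J R n).iCycles_g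
  have hS' : S'.Exact := ShortComplex.exact_of_f_is_kernel _ (T J R n).cyclesIsKernel
  have h2 : (S'.map (ev W)).Exact :=
    hS'.map_of_mono_of_preservesKernel (ev W) (inferInstanceAs (Mono (T J R n).iCycles))
      inferInstance
  exact (ShortComplex.ab_exact_iff _).1 h2 x hx

/-- the class map on cycles over `W`. -/
noncomputable def piApp (W : C) :
    ((T J R n).cycles).obj (op W) →+ Ext (Z J W) F n :=
  AddMonoidHom.mk' (fun z => cls J R n W (((T J R n).iCycles.app (op W)).hom z)
      (d_iCycles_app J R n W z)) (by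
    intro z z'
    rw [← cls_add]
    exact cls_congr J R n W (map_add _ z z') _)

lemma piApp_apply (W : C) (z : ((T J R n).cycles).obj (op W)) :
    piApp J R n W z = cls J R n W (((T J R n).iCycles.app (op W)).hom z)
      (d_iCycles_app J R n W z) := rfl

lemma piApp_surjective (W : C) : Function.Surjective (piApp J R n W) := by
  intro α
  obtain ⟨x, hx, rfl⟩ := cls_surjective J R n W α
  obtain ⟨z, rfl⟩ := exists_cycle J R n W x hx
  exact ⟨z, rfl⟩

lemma piApp_eq_zero_iff (W : C) (z : ((T J R n).cycles).obj (op W)) :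
    piApp J R n W z = 0 ↔ ∃ y : ((T J R n).X₁).obj (op W),
      ((T J R n).toCycles.app (op W)).hom y = z := by
  rw [piApp_apply, cls_eq_zero_iff]
  constructor
  · rintro ⟨y, hy⟩
    refine ⟨y, ?_⟩
    apply iCycles_app_injective J R n W
    have h := congrArg (fun φ => (φ.app (op W)).hom y) (T J R n).toCycles_i
    exact h.trans hy
  · rintro ⟨y, rfl⟩
    refine ⟨y, ?_⟩
    have h := congrArg (fun φ => (φ.app (op W)).hom y) (T J R n).toCycles_i
    exact h.symm

/-- the class map as a morphism of presheaves. -/
noncomputable def pi : (T J R n).cycles ⟶ Sheaf.cohomologyPresheaf.{u} F n where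
  app X := AddCommGrpCat.ofHom (piApp J R n X.unop)
  naturality X Y f := by
    ext z
    change piApp J R n Y.unop ((((T J R n).cycles).map f).hom z) =
      (Ext.mk₀ (Zmap J f.unop)).comp (piApp J R n X.unop z) (zero_add n)
    rw [piApp_apply, piApp_apply, cls_res]
    apply cls_congr
    have h := congrArg (fun φ => φ.hom z) ((T J R n).iCycles.naturality f)
    exact h

lemma toCycles_pi : (T J R n).toCycles ≫ pi J R n = 0 := by
  ext X y
  change piApp J R n X.unop ((((T J R n).toCycles).app X).hom y) = 0
  rw [piApp_eq_zero_iff]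
  exact ⟨y, rfl⟩

instance epi_pi : Epi (pi J R n) := by
  rw [NatTrans.epi_iff_epi_app]
  intro X
  rw [AddCommGrpCat.epi_iff_surjective]
  exact piApp_surjective J R n X.unop

lemma exact_pi : (ShortComplex.mk _ _ (toCycles_pi J R n)).Exact := by
  apply exact_of_app_exact
  intro X
  rw [ShortComplex.ab_exact_iff]
  intro z hz
  exact (piApp_eq_zero_iff J R n X.unop z).1 hz

/-- left homology data with `H` the cohomology presheaf. -/
noncomputable def lhd : (T J R n).LeftHomologyData where
  K := (T J R n).cycles
  H := Sheaf.cohomologyPresheaf.{u} F n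
  i := (T J R n).iCycles
  π := pi J R n
  wi := (T J R n).iCycles_g
  hi := (T J R n).cyclesIsKernel
  wπ := toCycles_pi J R n
  hπ := (exact_pi J R n).gIsCokernel

/-- the main isomorphism of part (A). -/
noncomputable def homologyIso :
    (P J R).homology n ≅ Sheaf.cohomologyPresheaf.{u} F n :=
  ShortComplex.homologyMapIso ((P J R).isoSc' ((ComplexShape.up ℕ).prev n) n (n + 1) rfl (by simp)) ≪≫
    (lhd J R n).homologyIso

end Groth.Agent.H16.CohPresheaf
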