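import Mathlib
import Groth.Agent.H16.CohPresheafC

/-!
# Cohomology presheaf via an injective resolution, part D: naturality (helper16)
-/

set_option autoImplicit false
open CategoryTheory CategoryTheory.Limits Opposite
universe u

namespace Groth.Agent.H16.CohPresheaf

open Groth.Agent.H16.WCExact Groth.Agent.H16.WCProj Groth.Agent.H16.KillClass Abelian

variable {C : Type u} [SmallCategory C] (J : GrothendieckTopology C)
  [HasExt.{u} (Sheaf J AddCommGrpCat.{u})]
  {F F' : Sheaf J AddCommGrpCat.{u}} {R : InjectiveResolution F} {R' : InjectiveResolution F'}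
  {f : F ⟶ F'} (φ : InjectiveResolution.Hom R R' f) (n : ℕ)

lemma d_map (W : C) (x : (R.cocomplex.X n).obj.obj (op W)) :
    dW J R' n (n + 1) W (((φ.hom.f n).hom.app (op W)).hom x) =
      ((φ.hom.f (n + 1)).hom.app (op W)).hom (dW J R n (n + 1) W x) := by
  have h := congrArg (fun ψ => (ψ.hom.app (op W)).hom x) (φ.hom.comm n (n + 1))
  exact h

lemma cls_nat (W : C) (x : (R.cocomplex.X n).obj.obj (op W))
    (hx : dW J R n (n + 1) W x = 0) :
    (cls J R n W x hx).comp (Ext.mk₀ f) (add_zero n) =
      cls J R' n W (((φ.hom.f n).hom.app (op W)).hom x) (by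
        rw [d_map, hx, map_zero]) := by
  dsimp only [cls]
  rw [InjectiveResolution.extMk_comp_mk₀ _ _ _ _ φ]
  congr 1
  exact sec_symm_comp J W (φ.hom.f n) x

/-- the induced map of presheaf complexes. -/
noncomputable abbrev Pmap : P J R ⟶ P J R' :=
  ((sheafToPresheaf J AddCommGrpCat.{u}).mapHomologicalComplex (ComplexShape.up ℕ)).map φ.hom

/-- the induced map of short complexes. -/
noncomputable abbrev Tmap : T J R n ⟶ T J R' n :=
  (HomologicalComplex.shortComplexFunctor' _ _ ((ComplexShape.up ℕ).prev n) n (n + 1)).map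
    (Pmap J φ)

lemma pi_nat :
    pi J R n ≫ (Sheaf.cohomologyPresheafFunctor J n).map f =
      ShortComplex.cyclesMap (Tmap J φ n) ≫ pi J R' n := by
  ext X z
  change (piApp J R n X.unop z).comp (Ext.mk₀ f) (add_zero n) =
    piApp J R' n X.unop (((ShortComplex.cyclesMap (Tmap J φ n)).app X).hom z)
  rw [piApp_apply, piApp_apply, cls_nat J φ]
  apply cls_congr
  have h := congrArg (fun ψ => (ψ.app X).hom z) (ShortComplex.cyclesMap_i (Tmap J φ n))
  exact h.symm

/-- the left homology map data. -/
noncomputable def lhmd :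
    ShortComplex.LeftHomologyMapData (Tmap J φ n) (lhd J R n) (lhd J R' n) where
  φK := ShortComplex.cyclesMap (Tmap J φ n)
  φH := (Sheaf.cohomologyPresheafFunctor J n).map f
  commi := ShortComplex.cyclesMap_i _
  commf' := by
    have e1 : (lhd J R n).f' ≫ (T J R n).iCycles = (T J R n).f := (lhd J R n).f'_i
    have e2 : (lhd J R' n).f' ≫ (T J R' n).iCycles = (T J R' n).f := (lhd J R' n).f'_i
    have e3 : ShortComplex.cyclesMap (Tmap J φ n) ≫ (T J R' n).iCycles =
        (T J R n).iCycles ≫ (Tmap J φ n).τ₂ := ShortComplex.cyclesMap_i _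
    apply (cancel_mono (T J R' n).iCycles).1
    calc ((lhd J R n).f' ≫ ShortComplex.cyclesMap (Tmap J φ n)) ≫ (T J R' n).iCycles
        = (lhd J R n).f' ≫ (ShortComplex.cyclesMap (Tmap J φ n) ≫ (T J R' n).iCycles) :=
          Category.assoc _ _ _
      _ = (lhd J R n).f' ≫ ((T J R n).iCycles ≫ (Tmap J φ n).τ₂) :=
          congrArg (fun m => (lhd J R n).f' ≫ m) e3
      _ = ((lhd J R n).f' ≫ (T J R n).iCycles) ≫ (Tmap J φ n).τ₂ := (Category.assoc _ _ _).symm
      _ = (T J R n).f ≫ (Tmap J φ n).τ₂ := congrArg (fun m => m ≫ (Tmap J φ n).τ₂) e1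
      _ = (Tmap J φ n).τ₁ ≫ (T J R' n).f := (Tmap J φ n).comm₁₂.symm
      _ = (Tmap J φ n).τ₁ ≫ ((lhd J R' n).f' ≫ (T J R' n).iCycles) :=
          congrArg (fun m => (Tmap J φ n).τ₁ ≫ m) e2.symm
      _ = ((Tmap J φ n).τ₁ ≫ (lhd J R' n).f') ≫ (T J R' n).iCycles := (Category.assoc _ _ _).symm
  commπ := pi_nat J φ n

/-- the comparison of short complexes, named. -/
noncomputable abbrev scIso' {F : Sheaf J AddCommGrpCat.{u}} (R : InjectiveResolution F) (n : ℕ) :
    (P J R).sc n ≅ T J R n :=
  (P J R).isoSc' ((ComplexShape.up ℕ).prev n) n (n + 1) rfl (by simp)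

lemma homologyIso_hom {F : Sheaf J AddCommGrpCat.{u}} (R : InjectiveResolution F) (n : ℕ) :
    (homologyIso J R n).hom =
      ShortComplex.homologyMap (scIso' J R n).hom ≫ (lhd J R n).homologyIso.hom := rfl

lemma scIso'_nat :
    (HomologicalComplex.shortComplexFunctor _ _ n).map (Pmap J φ) ≫ (scIso' J R' n).hom =
      (scIso' J R n).hom ≫ Tmap J φ n :=
  (HomologicalComplex.natIsoSc' (Cᵒᵖ ⥤ AddCommGrpCat.{u}) (ComplexShape.up ℕ)
    ((ComplexShape.up ℕ).prev n) n (n + 1) rfl (by simp)).hom.naturality (Pmap J φ)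

lemma homologyIso_nat :
    (HomologicalComplex.homologyFunctor _ _ n).map (Pmap J φ) ≫ (homologyIso J R' n).hom =
      (homologyIso J R n).hom ≫ (Sheaf.cohomologyPresheafFunctor J n).map f := by
  have h3 : ShortComplex.homologyMap
        ((HomologicalComplex.shortComplexFunctor _ _ n).map (Pmap J φ)) ≫
      ShortComplex.homologyMap (scIso' J R' n).hom =
      ShortComplex.homologyMap (scIso' J R n).hom ≫ ShortComplex.homologyMap (Tmap J φ n) := by
    rw [← ShortComplex.homologyMap_comp, ← ShortComplex.homologyMap_comp, scIso'_nat]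
  have h4 : ShortComplex.homologyMap (Tmap J φ n) ≫ (lhd J R' n).homologyIso.hom =
      (lhd J R n).homologyIso.hom ≫ (Sheaf.cohomologyPresheafFunctor J n).map f :=
    (lhmd J φ n).homologyMap_comm
  change ShortComplex.homologyMap ((HomologicalComplex.shortComplexFunctor _ _ n).map (Pmap J φ)) ≫
      (ShortComplex.homologyMap (scIso' J R' n).hom ≫ (lhd J R' n).homologyIso.hom) =
    (ShortComplex.homologyMap (scIso' J R n).hom ≫ (lhd J R n).homologyIso.hom) ≫
      (Sheaf.cohomologyPresheafFunctor J n).map f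
  calc ShortComplex.homologyMap ((HomologicalComplex.shortComplexFunctor _ _ n).map (Pmap J φ)) ≫
          (ShortComplex.homologyMap (scIso' J R' n).hom ≫ (lhd J R' n).homologyIso.hom)
      = (ShortComplex.homologyMap ((HomologicalComplex.shortComplexFunctor _ _ n).map (Pmap J φ)) ≫
          ShortComplex.homologyMap (scIso' J R' n).hom) ≫ (lhd J R' n).homologyIso.hom :=
        (Category.assoc _ _ _).symm
    _ = (ShortComplex.homologyMap (scIso' J R n).hom ≫ ShortComplex.homologyMap (Tmap J φ n)) ≫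
          (lhd J R' n).homologyIso.hom :=
        congrArg (fun m => m ≫ (lhd J R' n).homologyIso.hom) h3
    _ = ShortComplex.homologyMap (scIso' J R n).hom ≫
          (ShortComplex.homologyMap (Tmap J φ n) ≫ (lhd J R' n).homologyIso.hom) :=
        Category.assoc _ _ _
    _ = ShortComplex.homologyMap (scIso' J R n).hom ≫
          ((lhd J R n).homologyIso.hom ≫ (Sheaf.cohomologyPresheafFunctor J n).map f) :=
        congrArg (fun m => ShortComplex.homologyMap (scIso' J R n).hom ≫ m) h4
    _ = (ShortComplex.homologyMap (scIso' J R n).hom ≫ (lhd J R n).homologyIso.hom) ≫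
          (Sheaf.cohomologyPresheafFunctor J n).map f := (Category.assoc _ _ _).symm

end Groth.Agent.H16.CohPresheaf
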