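import Mathlib
import Groth.Agent.H16.CohPresheafC

/-!
# Higher direct images as sheafified cohomology presheaves (helper16)
-/

set_option autoImplicit false
open CategoryTheory CategoryTheory.Limits Opposite
universe u

namespace Groth.Agent.H16.CohPush

open Groth.Agent.H16.CohPresheaf

variable {C D : Type u} [SmallCategory C] [SmallCategory D]
    (J : GrothendieckTopology C) (K : GrothendieckTopology D) (u : D ⥤ C) [u.IsContinuous K J]
    [(u.sheafPushforwardContinuous AddCommGrpCat.{u} K J).Additive]
    [HasExt.{u} (Sheaf J AddCommGrpCat.{u})]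
    {F : Sheaf J AddCommGrpCat.{u}} (R : InjectiveResolution F) (i : ℕ)

/-- the pushed-forward complex of sheaves. -/
noncomputable abbrev Q : CochainComplex (Sheaf K AddCommGrpCat.{u}) ℕ :=
  ((u.sheafPushforwardContinuous AddCommGrpCat.{u} K J).mapHomologicalComplex
    (ComplexShape.up ℕ)).obj R.cocomplex

/-- precomposition with `u.op`. -/
abbrev Wh : (Cᵒᵖ ⥤ AddCommGrpCat.{u}) ⥤ (Dᵒᵖ ⥤ AddCommGrpCat.{u}) :=
  (Functor.whiskeringLeft Dᵒᵖ Cᵒᵖ AddCommGrpCat.{u}).obj u.op

/-- a short complex of sheaves is the sheafification of its underlying complex of presheaves. -/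
noncomputable def scIso (S : ShortComplex (Sheaf K AddCommGrpCat.{u})) :
    S ≅ (S.map (sheafToPresheaf K AddCommGrpCat.{u})).map (presheafToSheaf K AddCommGrpCat.{u}) :=
  (S.mapNatIso (asIso (sheafificationAdjunction K AddCommGrpCat.{u}).counit)).symm

/-- homology of a short complex of sheaves is the sheafification of the presheaf homology. -/
noncomputable def homologySheafify (S : ShortComplex (Sheaf K AddCommGrpCat.{u})) :
    S.homology ≅ (presheafToSheaf K AddCommGrpCat.{u}).obj
      (S.map (sheafToPresheaf K AddCommGrpCat.{u})).homology :=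
  ShortComplex.homologyMapIso (scIso K S) ≪≫
    (S.map (sheafToPresheaf K AddCommGrpCat.{u})).mapHomologyIso (presheafToSheaf K AddCommGrpCat.{u})

/-- main isomorphism. -/
noncomputable def mainIso :
    ((u.sheafPushforwardContinuous AddCommGrpCat.{u} K J).rightDerived i).obj F ≅
      (presheafToSheaf K AddCommGrpCat.{u}).obj (u.op ⋙ Sheaf.cohomologyPresheaf.{u} F i) :=
  R.isoRightDerivedObj (u.sheafPushforwardContinuous AddCommGrpCat.{u} K J) i ≪≫
    homologySheafify K ((Q J K u R).sc i) ≪≫
    (presheafToSheaf K AddCommGrpCat.{u}).mapIso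
      ((((P J R).sc i).mapHomologyIso (Wh u)) ≪≫
        Functor.isoWhiskerLeft u.op (homologyIso J R i))

end Groth.Agent.H16.CohPush
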