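import Mathlib
import Groth.Agent.H16.CohPush
import Groth.Agent.H16.CohPresheafD

/-!
# Higher direct images as sheafified cohomology presheaves: naturality (helper16)
-/

set_option autoImplicit false
open CategoryTheory CategoryTheory.Limits Opposite
universe u

namespace Groth.Agent.H16.CohPush

open Groth.Agent.H16.CohPresheaf

section general

variable {D : Type u} [SmallCategory D] (K : GrothendieckTopology D)

lemma scIso_nat {S S' : ShortComplex (Sheaf K AddCommGrpCat.{u})} (ψ : S ⟶ S') :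
    ψ ≫ (scIso K S').hom = (scIso K S).hom ≫
      (presheafToSheaf K AddCommGrpCat.{u}).mapShortComplex.map
        ((sheafToPresheaf K AddCommGrpCat.{u}).mapShortComplex.map ψ) := by
  apply ShortComplex.hom_ext
  · exact ((asIso (sheafificationAdjunction K AddCommGrpCat.{u}).counit).inv.naturality ψ.τ₁)
  · exact ((asIso (sheafificationAdjunction K AddCommGrpCat.{u}).counit).inv.naturality ψ.τ₂)
  · exact ((asIso (sheafificationAdjunction K AddCommGrpCat.{u}).counit).inv.naturality ψ.τ₃)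

lemma paste2 {A : Type*} [Category A] {X₁ X₂ X₃ Y₁ Y₂ Y₃ : A}
    {a₁ : X₁ ⟶ X₂} {a₂ : X₂ ⟶ X₃} {b₁ : Y₁ ⟶ Y₂} {b₂ : Y₂ ⟶ Y₃}
    {v₁ : X₁ ⟶ Y₁} {v₂ : X₂ ⟶ Y₂} {v₃ : X₃ ⟶ Y₃}
    (h₁ : v₁ ≫ b₁ = a₁ ≫ v₂) (h₂ : v₂ ≫ b₂ = a₂ ≫ v₃) :
    v₁ ≫ (b₁ ≫ b₂) = (a₁ ≫ a₂) ≫ v₃ := by
  rw [← Category.assoc, h₁, Category.assoc, h₂, Category.assoc]

lemma paste3 {A : Type*} [Category A] {X₁ X₂ X₃ X₄ Y₁ Y₂ Y₃ Y₄ : A}
    {a₁ : X₁ ⟶ X₂} {a₂ : X₂ ⟶ X₃} {a₃ : X₃ ⟶ X₄} {b₁ : Y₁ ⟶ Y₂} {b₂ : Y₂ ⟶ Y₃} {b₃ : Y₃ ⟶ Y₄}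
    {v₁ : X₁ ⟶ Y₁} {v₂ : X₂ ⟶ Y₂} {v₃ : X₃ ⟶ Y₃} {v₄ : X₄ ⟶ Y₄}
    (h₁ : v₁ ≫ b₁ = a₁ ≫ v₂) (h₂ : v₂ ≫ b₂ = a₂ ≫ v₃) (h₃ : v₃ ≫ b₃ = a₃ ≫ v₄) :
    v₁ ≫ (b₁ ≫ b₂ ≫ b₃) = (a₁ ≫ a₂ ≫ a₃) ≫ v₄ := by
  rw [← Category.assoc, h₁, Category.assoc, ← Category.assoc v₂, h₂, Category.assoc, h₃,
    Category.assoc, Category.assoc]

set_option backward.isDefEq.respectTransparency false in
lemma homologySheafify_nat {S S' : ShortComplex (Sheaf K AddCommGrpCat.{u})} (ψ : S ⟶ S') :
    ShortComplex.homologyMap ψ ≫ (homologySheafify K S').hom =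
      (homologySheafify K S).hom ≫ (presheafToSheaf K AddCommGrpCat.{u}).map
        (ShortComplex.homologyMap ((sheafToPresheaf K AddCommGrpCat.{u}).mapShortComplex.map ψ)) := by
  have h1 : ShortComplex.homologyMap ψ ≫ ShortComplex.homologyMap (scIso K S').hom =
      ShortComplex.homologyMap (scIso K S).hom ≫ ShortComplex.homologyMap
        ((presheafToSheaf K AddCommGrpCat.{u}).mapShortComplex.map
          ((sheafToPresheaf K AddCommGrpCat.{u}).mapShortComplex.map ψ)) := by
    rw [← ShortComplex.homologyMap_comp, scIso_nat K ψ]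
    exact ShortComplex.homologyMap_comp _ _
  have h2 := ShortComplex.mapHomologyIso_hom_naturality
    ((sheafToPresheaf K AddCommGrpCat.{u}).mapShortComplex.map ψ)
    (presheafToSheaf K AddCommGrpCat.{u})
  exact paste2 h1 h2

end general

variable {C D : Type u} [SmallCategory C] [SmallCategory D]
    (J : GrothendieckTopology C) (K : GrothendieckTopology D) (u : D ⥤ C) [u.IsContinuous K J]
    [(u.sheafPushforwardContinuous AddCommGrpCat.{u} K J).Additive]
    [HasExt.{u} (Sheaf J AddCommGrpCat.{u})]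
    {F F' : Sheaf J AddCommGrpCat.{u}} {R : InjectiveResolution F} {R' : InjectiveResolution F'}
    {f : F ⟶ F'} (φ : InjectiveResolution.Hom R R' f) (i : ℕ)

/-- the target functor. -/
noncomputable abbrev tgt : Sheaf J AddCommGrpCat.{u} ⥤ Sheaf K AddCommGrpCat.{u} :=
  Sheaf.cohomologyPresheafFunctor J i ⋙ Wh u ⋙ presheafToSheaf K AddCommGrpCat.{u}

/-- the presheaf-level part of `mainIso`. -/
noncomputable abbrev preIso {F : Sheaf J AddCommGrpCat.{u}} (R : InjectiveResolution F) :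
    (((P J R).sc i).map (Wh u)).homology ≅ u.op ⋙ Sheaf.cohomologyPresheaf.{u} F i :=
  (((P J R).sc i).mapHomologyIso (Wh u)) ≪≫ Functor.isoWhiskerLeft u.op (homologyIso J R i)

/-- the map of short complexes of presheaves induced by `φ`. -/
noncomputable abbrev chi : (P J R).sc i ⟶ (P J R').sc i :=
  (HomologicalComplex.shortComplexFunctor _ _ i).map (Pmap J φ)

set_option backward.isDefEq.respectTransparency false in
lemma preIso_nat :
    ShortComplex.homologyMap ((Wh u).mapShortComplex.map (chi J φ i)) ≫ (preIso J u i R').hom =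
      (preIso J u i R).hom ≫ (Wh u).map ((Sheaf.cohomologyPresheafFunctor J i).map f) := by
  have h3a := ShortComplex.mapHomologyIso_hom_naturality (chi J φ i) (Wh u)
  have h3b : (Wh u).map (ShortComplex.homologyMap (chi J φ i)) ≫
      (Wh u).map (homologyIso J R' i).hom =
      (Wh u).map (homologyIso J R i).hom ≫
        (Wh u).map ((Sheaf.cohomologyPresheafFunctor J i).map f) := by
    rw [← Functor.map_comp, ← Functor.map_comp]
    congr 1
    exact homologyIso_nat J φ i
  exact paste2 h3a h3b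

lemma mainIso_hom {F : Sheaf J AddCommGrpCat.{u}} (R : InjectiveResolution F) :
    (mainIso J K u R i).hom =
      (R.isoRightDerivedObj (u.sheafPushforwardContinuous AddCommGrpCat.{u} K J) i).hom ≫
        (homologySheafify K ((Q J K u R).sc i)).hom ≫
          (presheafToSheaf K AddCommGrpCat.{u}).map (preIso J u i R).hom := rfl

set_option backward.isDefEq.respectTransparency false in
lemma mainIso_nat (φ : InjectiveResolution.Hom R R' f) :
    ((u.sheafPushforwardContinuous AddCommGrpCat.{u} K J).rightDerived i).map f ≫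
        (mainIso J K u R' i).hom =
      (mainIso J K u R i).hom ≫ (tgt J K u i).map f := by
  rw [mainIso_hom, mainIso_hom]
  have h1 := InjectiveResolution.isoRightDerivedObj_hom_naturality f R R' φ.hom
    (by simpa using φ.ι_f_zero_comp_hom_f_zero)
    (u.sheafPushforwardContinuous AddCommGrpCat.{u} K J) i
  have h2 := homologySheafify_nat K ((HomologicalComplex.shortComplexFunctor _ _ i).map
    (((u.sheafPushforwardContinuous AddCommGrpCat.{u} K J).mapHomologicalComplex
      (ComplexShape.up ℕ)).map φ.hom))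
  have h3 : (presheafToSheaf K AddCommGrpCat.{u}).map
        (ShortComplex.homologyMap ((Wh u).mapShortComplex.map (chi J φ i))) ≫
      (presheafToSheaf K AddCommGrpCat.{u}).map (preIso J u i R').hom =
      (presheafToSheaf K AddCommGrpCat.{u}).map (preIso J u i R).hom ≫
        (presheafToSheaf K AddCommGrpCat.{u}).map
          ((Wh u).map ((Sheaf.cohomologyPresheafFunctor J i).map f)) := by
    rw [← Functor.map_comp, ← Functor.map_comp]
    congr 1
    exact preIso_nat J u φ i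
  exact paste3 h1 h2 h3

end Groth.Agent.H16.CohPush
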