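import Mathlib

/-!
# Sheafification of a presheaf-valued functor preserving a colimit locally (helper16)
-/

set_option autoImplicit false
open CategoryTheory CategoryTheory.Limits Opposite
universe u v' u'

namespace Groth.Agent.H16.SheafifyColim

variable {D : Type u} [SmallCategory D] (K : GrothendieckTopology D)

/-- a morphism of presheaves which is bijective on a covering family of every object becomes an
isomorphism after sheafification. -/
theorem isIso_sheafify_of_locally_bijective {P Q : Dᵒᵖ ⥤ AddCommGrpCat.{u}} (ψ : P ⟶ Q)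
    (h : ∀ V : D, ∃ (κ : Type u) (Y : κ → D) (g : ∀ k, Y k ⟶ V), Sieve.ofArrows Y g ∈ K V ∧
      ∀ k, Function.Bijective (ψ.app (op (Y k))).hom) :
    IsIso ((presheafToSheaf K AddCommGrpCat.{u}).map ψ) := by
  rw [← GrothendieckTopology.W_iff, GrothendieckTopology.W_iff_isLocallyBijective]
  constructor
  · constructor
    intro X x y hxy
    obtain ⟨κ, Y, g, hg, hb⟩ := h X.unop
    refine K.superset_covering ?_ hg
    rw [Sieve.ofArrows, Sieve.generate_le_iff]
    rintro W a ⟨k⟩
    change (P.map (g k).op).hom x = (P.map (g k).op).hom y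
    apply (hb k).1
    have n1 := congrArg (fun m => m.hom x) (ψ.naturality (g k).op)
    have n2 := congrArg (fun m => m.hom y) (ψ.naturality (g k).op)
    simp only [AddCommGrpCat.hom_comp, AddMonoidHom.comp_apply] at n1 n2
    rw [n1, n2]
    exact congrArg (Q.map (g k).op).hom hxy
  · constructor
    intro U s
    obtain ⟨κ, Y, g, hg, hb⟩ := h U
    refine K.superset_covering ?_ hg
    rw [Sieve.ofArrows, Sieve.generate_le_iff]
    rintro W a ⟨k⟩
    obtain ⟨t, ht⟩ := (hb k).2 ((Q.map (g k).op).hom s)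
    exact ⟨t, ht⟩

variable {A : Type u'} [Category.{v'} A] {ι : Type u} [SmallCategory ι] (F : ι ⥤ A)
  (H : A ⥤ (Dᵒᵖ ⥤ AddCommGrpCat.{u}))

/-- evaluation. -/
abbrev ev (V : D) : (Dᵒᵖ ⥤ AddCommGrpCat.{u}) ⥤ AddCommGrpCat.{u} :=
  (evaluation Dᵒᵖ AddCommGrpCat.{u}).obj (op V)

/-- comparison map. -/
noncomputable def psi (c : Cocone F) : colimit (F ⋙ H) ⟶ H.obj c.pt :=
  colimit.desc (F ⋙ H) (H.mapCocone c)

lemma isIso_psi_app {c : Cocone F} (hc : IsColimit c) (V : D)
    [PreservesColimit F (H ⋙ ev V)] : IsIso ((psi F H c).app (op V)) := by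
  have h1 : IsColimit ((ev V).mapCocone (colimit.cocone (F ⋙ H))) :=
    isColimitOfPreserves (ev V) (colimit.isColimit _)
  have h2 : IsColimit ((H ⋙ ev V).mapCocone c) := isColimitOfPreserves (H ⋙ ev V) hc
  have e : (psi F H c).app (op V) = (h1.coconePointUniqueUpToIso h2).hom := by
    apply h1.hom_ext
    intro j
    rw [IsColimit.comp_coconePointUniqueUpToIso_hom]
    change (colimit.ι (F ⋙ H) j).app (op V) ≫ (psi F H c).app (op V) =
      (H.map (c.ι.app j)).app (op V)
    rw [← NatTrans.comp_app, psi, colimit.ι_desc]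
    rfl
  rw [e]
  infer_instance

theorem preservesColimit_comp_sheafify [HasColimit F]
    (h : ∀ V : D, ∃ (κ : Type u) (Y : κ → D) (g : ∀ k, Y k ⟶ V), Sieve.ofArrows Y g ∈ K V ∧
      ∀ k, PreservesColimit F (H ⋙ ev (Y k))) :
    PreservesColimit F (H ⋙ presheafToSheaf K AddCommGrpCat.{u}) := by
  apply preservesColimit_of_preserves_colimit_cocone (colimit.isColimit F)
  let c := colimit.cocone F
  have hiso : IsIso ((presheafToSheaf K AddCommGrpCat.{u}).map (psi F H c)) := by
    apply isIso_sheafify_of_locally_bijective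
    intro V
    obtain ⟨κ, Y, g, hg, hp⟩ := h V
    refine ⟨κ, Y, g, hg, ?_⟩
    intro k
    have := hp k
    have := isIso_psi_app F H (colimit.isColimit F) (Y k)
    exact ConcreteCategory.bijective_of_isIso ((psi F H c).app (op (Y k)))
  have h1 : IsColimit ((presheafToSheaf K AddCommGrpCat.{u}).mapCocone
      (colimit.cocone (F ⋙ H))) :=
    isColimitOfPreserves _ (colimit.isColimit _)
  have e : h1.desc ((H ⋙ presheafToSheaf K AddCommGrpCat.{u}).mapCocone c) =
      (presheafToSheaf K AddCommGrpCat.{u}).map (psi F H c) := by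
    apply h1.hom_ext
    intro j
    rw [h1.fac]
    change _ = (presheafToSheaf K AddCommGrpCat.{u}).map (colimit.ι (F ⋙ H) j) ≫ _
    rw [← Functor.map_comp, psi, colimit.ι_desc]
    rfl
  haveI : IsIso (h1.desc ((H ⋙ presheafToSheaf K AddCommGrpCat.{u}).mapCocone c)) := by
    rw [e]
    exact hiso
  exact IsColimit.ofPointIso h1

end Groth.Agent.H16.SheafifyColim
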