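import Mathlib
import Groth.Agent.H16.CohPushNat
import Groth.Agent.H16.SheafifyColim

/-!
# Higher direct images commute with colimits which are locally preserved by cohomology (helper16)
-/

set_option autoImplicit false
open CategoryTheory CategoryTheory.Limits Opposite
universe u

namespace Groth.Agent.H16.CohPush

open Groth.Agent.H16.CohPresheaf Groth.Agent.H16.SheafifyColim

variable {C D : Type u} [SmallCategory C] [SmallCategory D]
    (J : GrothendieckTopology C) (K : GrothendieckTopology D) (u : D ⥤ C) [u.IsContinuous K J]
    [(u.sheafPushforwardContinuous AddCommGrpCat.{u} K J).Additive]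
    [HasExt.{u} (Sheaf J AddCommGrpCat.{u})] (i : ℕ)

/-- a chosen lift of a morphism to injective resolutions. -/
noncomputable def liftHom {F F' : Sheaf J AddCommGrpCat.{u}} (f : F ⟶ F')
    (R : InjectiveResolution F) (R' : InjectiveResolution F') : InjectiveResolution.Hom R R' f where
  hom := InjectiveResolution.desc f R' R
  ι_f_zero_comp_hom_f_zero := by
    simpa using InjectiveResolution.desc_commutes_zero f R' R

/-- the natural isomorphism. -/
noncomputable def natIso :
    (u.sheafPushforwardContinuous AddCommGrpCat.{u} K J).rightDerived i ≅ tgt J K u i :=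
  NatIso.ofComponents (fun F => mainIso J K u (injectiveResolution F) i)
    (fun {F F'} f => mainIso_nat J K u i (liftHom J f _ _))

theorem preservesColimit_rightDerived {ι : Type u} [SmallCategory ι]
    (F : ι ⥤ Sheaf J AddCommGrpCat.{u})
    (h : ∀ V : D, ∃ (κ : Type u) (Y : κ → D) (g : ∀ k, Y k ⟶ V), Sieve.ofArrows Y g ∈ K V ∧
      ∀ k, PreservesColimit F
        ((Sheaf.cohomologyPresheafFunctor J i).flip.obj (op (u.obj (Y k))))) :
    PreservesColimit F ((u.sheafPushforwardContinuous AddCommGrpCat.{u} K J).rightDerived i) := by
  have h' : PreservesColimit F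
      ((Sheaf.cohomologyPresheafFunctor J i ⋙ Wh u) ⋙ presheafToSheaf K AddCommGrpCat.{u}) := by
    apply preservesColimit_comp_sheafify
    intro V
    obtain ⟨κ, Y, g, hg, hp⟩ := h V
    refine ⟨κ, Y, g, hg, ?_⟩
    intro k
    exact hp k
  haveI : PreservesColimit F (tgt J K u i) := h'
  exact preservesColimit_of_natIso F (natIso J K u i).symm

end Groth.Agent.H16.CohPush
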