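import Mathlib.CategoryTheory.Subobject.NoetherianObject
import Mathlib.CategoryTheory.Subobject.ArtinianObject
import Mathlib.CategoryTheory.Subobject.Limits
import Mathlib.CategoryTheory.Abelian.SerreClass.Basic
import Mathlib.CategoryTheory.ObjectProperty.FiniteProducts
import Mathlib.CategoryTheory.Abelian.Refinements
import Mathlib.CategoryTheory.Abelian.Basic

set_option autoImplicit false
open CategoryTheory CategoryTheory.Limits Opposite
universe w v u

namespace Groth.Agent.H16.NoethObj

variable {C : Type u} [Category.{v} C] [Abelian C]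

theorem factors_iff_comp_cokernel {X W : C} (S : Subobject X) (f : W ⟶ X) :
    S.Factors f ↔ f ≫ cokernel.π S.arrow = 0 := by
  constructor
  · intro h
    rw [← Subobject.factorThru_arrow S f h, Category.assoc, cokernel.condition, comp_zero]
  · intro h
    rw [Subobject.factors_iff]
    refine ⟨Abelian.monoLift S.arrow f h, ?_⟩
    exact Abelian.monoLift_comp S.arrow f h

theorem factors_of_epi_comp {X W W' : C} (S : Subobject X) (π : W' ⟶ W) [Epi π] (f : W ⟶ X)
    (h : S.Factors (π ≫ f)) : S.Factors f := by
  rw [factors_iff_comp_cokernel] at h ⊢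
  rw [Category.assoc] at h
  exact (cancel_epi π).mp (h.trans comp_zero.symm)

omit [Abelian C] in
theorem le_iff_factors {X : C} (S T : Subobject X) : S ≤ T ↔ T.Factors S.arrow := by
  constructor
  · intro h
    exact Subobject.factors_of_le _ h (Subobject.factors_self S)
  · intro h
    exact Subobject.le_of_comm (T.factorThru S.arrow h) (Subobject.factorThru_arrow _ _ _)

/-- For an epimorphism `p`, pulling back subobjects along `p` reflects the order. -/
theorem le_of_pullback_le_of_epi {X Y : C} (p : X ⟶ Y) [Epi p] (S T : Subobject Y)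
    (h : (Subobject.pullback p).obj S ≤ (Subobject.pullback p).obj T) : S ≤ T := by
  rw [le_iff_factors]
  have h1 : ((Subobject.pullback p).obj T).Factors ((Subobject.pullback p).obj S).arrow :=
    (le_iff_factors _ _).mp h
  rw [pullback_factors_iff] at h1
  have sq := (Subobject.isPullback p S)
  have : Epi (Subobject.pullbackπ p S) :=
    Abelian.epi_fst_of_isLimit S.arrow p sq.isLimit
  rw [← sq.w] at h1
  exact factors_of_epi_comp T _ _ h1

/-- Key lemma: in a short exact sequence, a pair of subobjects `U ≤ V` of the middle term with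
the same trace on the sub and the same image in the quotient are equal. -/
theorem le_of_pullback_le_of_image_le (S : ShortComplex C) (hS : S.ShortExact)
    (U V : Subobject S.X₂) (hUV : U ≤ V)
    (h₁ : (Subobject.pullback S.f).obj V ≤ (Subobject.pullback S.f).obj U)
    (h₃ : imageSubobject (V.arrow ≫ S.g) ≤ imageSubobject (U.arrow ≫ S.g)) : V ≤ U := by
  have := hS.mono_f
  rw [le_iff_factors]
  obtain ⟨A', π, hπ, x', hx'⟩ := surjective_up_to_refinements_of_epi
    (factorThruImageSubobject (U.arrow ≫ S.g))
    (factorThruImageSubobject (V.arrow ≫ S.g) ≫ Subobject.ofLE _ _ h₃)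
  have e1 : π ≫ V.arrow ≫ S.g = x' ≫ U.arrow ≫ S.g := by
    have := congrArg (fun t => t ≫ (imageSubobject (U.arrow ≫ S.g)).arrow) hx'
    simp only [Category.assoc, Subobject.ofLE_arrow, imageSubobject_arrow_comp] at this
    exact this
  have e2 : (π ≫ V.arrow - x' ≫ U.arrow) ≫ S.g = 0 := by
    rw [Preadditive.sub_comp, Category.assoc, Category.assoc, e1, sub_self]
  have e3 := hS.exact.lift_f _ e2
  set k := hS.exact.lift _ e2
  have f1 : V.Factors (k ≫ S.f) := by
    rw [e3, sub_eq_add_neg]
    apply Subobject.factors_add
    · exact Subobject.factors_comp_arrow π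
    · rw [← Preadditive.neg_comp]
      exact Subobject.factors_of_le _ hUV (Subobject.factors_comp_arrow _)
  have f2 : U.Factors (k ≫ S.f) := by
    rw [← pullback_factors_iff] at f1 ⊢
    exact Subobject.factors_of_le _ h₁ f1
  apply factors_of_epi_comp U π
  have e4 : π ≫ V.arrow = k ≫ S.f + x' ≫ U.arrow := by
    rw [e3]; abel
  rw [e4]
  exact Subobject.factors_add _ _ f2 (Subobject.factors_comp_arrow _)

omit [Abelian C] in
theorem isNoetherianObject_iff_wf (X : C) :
    IsNoetherianObject X ↔ WellFoundedGT (Subobject X) := by
  dsimp only [IsNoetherianObject]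
  rw [ObjectProperty.is_iff]
  rfl

omit [Abelian C] in
theorem isArtinianObject_iff_wf (X : C) :
    IsArtinianObject X ↔ WellFoundedLT (Subobject X) := by
  dsimp only [IsArtinianObject]
  rw [ObjectProperty.is_iff]
  rfl

theorem strictMono_pullback_of_epi {X Y : C} (p : X ⟶ Y) [Epi p] :
    StrictMono (fun S : Subobject Y => (Subobject.pullback p).obj S) := by
  intro S T hST
  refine lt_of_le_of_ne ((Subobject.pullback p).monotone hST.le) ?_
  intro h
  exact absurd (le_of_pullback_le_of_epi p T S h.ge) (not_le_of_gt hST)

/-- the trace/image map of a short exact sequence -/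
noncomputable def traceImage (S : ShortComplex C) (U : Subobject S.X₂) :
    Subobject S.X₁ × Subobject S.X₃ :=
  ((Subobject.pullback S.f).obj U, imageSubobject (U.arrow ≫ S.g))

theorem traceImage_mono (S : ShortComplex C) : Monotone (traceImage S) := by
  intro U V h
  refine ⟨(Subobject.pullback S.f).monotone h, ?_⟩
  change imageSubobject (U.arrow ≫ S.g) ≤ imageSubobject (V.arrow ≫ S.g)
  rw [← Subobject.ofLE_arrow h, Category.assoc]
  exact imageSubobject_comp_le _ _

theorem traceImage_strictMono (S : ShortComplex C) (hS : S.ShortExact) :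
    StrictMono (traceImage S) := by
  intro U V hUV
  refine lt_of_le_of_ne (traceImage_mono S hUV.le) ?_
  intro h
  have h' : traceImage S V ≤ traceImage S U := h.ge
  exact absurd (le_of_pullback_le_of_image_le S hS U V hUV.le h'.1 h'.2) (not_le_of_gt hUV)

theorem isNoetherianObject_of_epi {X Y : C} (p : X ⟶ Y) [Epi p] [IsNoetherianObject X] :
    IsNoetherianObject Y := by
  rw [isNoetherianObject_iff_wf]
  have : WellFoundedGT (Subobject X) := inferInstance
  exact (strictMono_pullback_of_epi p).wellFoundedGT

theorem isArtinianObject_of_epi {X Y : C} (p : X ⟶ Y) [Epi p] [IsArtinianObject X] :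
    IsArtinianObject Y := by
  rw [isArtinianObject_iff_wf]
  have : WellFoundedLT (Subobject X) := inferInstance
  exact (strictMono_pullback_of_epi p).wellFoundedLT

theorem isNoetherianObject_of_shortExact (S : ShortComplex C) (hS : S.ShortExact)
    [IsNoetherianObject S.X₁] [IsNoetherianObject S.X₃] : IsNoetherianObject S.X₂ := by
  rw [isNoetherianObject_iff_wf]
  have : WellFoundedGT (Subobject S.X₁) := inferInstance
  have : WellFoundedGT (Subobject S.X₃) := inferInstance
  exact (traceImage_strictMono S hS).wellFoundedGT

theorem isArtinianObject_of_shortExact (S : ShortComplex C) (hS : S.ShortExact)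
    [IsArtinianObject S.X₁] [IsArtinianObject S.X₃] : IsArtinianObject S.X₂ := by
  rw [isArtinianObject_iff_wf]
  have : WellFoundedLT (Subobject S.X₁) := inferInstance
  have : WellFoundedLT (Subobject S.X₃) := inferInstance
  exact (traceImage_strictMono S hS).wellFoundedLT

instance isNoetherianObject_isSerreClass : (isNoetherianObject (C := C)).IsSerreClass where
  prop_of_epi := by
    intro X Y f _ hX
    have : IsNoetherianObject X := ⟨hX⟩
    exact (isNoetherianObject_of_epi f).1
  prop_X₂_of_shortExact := by
    intro S hS h1 h3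
    have : IsNoetherianObject S.X₁ := ⟨h1⟩
    have : IsNoetherianObject S.X₃ := ⟨h3⟩
    exact (isNoetherianObject_of_shortExact S hS).1

instance isArtinianObject_isSerreClass : (isArtinianObject (C := C)).IsSerreClass where
  prop_of_epi := by
    intro X Y f _ hX
    have : IsArtinianObject X := ⟨hX⟩
    exact (isArtinianObject_of_epi f).1
  prop_X₂_of_shortExact := by
    intro S hS h1 h3
    have : IsArtinianObject S.X₁ := ⟨h1⟩
    have : IsArtinianObject S.X₃ := ⟨h3⟩
    exact (isArtinianObject_of_shortExact S hS).1

section Finite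

variable (P : ObjectProperty C) [P.IsSerreClass]

instance serre_binaryCoproducts : P.IsClosedUnderBinaryCoproducts where
  colimitsOfShape_le := by
    rintro X ⟨h⟩
    let A := h.diag.obj ⟨WalkingPair.left⟩
    let B := h.diag.obj ⟨WalkingPair.right⟩
    have hA : P A := h.prop_diag_obj _
    have hB : P B := h.prop_diag_obj _
    have e : X ≅ A ⊞ B :=
      h.isColimit.coconePointUniqueUpToIso (colimit.isColimit h.diag) ≪≫
        HasColimit.isoOfNatIso (diagramIsoPair h.diag) ≪≫ (biprod.isoCoprod A B).symm
    exact P.prop_of_iso e.symm (P.prop_biprod hA hB)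

instance serre_finiteCoproducts : P.IsClosedUnderFiniteCoproducts :=
  ObjectProperty.IsClosedUnderFiniteCoproducts.mk'

theorem serre_prop_sigma {ι : Type w} [Finite ι] (f : ι → C) [HasCoproduct f]
    (h : ∀ i, P (f i)) : P (∐ f) :=
  P.prop_coproduct h

end Finite

theorem isNoetherianObject_sigma {ι : Type w} [Finite ι] (f : ι → C) [HasCoproduct f]
    (h : ∀ i, IsNoetherianObject (f i)) : IsNoetherianObject (∐ f) :=
  ⟨serre_prop_sigma isNoetherianObject f (fun i => (h i).1)⟩

theorem isArtinianObject_sigma {ι : Type w} [Finite ι] (f : ι → C) [HasCoproduct f]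
    (h : ∀ i, IsArtinianObject (f i)) : IsArtinianObject (∐ f) :=
  ⟨serre_prop_sigma isArtinianObject f (fun i => (h i).1)⟩

end Groth.Agent.H16.NoethObj
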