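import Mathlib

/-!
# Products in the homotopy category of complexes (dual of `Groth.Agent.H33.HoCoprod`) (helper16)

The image in the homotopy category of a product of complexes is a product.
-/

set_option autoImplicit false
universe w v u
open CategoryTheory CategoryTheory.Limits

namespace Groth.Agent.H16.HoProd

variable {A : Type u} [Category.{v} A] [Preadditive A] {ι : Type*} {c : ComplexShape ι}

section

variable {J : Type w} [HasProductsOfShape J A]

/-- degreewise limit fan of a product of complexes -/
noncomputable def isLimitEval (K : J → HomologicalComplex A c) (p : ι) :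
    IsLimit (Fan.mk ((∏ᶜ K).X p) (fun j => (Pi.π K j).f p)) :=
  isLimitOfHasProductOfPreservesLimit (HomologicalComplex.eval A c p) K

/-- Assemble homotopies on the components of a product. -/
noncomputable def piHomotopy (K : J → HomologicalComplex A c) {Y : HomologicalComplex A c}
    (m n : Y ⟶ ∏ᶜ K) (h : ∀ j, Homotopy (m ≫ Pi.π K j) (n ≫ Pi.π K j)) :
    Homotopy m n where
  hom p q := Fan.IsLimit.lift (isLimitEval K q) (fun j => (h j).hom p q)
  zero p q hpq := by
    apply Fan.IsLimit.hom_ext (isLimitEval K q)
    intro j
    rw [Fan.IsLimit.fac]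
    simp [(h j).zero p q hpq]
  comm p := by
    apply Fan.IsLimit.hom_ext (isLimitEval K p)
    intro j
    have hj := (h j).comm p
    simp only [HomologicalComplex.comp_f] at hj
    show m.f p ≫ (Pi.π K j).f p = _ ≫ (Pi.π K j).f p
    rw [hj]
    simp only [Preadditive.add_comp]
    congr 2
    · by_cases hp : c.Rel p (c.next p)
      · rw [dNext_eq _ hp, dNext_eq _ hp, Category.assoc]
        congr 1
        exact (Fan.IsLimit.fac (isLimitEval K p)
          (fun j => (h j).hom (c.next p) p) j).symm
      · rw [dNext_eq_zero _ _ hp, dNext_eq_zero _ _ hp, zero_comp]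
    · by_cases hp : c.Rel (c.prev p) p
      · rw [prevD_eq _ hp, prevD_eq _ hp, Category.assoc, ← (Pi.π K j).comm, ← Category.assoc]
        congr 1
        exact (Fan.IsLimit.fac (isLimitEval K (c.prev p))
          (fun j => (h j).hom p (c.prev p)) j).symm
      · rw [prevD_eq_zero _ _ hp, prevD_eq_zero _ _ hp, zero_comp]

/-- The image in the homotopy category of a product of complexes is a product. -/
noncomputable def isLimitQuotient (K : J → HomologicalComplex A c) :
    IsLimit (Fan.mk ((HomotopyCategory.quotient A c).obj (∏ᶜ K))
      (fun j => (HomotopyCategory.quotient A c).map (Pi.π K j))) := by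
  apply IsLimit.ofExistsUnique
  intro s
  obtain ⟨P, π'⟩ := s
  obtain ⟨Y, rfl⟩ := HomotopyCategory.quotient_obj_surjective P
  have hf : ∀ j, ∃ f : Y ⟶ K j,
      (HomotopyCategory.quotient A c).map f = π'.app ⟨j⟩ := fun j =>
    (HomotopyCategory.quotient A c).map_surjective (π'.app ⟨j⟩)
  choose f hf using hf
  refine ⟨(HomotopyCategory.quotient A c).map (Pi.lift f), ?_, ?_⟩
  · rintro ⟨j⟩
    show _ ≫ (HomotopyCategory.quotient A c).map (Pi.π K j) = _
    rw [← Functor.map_comp, Pi.lift_π, hf]
  · intro m hm
    obtain ⟨m', rfl⟩ := (HomotopyCategory.quotient A c).map_surjective m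
    apply HomotopyCategory.eq_of_homotopy
    apply piHomotopy
    intro j
    apply HomotopyCategory.homotopyOfEq
    have := hm ⟨j⟩
    rw [Functor.map_comp, Functor.map_comp]
    refine this.trans ?_
    rw [← Functor.map_comp, Pi.lift_π, hf]

end

end Groth.Agent.H16.HoProd
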