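import Groth.Agent.H5.AcyclicCoprod
import Groth.Agent.H16.HoProd
import Mathlib.CategoryTheory.Abelian.Exact

/-!
# Products of exact complexes are exact when products preserve epimorphisms (helper16)
-/

set_option autoImplicit false
universe w v u
open CategoryTheory CategoryTheory.Limits

namespace Groth.Agent.H16.AcyclicProd

variable {B : Type u} [Category.{v} B] [Abelian B] {J : Type w} [HasProductsOfShape J B]

instance : (lim : (Discrete J ⥤ B) ⥤ B).PreservesZeroMorphisms where
  map_zero F G := by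
    apply limit.hom_ext
    intro j
    simp

lemma preservesHomology_lim [(lim : (Discrete J ⥤ B) ⥤ B).PreservesEpimorphisms] :
    (lim : (Discrete J ⥤ B) ⥤ B).PreservesHomology := by
  haveI : PreservesLimitsOfSize.{0, 0} (lim : (Discrete J ⥤ B) ⥤ B) :=
    (constLimAdj : (Functor.const (Discrete J) : B ⥤ _) ⊣ lim).rightAdjoint_preservesLimits
  exact Functor.preservesHomology_of_preservesEpis_and_kernels _

lemma exactAt_pi [(lim : (Discrete J ⥤ B) ⥤ B).PreservesEpimorphisms]
    (X : J → CochainComplex B ℤ) (hX : ∀ p n, (X p).ExactAt n) (n : ℤ) : (∏ᶜ X).ExactAt n := by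
  rw [HomologicalComplex.exactAt_iff' _ (n - 1) n (n + 1) (by simp) (by simp)]
  let S : ShortComplex (Discrete J ⥤ B) :=
    ShortComplex.mk (X₁ := Discrete.functor (fun p => (X p).X (n - 1)))
      (X₂ := Discrete.functor (fun p => (X p).X n)) (X₃ := Discrete.functor (fun p => (X p).X (n + 1)))
      (Discrete.natTrans (fun p => (X p.as).d (n - 1) n))
      (Discrete.natTrans (fun p => (X p.as).d n (n + 1))) (by ext p; simp)
  have hS : S.Exact := by
    apply Groth.Agent.H5.AcyclicCoprod.exact_of_eval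
    intro p
    have := (HomologicalComplex.exactAt_iff' _ (n - 1) n (n + 1) (by simp) (by simp)).1 (hX p.as n)
    exact this
  haveI := preservesHomology_lim (B := B) (J := J)
  have h := hS.map (lim : (Discrete J ⥤ B) ⥤ B)
  have hc : ∀ k : ℤ, IsLimit (Fan.mk ((∏ᶜ X).X k) (fun p => (Pi.π X p).f k)) := fun k =>
    Groth.Agent.H16.HoProd.isLimitEval X k
  let e : ∀ k : ℤ, limit (Discrete.functor (fun p => (X p).X k)) ≅ (∏ᶜ X).X k := fun k =>
    IsLimit.conePointUniqueUpToIso (limit.isLimit _) (hc k)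
  have he : ∀ (k : ℤ) (p : J), (e k).hom ≫ (Pi.π X p).f k =
      limit.π (Discrete.functor (fun p => (X p).X k)) (Discrete.mk p) := fun k p =>
    IsLimit.conePointUniqueUpToIso_hom_comp (limit.isLimit _) (hc k) (Discrete.mk p)
  refine (ShortComplex.exact_iff_of_iso ?_).1 h
  refine ShortComplex.isoMk (e (n - 1)) (e n) (e (n + 1)) ?_ ?_
  · apply Fan.IsLimit.hom_ext (hc n)
    intro p
    symm
    change (limMap S.f ≫ (e n).hom) ≫ (Pi.π X p).f n =
      ((e (n - 1)).hom ≫ (∏ᶜ X).d (n - 1) n) ≫ (Pi.π X p).f n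
    rw [Category.assoc, he, Category.assoc, ← (Pi.π X p).comm, ← Category.assoc, he, limMap_π]
    rfl
  · apply Fan.IsLimit.hom_ext (hc (n + 1))
    intro p
    symm
    change (limMap S.g ≫ (e (n + 1)).hom) ≫ (Pi.π X p).f (n + 1) =
      ((e n).hom ≫ (∏ᶜ X).d n (n + 1)) ≫ (Pi.π X p).f (n + 1)
    rw [Category.assoc, he, Category.assoc, ← (Pi.π X p).comm, ← Category.assoc, he, limMap_π]
    rfl

end Groth.Agent.H16.AcyclicProd
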