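import Mathlib.CategoryTheory.Abelian.RightDerived
import Mathlib.CategoryTheory.Abelian.Refinements
import Mathlib.Algebra.Homology.HomologicalComplex
import Mathlib.CategoryTheory.ObjectProperty.Basic
import Mathlib.Algebra.Homology.QuasiIso

/-!
# Adapted classes: sequence-level constructions

Given an exact sequence `K⁰ → K¹ → …` (with `K⁰ → K¹` mono) each of whose terms is a retract of
an object `Wⁿ`, we build an exact sequence `K'` with terms `W⁰`, `Wⁿ⁺¹ ⊞ Wⁿ` of which `K` is a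
retract.
-/

universe v u

open CategoryTheory CategoryTheory.Limits

namespace Groth.Agent.H16.Adapted

variable {A : Type u} [Category.{v} A] [Abelian A]

section Seq

variable {KX : ℕ → A} (Kd : ∀ n, KX n ⟶ KX (n + 1)) {W : ℕ → A}
  (i : ∀ n, KX n ⟶ W n) (r : ∀ n, W n ⟶ KX n)

/-- The differential transported to `W`. -/
def dW (n : ℕ) : W n ⟶ W (n + 1) := r n ≫ Kd n ≫ i (n + 1)

/-- The complementary idempotent on `W n`. -/
def qW (n : ℕ) : W n ⟶ W n := 𝟙 _ - r n ≫ i n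

variable (hir : ∀ n, i n ≫ r n = 𝟙 _) (sqK : ∀ n, Kd n ≫ Kd (n + 1) = 0)

include hir in
lemma i_dW (n : ℕ) : i n ≫ dW Kd i r n = Kd n ≫ i (n + 1) := by
  simp [dW, reassoc_of% (hir n)]

include hir in
lemma dW_r (n : ℕ) : dW Kd i r n ≫ r (n + 1) = r n ≫ Kd n := by
  simp [dW, hir (n + 1)]

include hir sqK in
lemma dW_dW (n : ℕ) : dW Kd i r n ≫ dW Kd i r (n + 1) = 0 := by
  simp [dW, reassoc_of% (hir (n + 1)), reassoc_of% (sqK n)]

include hir in
lemma i_qW (n : ℕ) : i n ≫ qW i r n = 0 := by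
  simp [qW, Preadditive.comp_sub, reassoc_of% (hir n)]

include hir in
lemma qW_r (n : ℕ) : qW i r n ≫ r n = 0 := by
  simp [qW, Preadditive.sub_comp, hir n]

include hir in
lemma qW_dW (n : ℕ) : qW i r n ≫ dW Kd i r n = 0 := by
  simp [dW, reassoc_of% (qW_r i r hir n)]

include hir in
lemma dW_qW (n : ℕ) : dW Kd i r n ≫ qW i r (n + 1) = 0 := by
  simp [dW, i_qW i r hir (n + 1)]

include hir in
lemma qW_qW (n : ℕ) : qW i r n ≫ qW i r n = qW i r n := by
  have h := qW_r i r hir n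
  nth_rw 2 [qW]
  rw [Preadditive.comp_sub, Category.comp_id, reassoc_of% h, zero_comp, sub_zero]

lemma p_add_q (n : ℕ) : r n ≫ i n + qW i r n = 𝟙 _ := by
  simp [qW]

/-- The first differential of the auxiliary sequence. -/
noncomputable def d0 : W 0 ⟶ W (0 + 1) ⊞ W 0 :=
  biprod.lift (dW Kd i r 0) (qW i r 0)

/-- The higher differentials of the auxiliary sequence. -/
noncomputable def dS (n : ℕ) : W (n + 1) ⊞ W n ⟶ W (n + 1 + 1) ⊞ W (n + 1) :=
  biprod.lift (biprod.fst ≫ dW Kd i r (n + 1))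
    (biprod.fst ≫ qW i r (n + 1) - biprod.snd ≫ dW Kd i r n)

@[reassoc]
lemma d0_fst : d0 Kd i r ≫ biprod.fst = dW Kd i r 0 :=
  biprod.lift_fst _ _

@[reassoc]
lemma d0_snd : d0 Kd i r ≫ biprod.snd = qW i r 0 :=
  biprod.lift_snd _ _

@[reassoc]
lemma dS_fst (n : ℕ) : dS Kd i r n ≫ biprod.fst = biprod.fst ≫ dW Kd i r (n + 1) :=
  biprod.lift_fst _ _

@[reassoc]
lemma dS_snd (n : ℕ) : dS Kd i r n ≫ biprod.snd =
    biprod.fst ≫ qW i r (n + 1) - biprod.snd ≫ dW Kd i r n :=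
  biprod.lift_snd _ _

include hir sqK in
lemma d0_dS : d0 Kd i r ≫ dS Kd i r 0 = 0 := by
  apply biprod.hom_ext
  · rw [Category.assoc, dS_fst, d0_fst_assoc, dW_dW Kd i r hir sqK, zero_comp]
  · rw [Category.assoc, dS_snd, Preadditive.comp_sub, d0_fst_assoc, d0_snd_assoc,
      dW_qW Kd i r hir, qW_dW Kd i r hir, sub_zero, zero_comp]

include hir sqK in
lemma dS_dS (n : ℕ) : dS Kd i r n ≫ dS Kd i r (n + 1) = 0 := by
  apply biprod.hom_ext
  · rw [Category.assoc, dS_fst, dS_fst_assoc, dW_dW Kd i r hir sqK, comp_zero, zero_comp]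
  · rw [Category.assoc, dS_snd, Preadditive.comp_sub, dS_fst_assoc, dS_snd_assoc,
      dW_qW Kd i r hir, comp_zero, Preadditive.sub_comp, Category.assoc, Category.assoc,
      qW_dW Kd i r hir, dW_dW Kd i r hir sqK, comp_zero, comp_zero, sub_zero, sub_zero,
      zero_comp]

end Seq

end Groth.Agent.H16.Adapted
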