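import Groth.Agent.H16.AdaptedA

/-!
# Adapted classes: exactness of the auxiliary sequence
-/

universe v u

open CategoryTheory CategoryTheory.Limits

namespace Groth.Agent.H16.Adapted

variable {A : Type u} [Category.{v} A] [Abelian A]

section Seq

variable {KX : ℕ → A} (Kd : ∀ n, KX n ⟶ KX (n + 1)) {W : ℕ → A}
  (i : ∀ n, KX n ⟶ W n) (r : ∀ n, W n ⟶ KX n)
  (hir : ∀ n, i n ≫ r n = 𝟙 _) (sqK : ∀ n, Kd n ≫ Kd (n + 1) = 0)

include hir in
lemma comp_p {T : A} (n : ℕ) (a : T ⟶ W n) (ha : a ≫ qW i r n = 0) : a ≫ r n ≫ i n = a := by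
  have h := p_add_q i r n
  calc a ≫ r n ≫ i n = a ≫ (r n ≫ i n + qW i r n) := by
        rw [Preadditive.comp_add, ha, add_zero]
    _ = a := by rw [h, Category.comp_id]

include hir in
lemma comp_q {T : A} (n : ℕ) (b : T ⟶ W n) (hb : b ≫ r n = 0) : b ≫ qW i r n = b := by
  have h := p_add_q i r n
  calc b ≫ qW i r n = b ≫ (r n ≫ i n + qW i r n) := by
        rw [Preadditive.comp_add, reassoc_of% hb, zero_comp, zero_add]
    _ = b := by rw [h, Category.comp_id]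

include hir in
/-- From a cocycle condition, the two components separate. -/
lemma separate {T : A} (n : ℕ) (a : T ⟶ W (n + 1)) (b : T ⟶ W n)
    (h : a ≫ qW i r (n + 1) - b ≫ dW Kd i r n = 0) :
    a ≫ qW i r (n + 1) = 0 ∧ b ≫ dW Kd i r n = 0 := by
  have h1 : a ≫ qW i r (n + 1) = b ≫ dW Kd i r n := sub_eq_zero.1 h
  have h2 : a ≫ qW i r (n + 1) = 0 := by
    calc a ≫ qW i r (n + 1) = a ≫ qW i r (n + 1) ≫ qW i r (n + 1) := by rw [qW_qW i r hir]
      _ = (b ≫ dW Kd i r n) ≫ qW i r (n + 1) := by rw [← Category.assoc, h1]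
      _ = 0 := by rw [Category.assoc, dW_qW Kd i r hir, comp_zero]
  exact ⟨h2, by rw [← h1, h2]⟩

include hir in
lemma mono_d0 (hK0 : Mono (Kd 0)) : Mono (d0 Kd i r) := by
  apply Preadditive.mono_of_cancel_zero
  intro T z hz
  have h1 : z ≫ dW Kd i r 0 = 0 := by
    rw [← d0_fst Kd i r, ← Category.assoc, hz, zero_comp]
  have h2 : z ≫ qW i r 0 = 0 := by
    rw [← d0_snd Kd i r, ← Category.assoc, hz, zero_comp]
  have h3 : (z ≫ r 0) ≫ Kd 0 = 0 := by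
    rw [Category.assoc, ← dW_r Kd i r hir, reassoc_of% h1, zero_comp]
  have h4 : z ≫ r 0 = 0 := by
    rw [← cancel_mono (Kd 0), h3, zero_comp]
  rw [← comp_p i r hir 0 z h2, reassoc_of% h4, zero_comp]

include hir sqK in
lemma core_zero (hK0 : Mono (Kd 0))
    (hKex : ∀ n, (ShortComplex.mk (Kd n) (Kd (n + 1)) (sqK n)).Exact)
    {T : A} (a : T ⟶ W (0 + 1)) (b : T ⟶ W 0) (ha1 : a ≫ dW Kd i r (0 + 1) = 0)
    (hab : a ≫ qW i r (0 + 1) - b ≫ dW Kd i r 0 = 0) :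
    ∃ (T' : A) (π : T' ⟶ T) (_ : Epi π) (a' : T' ⟶ W 0),
      π ≫ a = a' ≫ dW Kd i r 0 ∧ π ≫ b = a' ≫ qW i r 0 := by
  obtain ⟨haq, hbd⟩ := separate Kd i r hir 0 a b hab
  have h3 : (a ≫ r (0 + 1)) ≫ Kd (0 + 1) = 0 := by
    rw [Category.assoc, ← dW_r Kd i r hir, reassoc_of% ha1, zero_comp]
  obtain ⟨T', π, hπ, k, hk⟩ := (hKex 0).exact_up_to_refinements _ h3
  dsimp at k hk
  have h4 : (b ≫ r 0) ≫ Kd 0 = 0 := by
    rw [Category.assoc, ← dW_r Kd i r hir, reassoc_of% hbd, zero_comp]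
  have h5 : b ≫ r 0 = 0 := by
    rw [← cancel_mono (Kd 0), h4, zero_comp]
  have h6 := comp_q i r hir 0 b h5
  have h7 := comp_p i r hir (0 + 1) a haq
  refine ⟨T', π, hπ, k ≫ i 0 + π ≫ b, ?_, ?_⟩
  · rw [Preadditive.add_comp, Category.assoc, i_dW Kd i r hir, ← reassoc_of% hk,
      Category.assoc, hbd, comp_zero, add_zero, h7]
  · rw [Preadditive.add_comp, Category.assoc, i_qW i r hir, comp_zero, zero_add,
      Category.assoc, h6]

include hir sqK in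
lemma core_succ
    (hKex : ∀ n, (ShortComplex.mk (Kd n) (Kd (n + 1)) (sqK n)).Exact) (n : ℕ)
    {T : A} (a : T ⟶ W (n + 1 + 1)) (b : T ⟶ W (n + 1))
    (ha1 : a ≫ dW Kd i r (n + 1 + 1) = 0)
    (hab : a ≫ qW i r (n + 1 + 1) - b ≫ dW Kd i r (n + 1) = 0) :
    ∃ (T' : A) (π : T' ⟶ T) (_ : Epi π) (a' : T' ⟶ W (n + 1)) (b' : T' ⟶ W n),
      π ≫ a = a' ≫ dW Kd i r (n + 1) ∧
        π ≫ b = a' ≫ qW i r (n + 1) - b' ≫ dW Kd i r n := by
  obtain ⟨haq, hbd⟩ := separate Kd i r hir (n + 1) a b hab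
  have h3 : (a ≫ r (n + 1 + 1)) ≫ Kd (n + 1 + 1) = 0 := by
    rw [Category.assoc, ← dW_r Kd i r hir, reassoc_of% ha1, zero_comp]
  obtain ⟨T₁, π₁, hπ₁, k, hk⟩ := (hKex (n + 1)).exact_up_to_refinements _ h3
  dsimp at k hk
  have h4 : (π₁ ≫ b ≫ r (n + 1)) ≫ Kd (n + 1) = 0 := by
    rw [Category.assoc, Category.assoc, ← dW_r Kd i r hir, reassoc_of% hbd, zero_comp,
      comp_zero]
  obtain ⟨T₂, π₂, hπ₂, k', hk'⟩ := (hKex n).exact_up_to_refinements _ h4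
  dsimp at k' hk'
  haveI := hπ₁
  haveI := hπ₂
  have h7 := comp_p i r hir (n + 1 + 1) a haq
  have hpq := p_add_q i r (n + 1)
  have e1 : (k ≫ i (n + 1) + π₁ ≫ b ≫ qW i r (n + 1)) ≫ dW Kd i r (n + 1) = π₁ ≫ a := by
    rw [Preadditive.add_comp, Category.assoc, i_dW Kd i r hir, ← reassoc_of% hk,
      Category.assoc, Category.assoc, qW_dW Kd i r hir, comp_zero, comp_zero, add_zero, h7]
  have e2 : (k ≫ i (n + 1) + π₁ ≫ b ≫ qW i r (n + 1)) ≫ qW i r (n + 1) =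
      π₁ ≫ b ≫ qW i r (n + 1) := by
    rw [Preadditive.add_comp, Category.assoc, i_qW i r hir, comp_zero, zero_add,
      Category.assoc, Category.assoc, qW_qW i r hir]
  have e3 : (k' ≫ i n) ≫ dW Kd i r n = π₂ ≫ π₁ ≫ b ≫ r (n + 1) ≫ i (n + 1) := by
    rw [Category.assoc, i_dW Kd i r hir, ← reassoc_of% hk']
  refine ⟨T₂, π₂ ≫ π₁, epi_comp π₂ π₁, π₂ ≫ (k ≫ i (n + 1) + π₁ ≫ b ≫ qW i r (n + 1)),
    -(k' ≫ i n), ?_, ?_⟩
  · rw [Category.assoc, Category.assoc, e1]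
  · rw [Preadditive.neg_comp, sub_neg_eq_add, Category.assoc, Category.assoc, e2, e3,
      ← Preadditive.comp_add, ← Preadditive.comp_add, ← Preadditive.comp_add,
      add_comm (qW i r (n + 1)) _, hpq, Category.comp_id]

include hir sqK in
lemma exact_zero (hK0 : Mono (Kd 0))
    (hKex : ∀ n, (ShortComplex.mk (Kd n) (Kd (n + 1)) (sqK n)).Exact) :
    (ShortComplex.mk (d0 Kd i r) (dS Kd i r 0) (d0_dS Kd i r hir sqK)).Exact := by
  rw [ShortComplex.exact_iff_exact_up_to_refinements]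
  intro T z hz
  dsimp at z hz
  have ha1 : (z ≫ biprod.fst) ≫ dW Kd i r (0 + 1) = 0 := by
    rw [Category.assoc, ← dS_fst, reassoc_of% hz, zero_comp]
  have hab : (z ≫ biprod.fst) ≫ qW i r (0 + 1) - (z ≫ biprod.snd) ≫ dW Kd i r 0 = 0 := by
    rw [Category.assoc, Category.assoc, ← Preadditive.comp_sub, ← dS_snd, reassoc_of% hz,
      zero_comp]
  obtain ⟨T', π, hπ, a', h1, h2⟩ := core_zero Kd i r hir sqK hK0 hKex _ _ ha1 hab
  refine ⟨T', π, hπ, a', ?_⟩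
  dsimp
  apply biprod.hom_ext
  · rw [Category.assoc, Category.assoc, d0_fst, h1]
  · rw [Category.assoc, Category.assoc, d0_snd, h2]

include hir sqK in
lemma exact_succ
    (hKex : ∀ n, (ShortComplex.mk (Kd n) (Kd (n + 1)) (sqK n)).Exact) (n : ℕ) :
    (ShortComplex.mk (dS Kd i r n) (dS Kd i r (n + 1)) (dS_dS Kd i r hir sqK n)).Exact := by
  rw [ShortComplex.exact_iff_exact_up_to_refinements]
  intro T z hz
  dsimp at z hz
  have ha1 : (z ≫ biprod.fst) ≫ dW Kd i r (n + 1 + 1) = 0 := by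
    rw [Category.assoc, ← dS_fst, reassoc_of% hz, zero_comp]
  have hab : (z ≫ biprod.fst) ≫ qW i r (n + 1 + 1) -
      (z ≫ biprod.snd) ≫ dW Kd i r (n + 1) = 0 := by
    rw [Category.assoc, Category.assoc, ← Preadditive.comp_sub, ← dS_snd, reassoc_of% hz,
      zero_comp]
  obtain ⟨T', π, hπ, a', b', h1, h2⟩ := core_succ Kd i r hir sqK hKex n _ _ ha1 hab
  refine ⟨T', π, hπ, biprod.lift a' b', ?_⟩
  dsimp
  apply biprod.hom_ext
  · rw [Category.assoc, Category.assoc, dS_fst, biprod.lift_fst_assoc, h1]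
  · rw [Category.assoc, Category.assoc, dS_snd, Preadditive.comp_sub, biprod.lift_fst_assoc,
      biprod.lift_snd_assoc, h2]

end Seq

end Groth.Agent.H16.Adapted
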