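import Groth.Agent.H16.AdaptedB
import Mathlib.CategoryTheory.Abelian.Injective.Resolution

/-!
# Adapted classes: members are right acyclic
-/

universe v' u' v u

open CategoryTheory CategoryTheory.Limits

namespace Groth.Agent.H16.Adapted

variable {A : Type u} [Category.{v} A] [Abelian A]

section Cx

variable {X : ℕ → A} (d : ∀ n, X n ⟶ X (n + 1)) (sq : ∀ n, d n ≫ d (n + 1) = 0)

lemma of_acyclic (h0 : Mono (d 0))
    (hex : ∀ n, (ShortComplex.mk (d n) (d (n + 1)) (sq n)).Exact) :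
    (CochainComplex.of X d sq).Acyclic := by
  intro j
  cases j with
  | zero =>
    rw [HomologicalComplex.exactAt_iff' _ 0 0 1 (by simp) (by simp)]
    have hf : ((CochainComplex.of X d sq).sc' 0 0 1).f = 0 :=
      (CochainComplex.of X d sq).shape 0 0 (by simp)
    rw [ShortComplex.exact_iff_mono _ hf]
    change Mono ((CochainComplex.of X d sq).d 0 1)
    have e : (CochainComplex.of X d sq).d 0 1 = d 0 := CochainComplex.of_d X d 0
    rw [e]
    exact h0
  | succ n =>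
    rw [HomologicalComplex.exactAt_iff' _ n (n + 1) (n + 1 + 1) (by simp) (by simp)]
    refine ShortComplex.exact_of_iso ?_ (hex n)
    refine ShortComplex.isoMk (Iso.refl _) (Iso.refl _) (Iso.refl _) ?_ ?_
    · have e : (CochainComplex.of X d sq).d n (n + 1) = d n := CochainComplex.of_d X d n
      exact (Category.id_comp _).trans (e.trans (Category.comp_id _).symm)
    · have e : (CochainComplex.of X d sq).d (n + 1) (n + 1 + 1) = d (n + 1) :=
        CochainComplex.of_d X d (n + 1)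
      exact (Category.id_comp _).trans (e.trans (Category.comp_id _).symm)

lemma exact_of_acyclic (K : CochainComplex A ℕ) (hK : K.Acyclic) (n : ℕ) :
    (ShortComplex.mk (K.d n (n + 1)) (K.d (n + 1) (n + 1 + 1))
      (K.d_comp_d n (n + 1) (n + 1 + 1))).Exact :=
  (HomologicalComplex.exactAt_iff' _ n (n + 1) (n + 1 + 1) (by simp) (by simp)).1 (hK (n + 1))

end Cx

lemma exact_of_retract {B : Type u'} [Category.{v'} B] [Abelian B] {S S' : ShortComplex B}
    (s : S ⟶ S') (t : S' ⟶ S) (h : s ≫ t = 𝟙 S) (hS' : S'.Exact) : S.Exact := by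
  rw [ShortComplex.exact_iff_isZero_homology] at hS' ⊢
  rw [IsZero.iff_id_eq_zero, ← ShortComplex.homologyMap_id, ← h, ShortComplex.homologyMap_comp,
    hS'.eq_of_tgt (ShortComplex.homologyMap s) 0, zero_comp]

section Main

variable {B : Type u'} [Category.{v'} B] [Abelian B] (f : A ⥤ B) [f.Additive]
  (𝒪 : ObjectProperty A)
  (h0 : ∀ X Y : A, 𝒪 X → 𝒪 Y → 𝒪 (X ⊞ Y))
  (h1 : ∀ K : CochainComplex A ℕ, (∀ i, 𝒪 (K.X i)) → K.Acyclic →
      ((f.mapHomologicalComplex (ComplexShape.up ℕ)).obj K).Acyclic)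

variable {KX : ℕ → A} (Kd : ∀ n, KX n ⟶ KX (n + 1)) {W : ℕ → A}
  (i : ∀ n, KX n ⟶ W n) (r : ∀ n, W n ⟶ KX n)
  (hir : ∀ n, i n ≫ r n = 𝟙 _) (sqK : ∀ n, Kd n ≫ Kd (n + 1) = 0)

/-- The terms of the auxiliary sequence. -/
noncomputable def X' (W : ℕ → A) : ℕ → A
  | 0 => W 0
  | (n + 1) => W (n + 1) ⊞ W n

/-- The differentials of the auxiliary sequence. -/
noncomputable def d' : ∀ n : ℕ, X' W n ⟶ X' W (n + 1)
  | 0 => d0 Kd i r
  | (n + 1) => dS Kd i r n

include hir sqK in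
lemma sq' : ∀ n : ℕ, d' Kd i r n ≫ d' Kd i r (n + 1) = 0
  | 0 => d0_dS Kd i r hir sqK
  | (n + 1) => dS_dS Kd i r hir sqK n

include hir in
lemma s_comm (n : ℕ) : (i (n + 1) ≫ biprod.inl) ≫ dS Kd i r n =
    Kd (n + 1) ≫ i (n + 1 + 1) ≫ (biprod.inl : W (n + 1 + 1) ⟶ W (n + 1 + 1) ⊞ W (n + 1)) := by
  apply biprod.hom_ext
  · rw [Category.assoc, Category.assoc, dS_fst, biprod.inl_fst_assoc, i_dW Kd i r hir,
      Category.assoc, Category.assoc, biprod.inl_fst, Category.comp_id]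
  · rw [Category.assoc, Category.assoc, dS_snd, Preadditive.comp_sub, biprod.inl_fst_assoc,
      biprod.inl_snd_assoc, zero_comp, sub_zero, i_qW i r hir, Category.assoc, Category.assoc,
      biprod.inl_snd, comp_zero, comp_zero]

include hir in
lemma t_comm (n : ℕ) : dS Kd i r n ≫ (biprod.fst ≫ r (n + 1 + 1)) =
    ((biprod.fst : W (n + 1) ⊞ W n ⟶ W (n + 1)) ≫ r (n + 1)) ≫ Kd (n + 1) := by
  rw [dS_fst_assoc, dW_r Kd i r hir, Category.assoc]

include hir sqK h0 h1 in
theorem map_exact (hK0 : Mono (Kd 0))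
    (hKex : ∀ n, (ShortComplex.mk (Kd n) (Kd (n + 1)) (sqK n)).Exact)
    (hW : ∀ n, 𝒪 (W n)) (m : ℕ) :
    (ShortComplex.mk (f.map (Kd (m + 1))) (f.map (Kd (m + 1 + 1)))
      (by rw [← f.map_comp, sqK, f.map_zero])).Exact := by
  let K' : CochainComplex A ℕ := CochainComplex.of (X' W) (d' Kd i r) (sq' Kd i r hir sqK)
  have hK' : K'.Acyclic := by
    refine of_acyclic _ _ (mono_d0 Kd i r hir hK0) (fun n => ?_)
    cases n with
    | zero => exact exact_zero Kd i r hir sqK hK0 hKex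
    | succ n => exact exact_succ Kd i r hir sqK hKex n
  have h𝒪 : ∀ j, 𝒪 (K'.X j) := fun j => by
    cases j with
    | zero => exact hW 0
    | succ n => exact h0 _ _ (hW (n + 1)) (hW n)
  have E := exact_of_acyclic _ (h1 K' h𝒪 hK') (m + 1)
  have e1 : K'.d (m + 1) (m + 1 + 1) = dS Kd i r m := CochainComplex.of_d _ _ (m + 1)
  have e2 : K'.d (m + 1 + 1) (m + 1 + 1 + 1) = dS Kd i r (m + 1) :=
    CochainComplex.of_d _ _ (m + 1 + 1)
  have E' : (ShortComplex.mk (f.map (dS Kd i r m)) (f.map (dS Kd i r (m + 1)))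
      (by rw [← f.map_comp, dS_dS Kd i r hir sqK, f.map_zero])).Exact := by
    refine ShortComplex.exact_of_iso ?_ E
    refine ShortComplex.isoMk (Iso.refl _) (Iso.refl _) (Iso.refl _) ?_ ?_
    · refine (Category.id_comp _).trans (Eq.trans ?_ (Category.comp_id _).symm)
      exact congrArg f.map e1.symm
    · refine (Category.id_comp _).trans (Eq.trans ?_ (Category.comp_id _).symm)
      exact congrArg f.map e2.symm
  refine exact_of_retract
    (ShortComplex.homMk (f.map (i (m + 1) ≫ biprod.inl)) (f.map (i (m + 1 + 1) ≫ biprod.inl))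
      (f.map (i (m + 1 + 1 + 1) ≫ biprod.inl)) ?_ ?_)
    (ShortComplex.homMk (f.map (biprod.fst ≫ r (m + 1))) (f.map (biprod.fst ≫ r (m + 1 + 1)))
      (f.map (biprod.fst ≫ r (m + 1 + 1 + 1))) ?_ ?_) ?_ E'
  · dsimp
    rw [← f.map_comp, ← f.map_comp, s_comm Kd i r hir m]
  · dsimp
    rw [← f.map_comp, ← f.map_comp, s_comm Kd i r hir (m + 1)]
  · dsimp
    rw [← f.map_comp, ← f.map_comp, t_comm Kd i r hir m]
  · dsimp
    rw [← f.map_comp, ← f.map_comp, t_comm Kd i r hir (m + 1)]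
  · ext
    · change f.map (i (m + 1) ≫ biprod.inl) ≫ f.map (biprod.fst ≫ r (m + 1)) = 𝟙 _
      rw [← f.map_comp, Category.assoc, biprod.inl_fst_assoc, hir, f.map_id]
    · change f.map (i (m + 1 + 1) ≫ biprod.inl) ≫ f.map (biprod.fst ≫ r (m + 1 + 1)) = 𝟙 _
      rw [← f.map_comp, Category.assoc, biprod.inl_fst_assoc, hir, f.map_id]
    · change f.map (i (m + 1 + 1 + 1) ≫ biprod.inl) ≫
        f.map (biprod.fst ≫ r (m + 1 + 1 + 1)) = 𝟙 _
      rw [← f.map_comp, Category.assoc, biprod.inl_fst_assoc, hir, f.map_id]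

end Main

end Groth.Agent.H16.Adapted
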