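import Groth.Agent.H16.AdaptedC

/-!
# Adapted classes: members are right acyclic (final statement)
-/

universe v' u' v u

open CategoryTheory CategoryTheory.Limits

namespace Groth.Agent.H16.Adapted

variable {A : Type u} [Category.{v} A] [Abelian A]

section Data

variable {X : A} (J : InjectiveResolution X)

/-- The augmented resolution, as a sequence of objects. -/
def KX : ℕ → A
  | 0 => X
  | (n + 1) => J.cocomplex.X n

/-- The augmented resolution, differentials. -/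
def Kd : ∀ n : ℕ, KX J n ⟶ KX J (n + 1)
  | 0 => J.ι.f 0
  | (n + 1) => J.cocomplex.d n (n + 1)

lemma sqK : ∀ n : ℕ, Kd J n ≫ Kd J (n + 1) = 0
  | 0 => J.ι_f_zero_comp_complex_d
  | (n + 1) => J.cocomplex.d_comp_d _ _ _

lemma hK0 : Mono (Kd J 0) := by
  change Mono (J.ι.f 0)
  infer_instance

lemma hKex : ∀ n : ℕ, (ShortComplex.mk (Kd J n) (Kd J (n + 1)) (sqK J n)).Exact
  | 0 => J.exact₀
  | (n + 1) => J.exact_succ n

variable (𝒪 : ObjectProperty A) (h2 : ∀ X : A, ∃ (Y : A) (i : X ⟶ Y), 𝒪 Y ∧ Mono i)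

/-- The chosen objects of the class. -/
noncomputable def Wn : ℕ → A
  | 0 => X
  | (n + 1) => (h2 (J.cocomplex.X n)).choose

/-- The chosen embeddings. -/
noncomputable def iN : ∀ n : ℕ, KX J n ⟶ Wn J 𝒪 h2 n
  | 0 => 𝟙 X
  | (n + 1) => (h2 (J.cocomplex.X n)).choose_spec.choose

lemma mono_iN (n : ℕ) : Mono (iN J 𝒪 h2 (n + 1)) :=
  (h2 (J.cocomplex.X n)).choose_spec.choose_spec.2

lemma hW (hX : 𝒪 X) : ∀ n : ℕ, 𝒪 (Wn J 𝒪 h2 n)
  | 0 => hX
  | (n + 1) => (h2 (J.cocomplex.X n)).choose_spec.choose_spec.1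

/-- The chosen retractions. -/
noncomputable def rN : ∀ n : ℕ, Wn J 𝒪 h2 n ⟶ KX J n
  | 0 => 𝟙 X
  | (n + 1) =>
    haveI := mono_iN J 𝒪 h2 n
    haveI : Injective (KX J (n + 1)) := J.injective n
    Injective.factorThru (𝟙 _) (iN J 𝒪 h2 (n + 1))

lemma hir : ∀ n : ℕ, iN J 𝒪 h2 n ≫ rN J 𝒪 h2 n = 𝟙 _
  | 0 => Category.id_comp _
  | (n + 1) => by
    haveI := mono_iN J 𝒪 h2 n
    haveI : Injective (KX J (n + 1)) := J.injective n
    exact Injective.comp_factorThru (𝟙 _) (iN J 𝒪 h2 (n + 1))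

end Data

theorem main [EnoughInjectives A] {B : Type u'} [Category.{v'} B] [Abelian B] (f : A ⥤ B)
    [f.Additive] (𝒪 : ObjectProperty A)
    (h0 : ∀ X Y : A, 𝒪 X → 𝒪 Y → 𝒪 (X ⊞ Y))
    (h1 : ∀ K : CochainComplex A ℕ, (∀ i, 𝒪 (K.X i)) → K.Acyclic →
      ((f.mapHomologicalComplex (ComplexShape.up ℕ)).obj K).Acyclic)
    (h2 : ∀ X : A, ∃ (Y : A) (i : X ⟶ Y), 𝒪 Y ∧ Mono i)
    (X : A) (hX : 𝒪 X) (n : ℕ) (hn : 0 < n) :
    IsZero ((f.rightDerived n).obj X) := by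
  obtain ⟨m, rfl⟩ : ∃ m, n = m + 1 := Nat.exists_eq_succ_of_ne_zero hn.ne'
  let J : InjectiveResolution X := InjectiveResolution.of X
  have E := map_exact f 𝒪 h0 h1 (Kd J) (iN J 𝒪 h2) (rN J 𝒪 h2) (hir J 𝒪 h2) (sqK J)
    (hK0 J) (hKex J) (hW J 𝒪 h2 hX) m
  refine IsZero.of_iso ?_ (J.isoRightDerivedObj f (m + 1))
  change IsZero (((f.mapHomologicalComplex (ComplexShape.up ℕ)).obj J.cocomplex).homology (m + 1))
  rw [← HomologicalComplex.exactAt_iff_isZero_homology,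
    HomologicalComplex.exactAt_iff' _ m (m + 1) (m + 1 + 1) (by simp) (by simp)]
  exact E

end Groth.Agent.H16.Adapted
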