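import Mathlib

/-!
# Exact functors and derived categories: compatibility with homology and single functors (helper16)
-/

set_option autoImplicit false
universe w₁ w₂ v₁ v₂ u₁ u₂
open CategoryTheory CategoryTheory.Limits

namespace Groth.Agent.H16.ExactDer

variable {C₁ : Type u₁} [Category.{v₁} C₁] [Abelian C₁] [HasDerivedCategory.{w₁} C₁]
  {C₂ : Type u₂} [Category.{v₂} C₂] [Abelian C₂] [HasDerivedCategory.{w₂} C₂]
  (F : C₁ ⥤ C₂) [F.Additive] [PreservesFiniteLimits F] [PreservesFiniteColimits F]

/-- complex-level: homology commutes with an exact functor, naturally. -/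
noncomputable def cxHomologyNatIso (i : ℤ) :
    F.mapHomologicalComplex (ComplexShape.up ℤ) ⋙
        HomologicalComplex.homologyFunctor C₂ (ComplexShape.up ℤ) i ≅
      HomologicalComplex.homologyFunctor C₁ (ComplexShape.up ℤ) i ⋙ F :=
  NatIso.ofComponents (fun P => (P.sc i).mapHomologyIso F)
    (fun {P P'} f => ShortComplex.mapHomologyIso_hom_naturality
      ((HomologicalComplex.shortComplexFunctor _ _ i).map f) F)

noncomputable instance lift₁ (i : ℤ) :
    Localization.Lifting DerivedCategory.Q
      (HomologicalComplex.quasiIso C₁ (ComplexShape.up ℤ))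
      (F.mapHomologicalComplex (ComplexShape.up ℤ) ⋙
        HomologicalComplex.homologyFunctor C₂ (ComplexShape.up ℤ) i)
      (F.mapDerivedCategory ⋙ DerivedCategory.homologyFunctor C₂ i) :=
  ⟨(Functor.associator _ _ _).symm ≪≫
    Functor.isoWhiskerRight F.mapDerivedCategoryFactors _ ≪≫
    Functor.associator _ _ _ ≪≫
    Functor.isoWhiskerLeft _ (DerivedCategory.homologyFunctorFactors C₂ i)⟩

noncomputable instance lift₂ (i : ℤ) :
    Localization.Lifting DerivedCategory.Q
      (HomologicalComplex.quasiIso C₁ (ComplexShape.up ℤ))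
      (HomologicalComplex.homologyFunctor C₁ (ComplexShape.up ℤ) i ⋙ F)
      (DerivedCategory.homologyFunctor C₁ i ⋙ F) :=
  ⟨(Functor.associator _ _ _).symm ≪≫
    Functor.isoWhiskerRight (DerivedCategory.homologyFunctorFactors C₁ i) F⟩

/-- derived-level: homology commutes with an exact functor, naturally. -/
noncomputable def homologyNatIso (i : ℤ) :
    F.mapDerivedCategory ⋙ DerivedCategory.homologyFunctor C₂ i ≅
      DerivedCategory.homologyFunctor C₁ i ⋙ F :=
  Localization.liftNatIso DerivedCategory.Q
    (HomologicalComplex.quasiIso C₁ (ComplexShape.up ℤ)) _ _ _ _ (cxHomologyNatIso F i)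

lemma isIso_homology_map {K L : DerivedCategory C₁} (α : K ⟶ L) (i : ℤ)
    [IsIso ((DerivedCategory.homologyFunctor C₁ i).map α)] :
    IsIso ((DerivedCategory.homologyFunctor C₂ i).map (F.mapDerivedCategory.map α)) := by
  have : IsIso ((DerivedCategory.homologyFunctor C₁ i ⋙ F).map α) := by
    change IsIso (F.map ((DerivedCategory.homologyFunctor C₁ i).map α))
    infer_instance
  exact (NatIso.isIso_map_iff (homologyNatIso F i) α).2 this

lemma epi_homology_map {K L : DerivedCategory C₁} (α : K ⟶ L) (i : ℤ)
    [Epi ((DerivedCategory.homologyFunctor C₁ i).map α)] :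
    Epi ((DerivedCategory.homologyFunctor C₂ i).map (F.mapDerivedCategory.map α)) := by
  have h : Epi ((DerivedCategory.homologyFunctor C₁ i ⋙ F).map α) := by
    change Epi (F.map ((DerivedCategory.homologyFunctor C₁ i).map α))
    infer_instance
  have nat := (homologyNatIso F i).hom.naturality α
  have e : (F.mapDerivedCategory ⋙ DerivedCategory.homologyFunctor C₂ i).map α =
      (homologyNatIso F i).hom.app K ≫ (DerivedCategory.homologyFunctor C₁ i ⋙ F).map α ≫
        (homologyNatIso F i).inv.app L := by
    rw [← Category.assoc, ← nat, Category.assoc, Iso.hom_inv_id_app, Category.comp_id]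
  change Epi ((F.mapDerivedCategory ⋙ DerivedCategory.homologyFunctor C₂ i).map α)
  rw [e]
  infer_instance

/-- `F.mapDerivedCategory (Q E) ≅ Q (F E)`. -/
noncomputable def QIso (E : CochainComplex C₁ ℤ) :
    F.mapDerivedCategory.obj (DerivedCategory.Q.obj E) ≅
      DerivedCategory.Q.obj ((F.mapHomologicalComplex (ComplexShape.up ℤ)).obj E) :=
  F.mapDerivedCategoryFactors.app E

/-- `F.mapDerivedCategory (M[0]) ≅ (F M)[0]`. -/
noncomputable def singleIso (M : C₁) (n : ℤ) :
    F.mapDerivedCategory.obj ((DerivedCategory.singleFunctor C₁ n).obj M) ≅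
      (DerivedCategory.singleFunctor C₂ n).obj (F.obj M) :=
  F.mapDerivedCategory.mapIso ((DerivedCategory.singleFunctorIsoCompQ C₁ n).app M) ≪≫
    QIso F ((CochainComplex.singleFunctor C₁ n).obj M) ≪≫
    DerivedCategory.Q.mapIso
      ((HomologicalComplex.singleMapHomologicalComplex F (ComplexShape.up ℤ) n).app M) ≪≫
    ((DerivedCategory.singleFunctorIsoCompQ C₂ n).app (F.obj M)).symm

end Groth.Agent.H16.ExactDer
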