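import Mathlib
import Groth.Agent.H16.FracTrace
import Groth.Agent.H16.ExactDer
import Groth.Prelude.Def_DRing2

/-!
# Flat base change on derived categories of modules and pseudo-coherence (helper16)
-/

set_option autoImplicit false
universe u
open CategoryTheory CategoryTheory.Limits

namespace Groth.Agent.H16.BcDer

open Groth.Agent.H16.FracTrace Groth.Agent.H16.ExactDer

attribute [local instance] HasDerivedCategory.standard

variable (A B : Type u) [CommRing A] [CommRing B] [Algebra A B] [Module.Flat A B]

instance : PreservesFiniteLimits (bc A B) :=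
  Functor.preservesFiniteLimits_of_preservesHomology (bc A B)

instance : PreservesFiniteColimits (bc A B) :=
  Functor.preservesFiniteColimits_of_preservesHomology (bc A B)

lemma termwiseFiniteFree_bc (E : DRing.Cx A) (h : DRing.TermwiseFiniteFree E) :
    DRing.TermwiseFiniteFree (((bc A B).mapHomologicalComplex (ComplexShape.up ℤ)).obj E) := by
  intro i
  haveI := (h i).1
  haveI := (h i).2
  exact ⟨(inferInstance : Module.Finite B (TensorProduct A B (E.X i))),
    (inferInstance : Module.Free B (TensorProduct A B (E.X i)))⟩

theorem pc_m (m : ℤ) (M : Type u) [AddCommGroup M] [Module A M]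
    (h : DRing.IsPseudoCoherentModule A m M) :
    DRing.IsPseudoCoherentModule B m (TensorProduct A B M) := by
  obtain ⟨E, a, b, α, hE, hff, hiso, hepi⟩ := h
  refine ⟨((bc A B).mapHomologicalComplex (ComplexShape.up ℤ)).obj E, a, b,
    (QIso (bc A B) E).inv ≫ (bc A B).mapDerivedCategory.map α ≫
      (singleIso (bc A B) (ModuleCat.of A M) 0).hom, ?_, termwiseFiniteFree_bc A B E hff, ?_, ?_⟩
  · intro i hi
    exact (bc A B).map_isZero (hE i hi)
  · intro i hi
    haveI := hiso i hi
    haveI := isIso_homology_map (bc A B) α i
    rw [Functor.map_comp, Functor.map_comp]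
    infer_instance
  · haveI := hepi
    haveI := epi_homology_map (bc A B) α m
    rw [Functor.map_comp, Functor.map_comp]
    infer_instance

theorem pc' (M : Type u) [AddCommGroup M] [Module A M]
    (h : DRing.IsPseudoCoherentModule' A M) :
    DRing.IsPseudoCoherentModule' B (TensorProduct A B M) := by
  obtain ⟨E, b, hE, hff, ⟨e⟩⟩ := h
  refine ⟨((bc A B).mapHomologicalComplex (ComplexShape.up ℤ)).obj E, b, ?_,
    termwiseFiniteFree_bc A B E hff, ⟨(QIso (bc A B) E).symm ≪≫
      (bc A B).mapDerivedCategory.mapIso e ≪≫ singleIso (bc A B) (ModuleCat.of A M) 0⟩⟩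
  intro i hi
  exact (bc A B).map_isZero (hE i hi)

end Groth.Agent.H16.BcDer
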