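import Mathlib

/-!
# Weak Serre classes and five-term exact sequences (helper16)
-/

set_option autoImplicit false
universe v u
open CategoryTheory CategoryTheory.Limits

namespace Groth.Agent.H16.SerreFive

variable {B : Type u} [Category.{v} B] [Abelian B]

/-- in an exact sequence `X₁ ⟶ X₂ ⟶ X₃ ⟶ X₄`, the cokernel of the first map is the kernel of the
last one. -/
noncomputable def cokerIsoKer {X₁ X₂ X₃ X₄ : B} (a : X₁ ⟶ X₂) (b : X₂ ⟶ X₃) (c : X₃ ⟶ X₄)
    (w₁ : a ≫ b = 0) (w₂ : b ≫ c = 0) (e₁ : (ShortComplex.mk a b w₁).Exact)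
    (e₂ : (ShortComplex.mk b c w₂).Exact) : cokernel a ≅ kernel c := by
  let φ : cokernel a ⟶ kernel c := kernel.lift c (cokernel.desc a b w₁) (by
    rw [← cancel_epi (cokernel.π a)]
    simp [w₂])
  have hm : Mono φ := by
    have : Mono (φ ≫ kernel.ι c) := by
      rw [kernel.lift_ι]
      exact e₁.mono_cokernelDesc
    exact mono_of_mono φ (kernel.ι c)
  have he : Epi φ := by
    have h1 : cokernel.π a ≫ φ = kernel.lift c b w₂ := by
      rw [← cancel_mono (kernel.ι c)]
      simp [φ]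
    have : Epi (cokernel.π a ≫ φ) := by
      rw [h1]
      exact e₂.epi_kernelLift
    exact epi_of_epi (cokernel.π a) φ
  haveI := isIso_of_mono_of_epi φ
  exact asIso φ

/-- a class closed under kernels, cokernels and extensions is closed under "middle terms of
five-term exact sequences". -/
theorem prop_of_five (P : ObjectProperty B) [P.IsClosedUnderIsomorphisms]
    (hPk : ∀ {X Y : B} (f : X ⟶ Y), P X → P Y → P (kernel f))
    (hPc : ∀ {X Y : B} (f : X ⟶ Y), P X → P Y → P (cokernel f))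
    (hPe : ∀ (S : ShortComplex B), S.ShortExact → P S.X₁ → P S.X₃ → P S.X₂)
    {X₁ X₂ X₃ X₄ X₅ : B} (a : X₁ ⟶ X₂) (b : X₂ ⟶ X₃) (c : X₃ ⟶ X₄) (d : X₄ ⟶ X₅)
    (w₁ : a ≫ b = 0) (w₂ : b ≫ c = 0) (w₃ : c ≫ d = 0)
    (e₁ : (ShortComplex.mk a b w₁).Exact) (e₂ : (ShortComplex.mk b c w₂).Exact)
    (e₃ : (ShortComplex.mk c d w₃).Exact)
    (h₁ : P X₁) (h₂ : P X₂) (h₄ : P X₄) (h₅ : P X₅) : P X₃ := by
  have hK : P (kernel c) := P.prop_of_iso (cokerIsoKer a b c w₁ w₂ e₁ e₂) (hPc a h₁ h₂)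
  have hD : P (kernel d) := hPk d h₄ h₅
  let c' : X₃ ⟶ kernel d := kernel.lift d c w₃
  have hc' : Epi c' := e₃.epi_kernelLift
  have hfac : c' ≫ kernel.ι d = c := kernel.lift_ι _ _ _
  have hz : kernel.ι c ≫ c' = 0 := by
    rw [← cancel_mono (kernel.ι d), Category.assoc, hfac, kernel.condition, zero_comp]
  let S : ShortComplex B := ShortComplex.mk (kernel.ι c) c' hz
  have hk : IsLimit (KernelFork.ofι (kernel.ι c) hz) :=
    isKernelOfComp (kernel.ι d) c (kernelIsKernel c) hz hfac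
  have hS : S.ShortExact :=
    ShortComplex.ShortExact.mk' (ShortComplex.exact_of_f_is_kernel _ hk)
      (by dsimp [S]; infer_instance) hc'
  exact hPe S hS hK hD

end Groth.Agent.H16.SerreFive
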