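import Groth.Agent.H16.CyclesShiftC
import Groth.Agent.H16.SerreFive

/-!
# Cohomology of `F(I)` lies in a weak Serre class (helper16)

For a bounded below complex of injectives `I` such that all `R^pF(H^k(I))` lie in a class `P` closed under
kernels, cokernels and extensions, all `H^m(F(I))` lie in `P`.
-/

set_option autoImplicit false
universe v' u' v u
open CategoryTheory CategoryTheory.Limits

namespace Groth.Agent.H16.CyclesSerre

open Groth.Agent.H16.CyclesShift Groth.Agent.H16.SerreFive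

variable {A : Type u} [Category.{v} A] [Abelian A] [EnoughInjectives A]
  {B : Type u'} [Category.{v'} B] [Abelian B] (F : A ⥤ B) [F.Additive]
  (P : ObjectProperty B) [P.IsClosedUnderIsomorphisms]

section ses

variable (S : ShortComplex A) (hS : S.ShortExact)

include hS in
/-- if `R^pF` and `R^{p+1}F` vanish on the middle term, `R^pF(X₃) ≅ R^{p+1}F(X₁)`. -/
lemma prop_X₃_of_X₁ (p : ℕ) (h2 : IsZero ((F.rightDerived p).obj S.X₂))
    (h2' : IsZero ((F.rightDerived (p + 1)).obj S.X₂))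
    (h1 : P ((F.rightDerived (p + 1)).obj S.X₁)) : P ((F.rightDerived p).obj S.X₃) := by
  obtain ⟨-, -, δ, hδ⟩ := Groth.Agent.H33.RDLes.exists_les F S hS
  obtain ⟨w₁, w₂, e1, e2⟩ := hδ p
  have hm : Mono (δ p) := e1.mono_g (h2.eq_of_src _ _)
  have he : Epi (δ p) := e2.epi_f (h2'.eq_of_tgt _ _)
  haveI := isIso_of_mono_of_epi (δ p)
  exact P.prop_of_iso (asIso (δ p)).symm h1

end ses

variable (hP0 : ∀ X : B, IsZero X → P X)
  (hPk : ∀ {X Y : B} (f : X ⟶ Y), P X → P Y → P (kernel f))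
  (hPc : ∀ {X Y : B} (f : X ⟶ Y), P X → P Y → P (cokernel f))
  (hPe : ∀ (S : ShortComplex B), S.ShortExact → P S.X₁ → P S.X₃ → P S.X₂)

section ses2

variable (S : ShortComplex A) (hS : S.ShortExact)

include hS hPk hPc hPe in
/-- the middle term of the long exact sequence. -/
lemma prop_X₂ (q : ℕ) (h3 : P ((F.rightDerived q).obj S.X₃))
    (h1 : P ((F.rightDerived (q + 1)).obj S.X₁))
    (h3' : P ((F.rightDerived (q + 1)).obj S.X₃))
    (h1' : P ((F.rightDerived (q + 2)).obj S.X₁)) : P ((F.rightDerived (q + 1)).obj S.X₂) := by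
  obtain ⟨-, e, δ, hδ⟩ := Groth.Agent.H33.RDLes.exists_les F S hS
  obtain ⟨_, w₂, -, e2⟩ := hδ q
  obtain ⟨w₁', _, e1', -⟩ := hδ (q + 1)
  exact prop_of_five P hPk hPc hPe (δ q) ((F.rightDerived (q + 1)).map S.f)
    ((F.rightDerived (q + 1)).map S.g) (δ (q + 1)) w₂ _ w₁' e2 (e (q + 1)) e1' h3 h1 h3' h1'

end ses2

variable (I : CochainComplex A ℤ) (hI : ∀ n, Injective (I.X n)) (a : ℤ)
  (ha : ∀ k, k < a → IsZero (I.X k))
  (hH : ∀ (k : ℤ) (p : ℕ), P ((F.rightDerived p).obj (I.homology k)))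

include hP0 hPk hPc hPe hI ha hH in
theorem prop_rightDerived_cycles : ∀ (n : ℕ) (k : ℤ), k = a - 1 + n → ∀ p : ℕ, 1 ≤ p →
    P ((F.rightDerived p).obj (I.cycles k)) := by
  intro n
  induction n with
  | zero =>
    intro k hk p _
    exact hP0 _ (Functor.map_isZero _ (IsZero.of_mono (I.iCycles k) (ha k (by omega))))
  | succ n ih =>
    intro k hk p hp
    have hk' : k - 1 = a - 1 + n := by push_cast at hk; omega
    have hkk : k - 1 + 1 = k := by omega
    have hB : ∀ q : ℕ, 1 ≤ q → P ((F.rightDerived q).obj (Bd I (k - 1) k)) := by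
      intro q hq
      obtain ⟨r, rfl⟩ : ∃ r, q = r + 1 := ⟨q - 1, by omega⟩
      have := hI (k - 1)
      exact prop_X₃_of_X₁ F P (S1 I (k - 1) k) (S1_shortExact I (k - 1) k hkk) (r + 1)
        (Functor.isZero_rightDerived_obj_injective_succ F r (I.X (k - 1)))
        (Functor.isZero_rightDerived_obj_injective_succ F (r + 1) (I.X (k - 1)))
        (ih (k - 1) hk' (r + 1 + 1) (by omega))
    obtain ⟨q, rfl⟩ : ∃ q, p = q + 1 := ⟨p - 1, by omega⟩
    exact prop_X₂ F P hPk hPc hPe (S2 I (k - 1) k) (S2_shortExact I (k - 1) k hkk) q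
      (hH k q) (hB (q + 1) (by omega)) (hH k (q + 1)) (hB (q + 2) (by omega))

end Groth.Agent.H16.CyclesSerre
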