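import Groth.Agent.H16.CyclesSerre

/-!
# Cohomology of `F(I)` lies in a weak Serre class, part B (helper16)
-/

set_option autoImplicit false
universe v' u' v u
open CategoryTheory CategoryTheory.Limits ZeroObject

namespace Groth.Agent.H16.CyclesSerre

open Groth.Agent.H16.CyclesShift Groth.Agent.H16.SerreFive

section abstract

variable {B : Type u'} [Category.{v'} B] [Abelian B]
  (P : ObjectProperty B) [P.IsClosedUnderIsomorphisms]
  (hP0 : ∀ X : B, IsZero X → P X)
  (hPk : ∀ {X Y : B} (f : X ⟶ Y), P X → P Y → P (kernel f))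
  (hPc : ∀ {X Y : B} (f : X ⟶ Y), P X → P Y → P (cokernel f))
  (hPe : ∀ (S : ShortComplex B), S.ShortExact → P S.X₁ → P S.X₃ → P S.X₂)

include hP0 hPk hPc hPe in
/-- the cokernel of a composite `e ≫ i` with `i` mono is an extension of `coker i` by `coker e`. -/
lemma prop_cokernel_comp {X Y Z : B} (e : X ⟶ Y) (i : Y ⟶ Z) [Mono i]
    (h1 : P (cokernel e)) (h2 : P (cokernel i)) : P (cokernel (e ≫ i)) := by
  have ex := kernelCokernelCompSequence_exact e i
  have e2 := ex.exact 2
  have e3 := ex.exact 3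
  have hepi : Epi (cokernel.map (e ≫ i) i e (𝟙 _) (by simp)) :=
    inferInstanceAs (Epi ((kernelCokernelCompSequence e i).map' 4 5))
  have e4 : (ShortComplex.mk (cokernel.map (e ≫ i) i e (𝟙 _) (by simp))
      (0 : cokernel i ⟶ (0 : B)) comp_zero).Exact :=
    (ShortComplex.exact_iff_epi _ rfl).2 hepi
  exact prop_of_five P hPk hPc hPe _ _ _ _ _ _ _ e2 e3 e4
    (hP0 _ (isZero_kernel_of_mono i)) h1 h2 (hP0 _ (isZero_zero B))

include hP0 hPk hPc hPe in
/-- the homology of `X ⟶ Y ⟶ W` when the kernel of the second map and a factorization of the first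
map through a subobject of it are known. -/
lemma prop_homology_of_factor (S : ShortComplex B) {K B' : B} (ι : K ⟶ S.X₂) [Mono ι]
    (wι : ι ≫ S.g = 0) (hK : (ShortComplex.mk ι S.g wι).Exact)
    (e : S.X₁ ⟶ B') (i : B' ⟶ K) [Mono i] (fac : e ≫ i ≫ ι = S.f)
    (h1 : P (cokernel e)) (h2 : P (cokernel i)) : P S.homology := by
  have hι : IsLimit (KernelFork.ofι ι wι) := hK.fIsKernel
  let κ : S.cycles ≅ K := IsLimit.conePointUniqueUpToIso S.cyclesIsKernel hι
  have hκ : κ.hom ≫ ι = S.iCycles :=
    IsLimit.conePointUniqueUpToIso_hom_comp S.cyclesIsKernel hι WalkingParallelPair.zero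
  have hcomm : S.toCycles ≫ κ.hom = 𝟙 _ ≫ e ≫ i := by
    rw [← cancel_mono ι, Category.assoc, hκ, S.toCycles_i, Category.id_comp, Category.assoc, fac]
  let ε₁' := IsColimit.coconePointUniqueUpToIso S.homologyIsCokernel
    (cokernelIsCokernel S.toCycles)
  let ε₁ : S.homology ≅ cokernel S.toCycles := ε₁'
  let ε₂ : cokernel S.toCycles ≅ cokernel (e ≫ i) :=
    cokernel.mapIso S.toCycles (e ≫ i) (Iso.refl _) κ hcomm
  exact P.prop_of_iso (ε₁ ≪≫ ε₂).symm (prop_cokernel_comp P hP0 hPk hPc hPe e i h1 h2)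

end abstract

section concrete

variable {A : Type u} [Category.{v} A] [Abelian A] [EnoughInjectives A]
  {B : Type u'} [Category.{v'} B] [Abelian B] (F : A ⥤ B) [F.Additive]
  (P : ObjectProperty B) [P.IsClosedUnderIsomorphisms]
  (hP0 : ∀ X : B, IsZero X → P X)
  (hPk : ∀ {X Y : B} (f : X ⟶ Y), P X → P Y → P (kernel f))
  (hPc : ∀ {X Y : B} (f : X ⟶ Y), P X → P Y → P (cokernel f))
  (hPe : ∀ (S : ShortComplex B), S.ShortExact → P S.X₁ → P S.X₃ → P S.X₂)
  (I : CochainComplex A ℤ) (hI : ∀ n, Injective (I.X n)) (a : ℤ)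
  (ha : ∀ k, k < a → IsZero (I.X k))
  (hH : ∀ (k : ℤ) (p : ℕ), P ((F.rightDerived p).obj (I.homology k)))

include hP0 hPk hPc hPe hI ha hH in
/-- `H^i(R⁰F(I))` lies in `P`. -/
theorem prop_homology_rightDerivedZero (j i k : ℤ) (hji : j + 1 = i) (hik : i + 1 = k) :
    P (ShortComplex.mk ((F.rightDerived 0).map (I.d j i)) ((F.rightDerived 0).map (I.d i k))
      (by rw [← Functor.map_comp, I.d_comp_d, Functor.map_zero])).homology := by
  have hPZ : ∀ (k' : ℤ) (p : ℕ), 1 ≤ p → P ((F.rightDerived p).obj (I.cycles k')) := by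
    intro k' p hp
    by_cases hk' : k' < a
    · exact hP0 _ (Functor.map_isZero _ (IsZero.of_mono (I.iCycles k') (ha k' hk')))
    · exact prop_rightDerived_cycles F P hP0 hPk hPc hPe I hI a ha hH (k' - (a - 1)).toNat k'
        (by rw [Int.toNat_of_nonneg (by omega)]; omega) p hp
  have hS1 := S1_shortExact I i k hik
  have hS1' := S1_shortExact I j i hji
  have hS2' := S2_shortExact I j i hji
  haveI : Mono ((F.rightDerived 0).map (I.iCycles i)) := mono_f_zero F (S1 I i k) hS1
  haveI : Mono ((F.rightDerived 0).map (bdι I j i)) := mono_f_zero F (S2 I j i) hS2'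
  have m1 : Mono ((F.rightDerived 0).map (bdι I i k)) :=
    mono_f_zero F (S2 I i k) (S2_shortExact I i k hik)
  have m2 : Mono ((F.rightDerived 0).map (I.iCycles k)) :=
    mono_f_zero F (S1 I k (k + 1)) (S1_shortExact I k (k + 1) rfl)
  have m3 : Mono ((F.rightDerived 0).map (bdι I i k ≫ I.iCycles k)) := by
    rw [Functor.map_comp]
    exact mono_comp _ _
  have wι : (F.rightDerived 0).map (I.iCycles i) ≫ (F.rightDerived 0).map (I.d i k) = 0 := by
    rw [← Functor.map_comp, HomologicalComplex.iCycles_d, Functor.map_zero]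
  have hK : (ShortComplex.mk ((F.rightDerived 0).map (I.iCycles i))
      ((F.rightDerived 0).map (I.d i k)) wι).Exact := by
    have ex := exact_zero F (S1 I i k) hS1
    let φ : ShortComplex.mk ((F.rightDerived 0).map (S1 I i k).f)
        ((F.rightDerived 0).map (S1 I i k).g)
        (by rw [← Functor.map_comp, (S1 I i k).zero, Functor.map_zero]) ⟶
        ShortComplex.mk ((F.rightDerived 0).map (I.iCycles i))
          ((F.rightDerived 0).map (I.d i k)) wι :=
      { τ₁ := 𝟙 _
        τ₂ := 𝟙 _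
        τ₃ := (F.rightDerived 0).map (bdι I i k ≫ I.iCycles k)
        comm₁₂ := by
          change 𝟙 _ ≫ (F.rightDerived 0).map (I.iCycles i) =
            (F.rightDerived 0).map (I.iCycles i) ≫ 𝟙 _
          rw [Category.id_comp, Category.comp_id]
        comm₂₃ := by
          change 𝟙 _ ≫ (F.rightDerived 0).map (I.d i k) =
            (F.rightDerived 0).map (toBd I i k) ≫ (F.rightDerived 0).map (bdι I i k ≫ I.iCycles k)
          rw [Category.id_comp, ← Functor.map_comp, toBd_bdι_iCycles] }
    have h1 : Epi φ.τ₁ := by change Epi (𝟙 _); infer_instance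
    have h2 : IsIso φ.τ₂ := by change IsIso (𝟙 _); infer_instance
    have h3 : Mono φ.τ₃ := m3
    exact (ShortComplex.exact_iff_of_epi_of_isIso_of_mono φ).1 ex
  have fac : (F.rightDerived 0).map (toBd I j i) ≫ (F.rightDerived 0).map (bdι I j i) ≫
      (F.rightDerived 0).map (I.iCycles i) = (F.rightDerived 0).map (I.d j i) := by
    rw [← Functor.map_comp, ← Functor.map_comp, toBd_bdι_iCycles]
  -- the cokernel of `e`
  have h1 : P (cokernel ((F.rightDerived 0).map (toBd I j i))) := by
    obtain ⟨-, -, δ, hδ⟩ := Groth.Agent.H33.RDLes.exists_les F (S1 I j i) hS1'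
    obtain ⟨w₁, w₂, e1, e2⟩ := hδ 0
    have := hI j
    have hz : IsZero ((F.rightDerived (0 + 1)).obj (S1 I j i).X₂) :=
      Functor.isZero_rightDerived_obj_injective_succ F 0 (I.X j)
    haveI : Epi (δ 0) := e2.epi_f (hz.eq_of_tgt _ _)
    have hc := e1.gIsCokernel
    let ε := IsColimit.coconePointUniqueUpToIso hc
      (cokernelIsCokernel ((F.rightDerived 0).map (toBd I j i)))
    have ε' : (F.rightDerived (0 + 1)).obj (I.cycles j) ≅
        cokernel ((F.rightDerived 0).map (toBd I j i)) := ε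
    exact P.prop_of_iso ε' (hPZ j 1 le_rfl)
  -- the cokernel of `i`
  have h2 : P (cokernel ((F.rightDerived 0).map (bdι I j i))) := by
    obtain ⟨-, e, δ, hδ⟩ := Groth.Agent.H33.RDLes.exists_les F (S2 I j i) hS2'
    obtain ⟨w₁, w₂, e1, e2⟩ := hδ 0
    have hB : P ((F.rightDerived (0 + 1)).obj (Bd I j i)) := by
      have := hI j
      exact prop_X₃_of_X₁ F P (S1 I j i) hS1' 1
        (Functor.isZero_rightDerived_obj_injective_succ F 0 (I.X j))
        (Functor.isZero_rightDerived_obj_injective_succ F 1 (I.X j))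
        (hPZ j 2 (by omega))
    have hk : P (kernel (δ 0)) := hPk (δ 0) (hH i 0) hB
    exact P.prop_of_iso (cokerIsoKer _ _ _ _ w₁ (e 0) e1).symm hk
  exact prop_homology_of_factor P hP0 hPk hPc hPe
    (ShortComplex.mk ((F.rightDerived 0).map (I.d j i)) ((F.rightDerived 0).map (I.d i k))
      (by rw [← Functor.map_comp, I.d_comp_d, Functor.map_zero]))
    ((F.rightDerived 0).map (I.iCycles i)) wι hK
    ((F.rightDerived 0).map (toBd I j i)) ((F.rightDerived 0).map (bdι I j i)) fac h1 h2

include hP0 hPk hPc hPe hI ha hH in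
/-- `H^m(F(I))` lies in `P`. -/
theorem prop_homology_map (m : ℤ) :
    P (((F.mapHomologicalComplex (ComplexShape.up ℤ)).obj I).homology m) := by
  have h := prop_homology_rightDerivedZero F P hP0 hPk hPc hPe I hI a ha hH (m - 1) m (m + 1)
    (by omega) rfl
  have i1 : IsIso (F.toRightDerivedZero.app (I.X (m - 1))) := by
    have := hI (m - 1)
    infer_instance
  have i2 : IsIso (F.toRightDerivedZero.app (I.X m)) := by
    have := hI m
    infer_instance
  have i3 : IsIso (F.toRightDerivedZero.app (I.X (m + 1))) := by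
    have := hI (m + 1)
    infer_instance
  let K := (F.mapHomologicalComplex (ComplexShape.up ℤ)).obj I
  let ε : K.sc' (m - 1) m (m + 1) ≅
      ShortComplex.mk ((F.rightDerived 0).map (I.d (m - 1) m))
        ((F.rightDerived 0).map (I.d m (m + 1)))
        (by rw [← Functor.map_comp, I.d_comp_d, Functor.map_zero]) :=
    ShortComplex.isoMk
      (@asIso _ _ _ _ (F.toRightDerivedZero.app (I.X (m - 1))) i1)
      (@asIso _ _ _ _ (F.toRightDerivedZero.app (I.X m)) i2)
      (@asIso _ _ _ _ (F.toRightDerivedZero.app (I.X (m + 1))) i3)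
      (F.toRightDerivedZero.naturality (I.d (m - 1) m)).symm
      (F.toRightDerivedZero.naturality (I.d m (m + 1))).symm
  have e1 : K.homology m ≅ (K.sc' (m - 1) m (m + 1)).homology :=
    ShortComplex.homologyMapIso (K.isoSc' (m - 1) m (m + 1) (by simp) (by simp))
  exact P.prop_of_iso (e1 ≪≫ ShortComplex.homologyMapIso ε).symm h

end concrete

end Groth.Agent.H16.CyclesSerre
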