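import Mathlib
import Groth.Agent.H33.RDLes

/-!
# Dimension shifting along the cycles of a complex of injectives (helper16), part A

The two short exact sequences `0 → Z^i → K^i → B^j → 0` and `0 → B^j → Z^j → H^j → 0` (with `j = i + 1`)
attached to a cochain complex.
-/

set_option autoImplicit false
universe v u
open CategoryTheory CategoryTheory.Limits

namespace Groth.Agent.H16.CyclesShift

variable {A : Type u} [Category.{v} A] [Abelian A]

section ses

variable (K : CochainComplex A ℤ) (i j : ℤ)

/-- the boundaries `B^j`, as the image of `K^i ⟶ Z^j`. -/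
noncomputable abbrev Bd : A := Abelian.image (K.toCycles i j)

/-- `K^i ⟶ B^j`. -/
noncomputable abbrev toBd : K.X i ⟶ Bd K i j := Abelian.factorThruImage (K.toCycles i j)

/-- `B^j ⟶ Z^j`. -/
noncomputable abbrev bdι : Bd K i j ⟶ K.cycles j := Abelian.image.ι (K.toCycles i j)

lemma toBd_bdι : toBd K i j ≫ bdι K i j = K.toCycles i j := Abelian.image.fac _

lemma toBd_bdι_iCycles : toBd K i j ≫ bdι K i j ≫ K.iCycles j = K.d i j := by
  rw [← Category.assoc, toBd_bdι, HomologicalComplex.toCycles_i]

lemma iCycles_toBd : K.iCycles i ≫ toBd K i j = 0 := by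
  rw [← cancel_mono (bdι K i j), ← cancel_mono (K.iCycles j), Category.assoc, Category.assoc,
    toBd_bdι_iCycles, zero_comp, zero_comp, HomologicalComplex.iCycles_d]

lemma bdι_homologyπ : bdι K i j ≫ K.homologyπ j = 0 := by
  rw [← cancel_epi (toBd K i j), ← Category.assoc, toBd_bdι, comp_zero,
    HomologicalComplex.toCycles_comp_homologyπ]

/-- `0 → Z^i → K^i → B^j → 0`. -/
noncomputable def S1 : ShortComplex A := ShortComplex.mk (K.iCycles i) (toBd K i j) (iCycles_toBd K i j)

/-- `0 → B^j → Z^j → H^j → 0`. -/
noncomputable def S2 : ShortComplex A :=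
  ShortComplex.mk (bdι K i j) (K.homologyπ j) (bdι_homologyπ K i j)

variable (hij : i + 1 = j)

include hij in
lemma S1_shortExact : (S1 K i j).ShortExact := by
  have h1 : (ComplexShape.up ℤ).next i = j := by rw [CochainComplex.next]; exact hij
  have hk : IsLimit (KernelFork.ofι (K.iCycles i) (iCycles_toBd K i j)) :=
    isKernelOfComp (bdι K i j ≫ K.iCycles j) (K.d i j) (K.cyclesIsKernel i j h1)
      (iCycles_toBd K i j) (toBd_bdι_iCycles K i j)
  have : Mono (S1 K i j).f := by dsimp [S1]; infer_instance
  have : Epi (S1 K i j).g := by dsimp [S1]; infer_instance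
  exact ShortComplex.ShortExact.mk' (ShortComplex.exact_of_f_is_kernel _ hk) ‹_› ‹_›

include hij in
lemma S2_shortExact : (S2 K i j).ShortExact := by
  have h1 : (ComplexShape.up ℤ).prev j = i := by rw [CochainComplex.prev]; omega
  have hc : IsColimit (CokernelCofork.ofπ (K.homologyπ j) (bdι_homologyπ K i j)) :=
    isCokernelOfComp (toBd K i j) (K.toCycles i j) (K.homologyIsCokernel i j h1)
      (bdι_homologyπ K i j) (toBd_bdι K i j)
  have : Mono (S2 K i j).f := by dsimp [S2]; infer_instance
  have : Epi (S2 K i j).g := by dsimp [S2]; infer_instance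
  exact ShortComplex.ShortExact.mk' (ShortComplex.exact_of_g_is_cokernel _ hc) ‹_› ‹_›

end ses

end Groth.Agent.H16.CyclesShift
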