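import Groth.Agent.H16.CyclesShiftA

/-!
# Dimension shifting along the cycles of a complex of injectives (helper16), part B

Consequences of the long exact sequence of the classical right derived functors.
-/

set_option autoImplicit false
universe v' u' v u
open CategoryTheory CategoryTheory.Limits

namespace Groth.Agent.H16.CyclesShift

variable {A : Type u} [Category.{v} A] [Abelian A] [EnoughInjectives A]
  {B : Type u'} [Category.{v'} B] [Abelian B] (F : A ⥤ B) [F.Additive]

section les

variable (S : ShortComplex A) (hS : S.ShortExact)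

include hS

lemma isZero_X₃ (p : ℕ) (h2 : IsZero ((F.rightDerived p).obj S.X₂))
    (h1 : IsZero ((F.rightDerived (p + 1)).obj S.X₁)) : IsZero ((F.rightDerived p).obj S.X₃) := by
  obtain ⟨-, -, δ, hδ⟩ := Groth.Agent.H33.RDLes.exists_les F S hS
  obtain ⟨w₁, w₂, e1, -⟩ := hδ p
  exact e1.isZero_of_both_zeros (h2.eq_of_src _ _) (h1.eq_of_tgt _ _)

lemma isZero_X₂ (p : ℕ) (h1 : IsZero ((F.rightDerived p).obj S.X₁))
    (h3 : IsZero ((F.rightDerived p).obj S.X₃)) : IsZero ((F.rightDerived p).obj S.X₂) := by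
  obtain ⟨-, e, -⟩ := Groth.Agent.H33.RDLes.exists_les F S hS
  exact (e p).isZero_of_both_zeros (h1.eq_of_src _ _) (h3.eq_of_tgt _ _)

lemma mono_f_zero : Mono ((F.rightDerived 0).map S.f) :=
  (Groth.Agent.H33.RDLes.exists_les F S hS).1

lemma exact_zero : (ShortComplex.mk ((F.rightDerived 0).map S.f) ((F.rightDerived 0).map S.g)
    (by rw [← Functor.map_comp, S.zero, Functor.map_zero])).Exact :=
  (Groth.Agent.H33.RDLes.exists_les F S hS).2.1 0

lemma epi_g_zero (h1 : IsZero ((F.rightDerived 1).obj S.X₁)) :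
    Epi ((F.rightDerived 0).map S.g) := by
  obtain ⟨-, -, δ, hδ⟩ := Groth.Agent.H33.RDLes.exists_les F S hS
  obtain ⟨w₁, w₂, e1, -⟩ := hδ 0
  exact e1.epi_f (h1.eq_of_tgt _ _)

lemma epi_f_zero (h3 : IsZero ((F.rightDerived 0).obj S.X₃)) :
    Epi ((F.rightDerived 0).map S.f) :=
  (exact_zero F S hS).epi_f (h3.eq_of_tgt _ _)

end les

end Groth.Agent.H16.CyclesShift
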