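import Groth.Agent.H16.CyclesShiftB

/-!
# Dimension shifting along the cycles of a complex of injectives (helper16), part C

Exactness of `F(I)` in one degree, from the vanishing of `R¹F` on the preceding cycles.
-/

set_option autoImplicit false
universe v' u' v u
open CategoryTheory CategoryTheory.Limits

namespace Groth.Agent.H16.CyclesShift

variable {A : Type u} [Category.{v} A] [Abelian A] [EnoughInjectives A]
  {B : Type u'} [Category.{v'} B] [Abelian B] (F : A ⥤ B) [F.Additive]
  (I : CochainComplex A ℤ)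

/-- exactness of `R⁰F(I)` in degree `i`. -/
theorem exact_rightDerivedZero (j i k : ℤ) (hji : j + 1 = i) (hik : i + 1 = k)
    (h1 : IsZero ((F.rightDerived 1).obj (I.cycles j)))
    (h0 : IsZero ((F.rightDerived 0).obj (I.homology i))) :
    (ShortComplex.mk ((F.rightDerived 0).map (I.d j i)) ((F.rightDerived 0).map (I.d i k))
      (by rw [← Functor.map_comp, I.d_comp_d, Functor.map_zero])).Exact := by
  have e1 : Epi ((F.rightDerived 0).map (toBd I j i)) :=
    epi_g_zero F (S1 I j i) (S1_shortExact I j i hji) h1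
  have e2 : Epi ((F.rightDerived 0).map (bdι I j i)) :=
    epi_f_zero F (S2 I j i) (S2_shortExact I j i hji) h0
  have e3 : Epi ((F.rightDerived 0).map (I.toCycles j i)) := by
    rw [← toBd_bdι, Functor.map_comp]
    exact epi_comp _ _
  have m1 : Mono ((F.rightDerived 0).map (bdι I i k)) :=
    mono_f_zero F (S2 I i k) (S2_shortExact I i k hik)
  have m2 : Mono ((F.rightDerived 0).map (I.iCycles k)) :=
    mono_f_zero F (S1 I k (k + 1)) (S1_shortExact I k (k + 1) rfl)
  have m3 : Mono ((F.rightDerived 0).map (bdι I i k ≫ I.iCycles k)) := by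
    rw [Functor.map_comp]
    exact mono_comp _ _
  have ex := exact_zero F (S1 I i k) (S1_shortExact I i k hik)
  have w' : (F.rightDerived 0).map (I.d j i) ≫ (F.rightDerived 0).map (toBd I i k) = 0 := by
    rw [← cancel_mono ((F.rightDerived 0).map (bdι I i k ≫ I.iCycles k)), Category.assoc,
      ← Functor.map_comp, toBd_bdι_iCycles, ← Functor.map_comp, I.d_comp_d, Functor.map_zero,
      zero_comp]
  let S' : ShortComplex B := ShortComplex.mk _ _ w'
  let φ₁ : S' ⟶ ShortComplex.mk ((F.rightDerived 0).map (S1 I i k).f)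
      ((F.rightDerived 0).map (S1 I i k).g)
      (by rw [← Functor.map_comp, (S1 I i k).zero, Functor.map_zero]) :=
    { τ₁ := (F.rightDerived 0).map (I.toCycles j i)
      τ₂ := 𝟙 _
      τ₃ := 𝟙 _
      comm₁₂ := by
        change (F.rightDerived 0).map (I.toCycles j i) ≫ (F.rightDerived 0).map (I.iCycles i) =
          (F.rightDerived 0).map (I.d j i) ≫ 𝟙 _
        rw [← Functor.map_comp, HomologicalComplex.toCycles_i, Category.comp_id]
      comm₂₃ := by
        change 𝟙 _ ≫ (F.rightDerived 0).map (toBd I i k) =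
          (F.rightDerived 0).map (toBd I i k) ≫ 𝟙 _
        rw [Category.id_comp, Category.comp_id] }
  have hφ₁1 : Epi φ₁.τ₁ := e3
  have hφ₁2 : IsIso φ₁.τ₂ := by change IsIso (𝟙 _); infer_instance
  have hφ₁3 : Mono φ₁.τ₃ := by change Mono (𝟙 _); infer_instance
  have hS' : S'.Exact := (ShortComplex.exact_iff_of_epi_of_isIso_of_mono φ₁).2 ex
  let φ₂ : S' ⟶ ShortComplex.mk ((F.rightDerived 0).map (I.d j i))
      ((F.rightDerived 0).map (I.d i k))
      (by rw [← Functor.map_comp, I.d_comp_d, Functor.map_zero]) :=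
    { τ₁ := 𝟙 _
      τ₂ := 𝟙 _
      τ₃ := (F.rightDerived 0).map (bdι I i k ≫ I.iCycles k)
      comm₁₂ := by
        change 𝟙 _ ≫ (F.rightDerived 0).map (I.d j i) = (F.rightDerived 0).map (I.d j i) ≫ 𝟙 _
        rw [Category.id_comp, Category.comp_id]
      comm₂₃ := by
        change 𝟙 _ ≫ (F.rightDerived 0).map (I.d i k) =
          (F.rightDerived 0).map (toBd I i k) ≫ (F.rightDerived 0).map (bdι I i k ≫ I.iCycles k)
        rw [Category.id_comp, ← Functor.map_comp, toBd_bdι_iCycles] }
  have hφ₂1 : Epi φ₂.τ₁ := by change Epi (𝟙 _); infer_instance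
  have hφ₂2 : IsIso φ₂.τ₂ := by change IsIso (𝟙 _); infer_instance
  have hφ₂3 : Mono φ₂.τ₃ := m3
  exact (ShortComplex.exact_iff_of_epi_of_isIso_of_mono φ₂).1 hS'

/-- exactness of `F(I)` in degree `i` for a complex of injectives. -/
theorem exact_map (hI : ∀ n, Injective (I.X n)) (j i k : ℤ) (hji : j + 1 = i) (hik : i + 1 = k)
    (h1 : IsZero ((F.rightDerived 1).obj (I.cycles j)))
    (h0 : IsZero ((F.rightDerived 0).obj (I.homology i))) :
    (ShortComplex.mk (F.map (I.d j i)) (F.map (I.d i k))
      (by rw [← Functor.map_comp, I.d_comp_d, Functor.map_zero])).Exact := by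
  have := hI j
  have := hI i
  have := hI k
  refine (ShortComplex.exact_iff_of_iso (ShortComplex.isoMk
    (asIso (F.toRightDerivedZero.app (I.X j))) (asIso (F.toRightDerivedZero.app (I.X i)))
    (asIso (F.toRightDerivedZero.app (I.X k))) ?_ ?_)).2
    (exact_rightDerivedZero F I j i k hji hik h1 h0)
  · exact (F.toRightDerivedZero.naturality (I.d j i)).symm
  · exact (F.toRightDerivedZero.naturality (I.d i k)).symm

end Groth.Agent.H16.CyclesShift
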