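import Groth.Agent.H16.CyclesShiftC

/-!
# Dimension shifting along the cycles of a complex of injectives (helper16), part D

Vanishing of `H^i(F(I))` for `i > b + N - 1` when `H^k(I) = 0` for `k > b` and `R^pF(H^k(I)) = 0` for `p ≥ N`.
-/

set_option autoImplicit false
universe v' u' v u
open CategoryTheory CategoryTheory.Limits

namespace Groth.Agent.H16.CyclesShift

variable {A : Type u} [Category.{v} A] [Abelian A] [EnoughInjectives A]
  {B : Type u'} [Category.{v'} B] [Abelian B] (F : A ⥤ B) [F.Additive]
  (I : CochainComplex A ℤ) (hI : ∀ n, Injective (I.X n)) (a b : ℤ) (N : ℕ)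
  (ha : ∀ k, k < a → IsZero (I.X k))
  (hb : ∀ k, b < k → IsZero (I.homology k))
  (hH : ∀ (k : ℤ) (p : ℕ), N ≤ p → IsZero ((F.rightDerived p).obj (I.homology k)))

omit [EnoughInjectives A] in
include ha in
lemma isZero_cycles_of_lt (k : ℤ) (hk : k < a) : IsZero (I.cycles k) :=
  IsZero.of_mono (I.iCycles k) (ha k hk)

lemma isZero_rightDerived_of_isZero (X : A) (hX : IsZero X) (p : ℕ) :
    IsZero ((F.rightDerived p).obj X) :=
  Functor.map_isZero _ hX

include hI ha hb hH in
theorem isZero_rightDerived_cycles : ∀ (n : ℕ) (k : ℤ), k = a - 1 + n → ∀ p : ℕ, 1 ≤ p →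
    (N : ℤ) ≤ p + max (k - b) 0 → IsZero ((F.rightDerived p).obj (I.cycles k)) := by
  intro n
  induction n with
  | zero =>
    intro k hk p _ _
    exact isZero_rightDerived_of_isZero F _ (isZero_cycles_of_lt I a ha k (by omega)) p
  | succ n ih =>
    intro k hk p hp hN
    have hk' : k - 1 = a - 1 + n := by push_cast at hk; omega
    have hkk : k - 1 + 1 = k := by omega
    have hB : IsZero ((F.rightDerived p).obj (Bd I (k - 1) k)) := by
      refine isZero_X₃ F (S1 I (k - 1) k) (S1_shortExact I (k - 1) k hkk) p ?_ ?_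
      · obtain ⟨q, rfl⟩ : ∃ q, p = q + 1 := ⟨p - 1, by omega⟩
        have := hI (k - 1)
        exact Functor.isZero_rightDerived_obj_injective_succ F q (I.X (k - 1))
      · refine ih (k - 1) hk' (p + 1) (by omega) ?_
        push_cast
        omega
    have hHk : IsZero ((F.rightDerived p).obj (I.homology k)) := by
      by_cases hbk : b < k
      · exact isZero_rightDerived_of_isZero F _ (hb k hbk) p
      · refine hH k p ?_
        have : max (k - b) 0 = 0 := by omega
        rw [this] at hN
        omega
    exact isZero_X₂ F (S2 I (k - 1) k) (S2_shortExact I (k - 1) k hkk) p hB hHk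

include hI ha hb hH in
/-- `F(I)` is exact in degrees `> b + N - 1`. -/
theorem exactAt_map (i : ℤ) (hi : b + N - 1 < i) :
    ((F.mapHomologicalComplex (ComplexShape.up ℤ)).obj I).ExactAt i := by
  rw [HomologicalComplex.exactAt_iff' _ (i - 1) i (i + 1) (by simp) (by simp)]
  refine exact_map F I hI (i - 1) i (i + 1) (by omega) rfl ?_ ?_
  · by_cases hj : i - 1 < a
    · exact isZero_rightDerived_of_isZero F _ (isZero_cycles_of_lt I a ha _ hj) 1
    · refine isZero_rightDerived_cycles F I hI a b N ha hb hH (i - 1 - (a - 1)).toNat (i - 1) ?_ 1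
        le_rfl ?_
      · rw [Int.toNat_of_nonneg (by omega)]
        omega
      · push_cast
        omega
  · by_cases hbi : b < i
    · exact isZero_rightDerived_of_isZero F _ (hb i hbi) 0
    · exact hH i 0 (by omega)

omit [EnoughInjectives A] in
include ha in
/-- `F(I)` is exact in degrees `< a`. -/
theorem exactAt_map_of_lt (i : ℤ) (hi : i < a) :
    ((F.mapHomologicalComplex (ComplexShape.up ℤ)).obj I).ExactAt i :=
  HomologicalComplex.ExactAt.of_isZero (Functor.map_isZero F (ha i hi))

end Groth.Agent.H16.CyclesShift
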