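import Groth.Prelude.Def_DeltaF
import Mathlib.Algebra.Category.Grp.Abelian
import Mathlib.Algebra.Category.Grp.EpiMono
import Mathlib.Algebra.Homology.ShortComplex.Ab
import Mathlib.CategoryTheory.ObjectProperty.Basic
import Mathlib.CategoryTheory.Abelian.Exact

/-!
# Morphisms of effaceable delta-functors with values in abelian groups
-/

universe w v u

open CategoryTheory CategoryTheory.Limits DeltaF

namespace Groth.Agent.H16.DeltaEff

variable {C : Type u} [Category.{v} C] [Abelian C]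

/-- The short exact sequence attached to a monomorphism. -/
noncomputable def sesOf {A M : C} (u : A ⟶ M) : ShortComplex C :=
  ShortComplex.mk u (cokernel.π u) (cokernel.condition u)

lemma sesOf_shortExact {A M : C} (u : A ⟶ M) [Mono u] : (sesOf u).ShortExact where
  exact := ShortComplex.exact_cokernel u
  mono_f := by dsimp [sesOf]; infer_instance
  epi_g := by dsimp [sesOf]; infer_instance

variable (T T' : CohDeltaFunctor C AddCommGrpCat.{w} ℕ) (φ : T ⟶ T')

lemma ex1 (S : ShortComplex C) (hS : S.ShortExact) (q : ℕ) (x : (T.F (q + 1)).obj S.X₁)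
    (hx : (T.F (q + 1)).map S.f x = 0) :
    ∃ y : (T.F q).obj S.X₃, T.δ S hS q (q + 1) rfl y = x :=
  (ShortComplex.ab_exact_iff _).1 (T.exact₁ S hS q (q + 1) rfl) x hx

lemma ex3 (S : ShortComplex C) (hS : S.ShortExact) (q : ℕ) (y : (T.F q).obj S.X₃)
    (hy : T.δ S hS q (q + 1) rfl y = 0) :
    ∃ z : (T.F q).obj S.X₂, (T.F q).map S.g z = y :=
  (ShortComplex.ab_exact_iff _).1 (T.exact₃ S hS q (q + 1) rfl) y hy

lemma ex2 (S : ShortComplex C) (hS : S.ShortExact) (q : ℕ) (y : (T.F q).obj S.X₂)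
    (hy : (T.F q).map S.g y = 0) :
    ∃ x : (T.F q).obj S.X₁, (T.F q).map S.f x = y :=
  (ShortComplex.ab_exact_iff _).1 (T.exact₂ S hS q) y hy

lemma δ_map_g (S : ShortComplex C) (hS : S.ShortExact) (q : ℕ) (z : (T.F q).obj S.X₂) :
    T.δ S hS q (q + 1) rfl ((T.F q).map S.g z) = 0 := by
  have := T.comp_δ S hS q (q + 1) rfl
  rw [← ConcreteCategory.comp_apply, this]
  rfl

lemma inj0 (hT0 : T.ZeroMono) (S : ShortComplex C) (hS : S.ShortExact) :
    Function.Injective ((T.F 0).map S.f) :=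
  (AddCommGrpCat.mono_iff_injective _).1 (hT0 S hS)

variable {T T'}

lemma comm_apply (S : ShortComplex C) (hS : S.ShortExact) (q : ℕ) (y : (T.F q).obj S.X₃) :
    (φ.app (q + 1)).app S.X₁ (T.δ S hS q (q + 1) rfl y) =
      T'.δ S hS q (q + 1) rfl ((φ.app q).app S.X₃ y) := by
  have := φ.comm S hS q (q + 1) rfl
  rw [← ConcreteCategory.comp_apply, this, ConcreteCategory.comp_apply]

lemma nat_apply (q : ℕ) {A B : C} (f : A ⟶ B) (x : (T.F q).obj A) :
    (φ.app q).app B ((T.F q).map f x) = (T'.F q).map f ((φ.app q).app A x) := by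
  have := (φ.app q).naturality f
  rw [← ConcreteCategory.comp_apply, this, ConcreteCategory.comp_apply]

lemma inj_core (q : ℕ) (hq : ∀ A : C, Function.Bijective ((φ.app q).app A))
    (S : ShortComplex C) (hS : S.ShortExact) (α : (T.F (q + 1)).obj S.X₁)
    (hα0 : (T.F (q + 1)).map S.f α = 0) (hα : (φ.app (q + 1)).app S.X₁ α = 0) : α = 0 := by
  obtain ⟨β, hβ⟩ := ex1 T S hS q α hα0
  have h1 : T'.δ S hS q (q + 1) rfl ((φ.app q).app _ β) = 0 := by
    rw [← comm_apply, hβ]
    exact hα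
  obtain ⟨γ', hγ'⟩ := ex3 T' S hS q _ h1
  obtain ⟨γ, hγ⟩ := (hq S.X₂).2 γ'
  have h2 : (φ.app q).app _ ((T.F q).map S.g γ) = (φ.app q).app _ β := by
    rw [nat_apply, hγ, hγ']
  have h3 := (hq _).1 h2
  rw [← hβ, ← h3]
  exact δ_map_g T S hS q γ

lemma surj_core (q : ℕ) (hq : ∀ A : C, Function.Surjective ((φ.app q).app A))
    (S : ShortComplex C) (hS : S.ShortExact) (α' : (T'.F (q + 1)).obj S.X₁)
    (h : (T'.F (q + 1)).map S.f α' = 0) :
    ∃ α : (T.F (q + 1)).obj S.X₁, (φ.app (q + 1)).app S.X₁ α = α' := by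
  obtain ⟨β', hβ'⟩ := ex1 T' S hS q α' h
  obtain ⟨β, hβ⟩ := hq _ β'
  exact ⟨T.δ S hS q (q + 1) rfl β, by rw [comm_apply, hβ, hβ']⟩

/-- Injectivity in degree `q + 1` from bijectivity in degree `q`, using effaceability of `T`. -/
lemma inj_succ (hT : ∀ (q : ℕ) (A : C) (α : (T.F (q + 1)).obj A),
      ∃ (M : C) (u : A ⟶ M), Mono u ∧ (T.F (q + 1)).map u α = 0)
    (q : ℕ) (hq : ∀ A : C, Function.Bijective ((φ.app q).app A)) (A : C) :
    Function.Injective ((φ.app (q + 1)).app A) := by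
  rw [injective_iff_map_eq_zero]
  intro α hα
  obtain ⟨M, u, hu, hα0⟩ := hT q A α
  exact inj_core φ q hq (sesOf u) (sesOf_shortExact u) α hα0 hα

/-- Surjectivity in degree `q + 1` for a class killed by a monomorphism. -/
lemma surj_succ_of_kill (q : ℕ) (hq : ∀ A : C, Function.Surjective ((φ.app q).app A))
    {A M : C} (u : A ⟶ M) [Mono u] (α' : (T'.F (q + 1)).obj A)
    (h : (T'.F (q + 1)).map u α' = 0) :
    ∃ α : (T.F (q + 1)).obj A, (φ.app (q + 1)).app A α = α' :=
  surj_core φ q hq (sesOf u) (sesOf_shortExact u) α' h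

lemma map_g_map_f (S : ShortComplex C) (q : ℕ) (x : (T.F q).obj S.X₁) :
    (T.F q).map S.g ((T.F q).map S.f x) = 0 := by
  rw [← ConcreteCategory.comp_apply, ← Functor.map_comp, S.zero, Functor.map_zero]
  rfl

lemma zero_inj_core (hT0 : T.ZeroMono) (S : ShortComplex C) (hS : S.ShortExact)
    (h : Function.Injective ((φ.app 0).app S.X₂)) : Function.Injective ((φ.app 0).app S.X₁) := by
  rw [injective_iff_map_eq_zero] at h ⊢
  intro x hx
  apply inj0 T hT0 S hS
  rw [map_zero]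
  apply h
  rw [nat_apply, hx, map_zero]

lemma zero_surj_core (hT'0 : T'.ZeroMono) (S : ShortComplex C) (hS : S.ShortExact)
    (h2 : Function.Surjective ((φ.app 0).app S.X₂))
    (h3 : Function.Injective ((φ.app 0).app S.X₃)) :
    Function.Surjective ((φ.app 0).app S.X₁) := by
  intro x'
  obtain ⟨y, hy⟩ := h2 ((T'.F 0).map S.f x')
  have hz : (T.F 0).map S.g y = 0 := by
    apply h3
    rw [nat_apply, hy, map_zero]
    exact map_g_map_f S 0 x'
  obtain ⟨x, hx⟩ := ex2 T S hS 0 y hz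
  refine ⟨x, ?_⟩
  apply inj0 T' hT'0 S hS
  rw [← nat_apply, hx, hy]

lemma zero_bij (hT0 : T.ZeroMono) (hT'0 : T'.ZeroMono) (E : ObjectProperty C)
    (hE : ∀ A : C, ∃ (M : C) (i : A ⟶ M), Mono i ∧ E M)
    (h0 : ∀ M : C, E M → Function.Bijective ((φ.app 0).app M)) (A : C) :
    Function.Bijective ((φ.app 0).app A) := by
  have hinj : ∀ A : C, Function.Injective ((φ.app 0).app A) := fun A => by
    obtain ⟨M, i, hi, hM⟩ := hE A
    exact zero_inj_core φ hT0 (sesOf i) (sesOf_shortExact i) (h0 M hM).1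
  refine ⟨hinj A, ?_⟩
  obtain ⟨M, i, hi, hM⟩ := hE A
  exact zero_surj_core φ hT'0 (sesOf i) (sesOf_shortExact i) (h0 M hM).2 (hinj _)

theorem main (hT0 : T.ZeroMono) (hT'0 : T'.ZeroMono)
    (hT : ∀ (q : ℕ) (A : C) (α : (T.F (q + 1)).obj A),
      ∃ (M : C) (u : A ⟶ M), Mono u ∧ (T.F (q + 1)).map u α = 0)
    (E : ObjectProperty C)
    (hE : ∀ A : C, ∃ (M : C) (i : A ⟶ M), Mono i ∧ E M) :
    ((∀ (q : ℕ) (A : C), IsIso ((φ.app q).app A)) ↔
      ((∀ M : C, E M → IsIso ((φ.app 0).app M)) ∧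
        ∀ (q : ℕ) (M : C), E M → Epi ((φ.app (q + 1)).app M))) ∧
    ((∀ (q : ℕ) (A : C), IsIso ((φ.app q).app A)) ↔
      ((∀ A : C, IsIso ((φ.app 0).app A)) ∧
        ∀ (q : ℕ) (A : C) (α : (T'.F (q + 1)).obj A),
          ∃ (M : C) (u : A ⟶ M), Mono u ∧ (T'.F (q + 1)).map u α = 0)) := by
  have key : ∀ (q : ℕ), (∀ A : C, Function.Bijective ((φ.app q).app A)) →
      (∀ (A : C) (α' : (T'.F (q + 1)).obj A), ∃ (M : C) (u : A ⟶ M), Mono u ∧
        (T'.F (q + 1)).map u α' = 0) → ∀ A : C, Function.Bijective ((φ.app (q + 1)).app A) := by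
    intro q hq hk A
    refine ⟨inj_succ φ hT q hq A, fun α' => ?_⟩
    obtain ⟨M, u, hu, h⟩ := hk A α'
    exact surj_succ_of_kill φ q (fun A => (hq A).2) u α' h
  constructor
  · constructor
    · intro h
      exact ⟨fun M _ => h 0 M, fun q M _ => inferInstance⟩
    · rintro ⟨h0, h1⟩ q
      simp only [ConcreteCategory.isIso_iff_bijective]
      induction q with
      | zero =>
        exact zero_bij φ hT0 hT'0 E hE
          (fun M hM => (ConcreteCategory.isIso_iff_bijective _).1 (h0 M hM))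
      | succ q ih =>
        refine key q ih (fun A α' => ?_)
        obtain ⟨M, i, hi, hM⟩ := hE A
        obtain ⟨μ, hμ⟩ := (AddCommGrpCat.epi_iff_surjective _).1 (h1 q M hM)
          ((T'.F (q + 1)).map i α')
        obtain ⟨M', u, hu, hμ0⟩ := hT q M μ
        refine ⟨M', i ≫ u, mono_comp i u, ?_⟩
        rw [Functor.map_comp, ConcreteCategory.comp_apply, ← hμ, ← nat_apply, hμ0, map_zero]
  · constructor
    · intro h
      refine ⟨fun A => h 0 A, fun q A α' => ?_⟩
      obtain ⟨α, hα⟩ := ((ConcreteCategory.isIso_iff_bijective _).1 (h (q + 1) A)).2 α'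
      obtain ⟨M, u, hu, h0⟩ := hT q A α
      refine ⟨M, u, hu, ?_⟩
      rw [← hα, ← nat_apply, h0, map_zero]
    · rintro ⟨h0, h1⟩ q
      simp only [ConcreteCategory.isIso_iff_bijective]
      induction q with
      | zero => exact fun A => (ConcreteCategory.isIso_iff_bijective _).1 (h0 A)
      | succ q ih => exact key q ih (h1 q)

end Groth.Agent.H16.DeltaEff
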