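import Mathlib.LinearAlgebra.Determinant
import Mathlib.LinearAlgebra.Matrix.SchurComplement
import Mathlib.LinearAlgebra.TensorProduct.Tower
import Mathlib.RingTheory.TensorProduct.Free
import Mathlib.RingTheory.TensorProduct.Finite
import Mathlib.Algebra.Polynomial.Basic
import Mathlib.LinearAlgebra.FreeModule.Finite.Basic

/-!
# `det (1 - u t)` : Sylvester's identity and block-triangular factorization

For finite free modules, without choosing invariant complements that are free.
-/

set_option autoImplicit false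

universe u v w

open Polynomial TensorProduct

namespace Groth.Agent.H16.DetOneSub

section General

variable {S : Type u} [CommRing S] {V : Type v} {V' : Type w}
  [AddCommGroup V] [Module S V] [Module.Free S V] [Module.Finite S V]
  [AddCommGroup V'] [Module S V'] [Module.Free S V'] [Module.Finite S V']

/-- Sylvester / Weinstein–Aronszajn for linear maps. -/
theorem det_one_sub_comp_comm (f : V →ₗ[S] V') (g : V' →ₗ[S] V) :
    LinearMap.det (LinearMap.id - g ∘ₗ f) = LinearMap.det (LinearMap.id - f ∘ₗ g) := by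
  classical
  let b := Module.Free.chooseBasis S V
  let b' := Module.Free.chooseBasis S V'
  haveI : Fintype (Module.Free.ChooseBasisIndex S V) := Module.Free.ChooseBasisIndex.fintype S V
  haveI : Fintype (Module.Free.ChooseBasisIndex S V') := Module.Free.ChooseBasisIndex.fintype S V'
  rw [← LinearMap.det_toMatrix b, ← LinearMap.det_toMatrix b']
  rw [map_sub, map_sub, LinearMap.toMatrix_id, LinearMap.toMatrix_id,
    LinearMap.toMatrix_comp b b' b, LinearMap.toMatrix_comp b' b b']
  exact Matrix.det_one_sub_mul_comm _ _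

/-- Block-triangular factorization w.r.t. an idempotent. -/
theorem det_one_sub_of_idem (E W : V →ₗ[S] V) (hE : E ∘ₗ E = E)
    (h : (LinearMap.id - E) ∘ₗ W ∘ₗ E = 0) :
    LinearMap.det (LinearMap.id - W) =
      LinearMap.det (LinearMap.id - (LinearMap.id - E) ∘ₗ W ∘ₗ (LinearMap.id - E)) *
        LinearMap.det (LinearMap.id - E ∘ₗ W ∘ₗ E) := by
  -- work in the ring `Module.End S V`
  have hE' : (E * E : Module.End S V) = E := hE
  have h' : ((1 - E) * W * E : Module.End S V) = 0 := by
    rw [mul_assoc]; exact h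
  have h1 : ((1 - E) * E : Module.End S V) = 0 := by
    rw [sub_mul, one_mul, hE', sub_self]
  have h2 : ((1 - E) * W * (1 - E) : Module.End S V) = (1 - E) * W := by
    rw [mul_sub, mul_one, h', sub_zero]
  have h3 : (W * E : Module.End S V) = E * W * E := by
    have : (W * E : Module.End S V) = (1 - E) * W * E + E * W * E := by
      rw [sub_mul, sub_mul, one_mul]; abel
    rw [this, h', zero_add]
  have key : (1 - W : Module.End S V) = (1 - (1 - E) * W * (1 - E)) * (1 - E * W) := by
    rw [h2, sub_mul, one_mul, mul_sub, mul_one]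
    have : ((1 - E) * W * (E * W) : Module.End S V) = 0 := by
      rw [← mul_assoc, h', zero_mul]
    rw [this, sub_zero, sub_mul, one_mul]
    abel
  have e1 : LinearMap.det (LinearMap.id - W) =
      LinearMap.det ((1 - (1 - E) * W * (1 - E)) * (1 - E * W) : Module.End S V) := by
    rw [← key]; rfl
  rw [e1, map_mul]
  have a1 : LinearMap.det ((1 - (1 - E) * W * (1 - E) : Module.End S V)) =
      LinearMap.det (LinearMap.id - (LinearMap.id - E) ∘ₗ W ∘ₗ (LinearMap.id - E)) := by
    rw [mul_assoc]; rfl
  have a2 : LinearMap.det ((1 - E * W : Module.End S V)) =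
      LinearMap.det (LinearMap.id - E ∘ₗ W ∘ₗ E) := by
    have e2 : LinearMap.det ((1 - E * W : Module.End S V)) =
        LinearMap.det (LinearMap.id - W ∘ₗ E) := det_one_sub_comp_comm W E
    have e3 : (W ∘ₗ E) = E ∘ₗ W ∘ₗ E := by
      have := h3
      rw [mul_assoc] at this
      exact this
    exact e2.trans (congrArg (fun x => LinearMap.det (LinearMap.id - x)) e3)
  rw [a1, a2]

end General

section Poly

variable {A : Type u} [CommRing A] {M : Type v} {N : Type w}
  [AddCommGroup M] [Module A M] [Module.Free A M] [Module.Finite A M]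
  [AddCommGroup N] [Module A N] [Module.Free A N] [Module.Finite A N]

/-- `det (1 - u t)` -/
noncomputable def dOS (u : M →ₗ[A] M) : A[X] :=
  LinearMap.det (LinearMap.id - (X : A[X]) • u.baseChange A[X])

theorem dOS_comm (f : M →ₗ[A] N) (g : N →ₗ[A] M) : dOS (g ∘ₗ f) = dOS (f ∘ₗ g) := by
  unfold dOS
  have h1 : (X : A[X]) • (g ∘ₗ f).baseChange A[X] =
      ((X : A[X]) • g.baseChange A[X]) ∘ₗ f.baseChange A[X] := by
    rw [LinearMap.baseChange_comp, LinearMap.smul_comp]
  have h2 : (X : A[X]) • (f ∘ₗ g).baseChange A[X] =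
      f.baseChange A[X] ∘ₗ ((X : A[X]) • g.baseChange A[X]) := by
    rw [LinearMap.baseChange_comp, LinearMap.comp_smul]
  rw [h1, h2]
  exact det_one_sub_comp_comm _ _

omit [Module.Free A N] [Module.Finite A N] in
theorem dOS_of_idem (e w : M →ₗ[A] M) (he : e ∘ₗ e = e)
    (h : (LinearMap.id - e) ∘ₗ w ∘ₗ e = 0) :
    dOS w = dOS ((LinearMap.id - e) ∘ₗ w ∘ₗ (LinearMap.id - e)) * dOS (e ∘ₗ w ∘ₗ e) := by
  unfold dOS
  have hE : (e.baseChange A[X]) ∘ₗ (e.baseChange A[X]) = e.baseChange A[X] := by
    rw [← LinearMap.baseChange_comp, he]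
  have hid : (LinearMap.id : A[X] ⊗[A] M →ₗ[A[X]] A[X] ⊗[A] M) - e.baseChange A[X] =
      (LinearMap.id - e).baseChange A[X] := by
    rw [LinearMap.baseChange_sub, LinearMap.baseChange_id]
  have hz : (LinearMap.id - e.baseChange A[X]) ∘ₗ ((X : A[X]) • w.baseChange A[X]) ∘ₗ
      (e.baseChange A[X]) = 0 := by
    rw [hid, LinearMap.smul_comp, LinearMap.comp_smul, ← LinearMap.baseChange_comp,
      ← LinearMap.baseChange_comp, h, LinearMap.baseChange_zero, smul_zero]
  rw [det_one_sub_of_idem (e.baseChange A[X]) ((X : A[X]) • w.baseChange A[X]) hE hz]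
  congr 2
  · rw [hid, LinearMap.smul_comp, LinearMap.comp_smul, ← LinearMap.baseChange_comp,
      ← LinearMap.baseChange_comp]
  · rw [LinearMap.smul_comp, LinearMap.comp_smul, ← LinearMap.baseChange_comp,
      ← LinearMap.baseChange_comp]

omit [Module.Free A M] [Module.Finite A M] in
theorem dOS_zero : dOS (0 : M →ₗ[A] M) = 1 := by
  unfold dOS
  have : (LinearMap.id : A[X] ⊗[A] M →ₗ[A[X]] A[X] ⊗[A] M) -
      (X : A[X]) • (0 : M →ₗ[A] M).baseChange A[X] = LinearMap.id := by
    rw [LinearMap.baseChange_zero, smul_zero]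
    ext x
    simp
  rw [this]
  exact LinearMap.det_id

end Poly

end Groth.Agent.H16.DetOneSub
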