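import Groth.Agent.H16.DetOneSubA
import Groth.Prelude.Def_SGA4hB
import Mathlib.Algebra.Homology.HomotopyCategory.Pretriangulated
import Mathlib.Algebra.Category.ModuleCat.Biproducts
import Mathlib.Data.Int.Interval
import Mathlib.Algebra.BigOperators.Finprod

/-!
# `det (1 - u t)` on complexes: contractible complexes and mapping cones
-/

set_option autoImplicit false

universe u

open CategoryTheory Category Limits Polynomial CochainComplex HomComplex

namespace Groth.Agent.H16.DetOneSub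

variable {A : Type u} [CommRing A]

section Mod

variable {M N : ModuleCat.{u} A} [Module.Free A M] [Module.Finite A M]
  [Module.Free A N] [Module.Finite A N]

omit [Module.Free A M] [Module.Finite A M] in
lemma detOneSub_eq (u : M ⟶ M) : SGA4h.detOneSub M u = dOS u.hom := rfl

lemma dcomm (f : M ⟶ N) (g : N ⟶ M) :
    SGA4h.detOneSub M (f ≫ g) = SGA4h.detOneSub N (g ≫ f) := by
  rw [detOneSub_eq, detOneSub_eq, ModuleCat.hom_comp, ModuleCat.hom_comp]
  exact dOS_comm f.hom g.hom

omit [Module.Free A N] [Module.Finite A N] in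
lemma didem (e w : M ⟶ M) (he : e ≫ e = e) (h : e ≫ w ≫ (𝟙 M - e) = 0) :
    SGA4h.detOneSub M w =
      SGA4h.detOneSub M ((𝟙 M - e) ≫ w ≫ (𝟙 M - e)) * SGA4h.detOneSub M (e ≫ w ≫ e) := by
  rw [detOneSub_eq, detOneSub_eq, detOneSub_eq]
  have he' : e.hom ∘ₗ e.hom = e.hom := by
    rw [← ModuleCat.hom_comp, he]
  have h' : (LinearMap.id - e.hom) ∘ₗ w.hom ∘ₗ e.hom = 0 := by
    have := congrArg ModuleCat.Hom.hom h
    simpa only [ModuleCat.hom_comp, ModuleCat.hom_sub, ModuleCat.hom_id, ModuleCat.hom_zero,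
      LinearMap.comp_assoc] using this
  rw [dOS_of_idem e.hom w.hom he' h']
  simp only [ModuleCat.hom_comp, ModuleCat.hom_sub, ModuleCat.hom_id, LinearMap.comp_assoc]

omit [Module.Free A M] [Module.Finite A M] in
lemma detOneSub_zero : SGA4h.detOneSub M (0 : M ⟶ M) = 1 := by
  rw [detOneSub_eq, ModuleCat.hom_zero]
  exact dOS_zero

omit [Module.Free A M] [Module.Finite A M] in
lemma detOneSub_of_isZero (hM : IsZero M) (u : M ⟶ M) : SGA4h.detOneSub M u = 1 := by
  rw [hM.eq_of_src u 0]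
  exact detOneSub_zero

end Mod

section Contractible

variable {C : CochainComplex (ModuleCat.{u} A) ℤ}
  [∀ i, Module.Free A (C.X i)] [∀ i, Module.Finite A (C.X i)]
  (h : Homotopy (𝟙 C) 0) (w : C ⟶ C)

/-- the idempotent `d ∘ h` on `C.X n`, projecting on the cycles -/
noncomputable def eC (n : ℤ) : C.X n ⟶ C.X n := h.hom n (n - 1) ≫ C.d (n - 1) n

/-- `det (1 - e w e t)` -/
noncomputable def delta (n : ℤ) : A[X] :=
  SGA4h.detOneSub (C.X n) (eC h n ≫ w.f n ≫ eC h n)

omit [∀ i, Module.Free A (C.X i)] [∀ i, Module.Finite A (C.X i)] in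
lemma id_eq (n : ℤ) : 𝟙 (C.X n) = C.d n (n + 1) ≫ h.hom (n + 1) n + eC h n := by
  have hc := h.comm n
  rw [dNext_eq h.hom (show (ComplexShape.up ℤ).Rel n (n + 1) by simp),
    prevD_eq h.hom (show (ComplexShape.up ℤ).Rel (n - 1) n by simp),
    HomologicalComplex.zero_f, add_zero, HomologicalComplex.id_f] at hc
  exact hc

omit [∀ i, Module.Free A (C.X i)] [∀ i, Module.Finite A (C.X i)] in
lemma one_sub_eC (n : ℤ) : 𝟙 (C.X n) - eC h n = C.d n (n + 1) ≫ h.hom (n + 1) n := by
  rw [id_eq h n, add_sub_cancel_right]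

omit [∀ i, Module.Free A (C.X i)] [∀ i, Module.Finite A (C.X i)] in
lemma eC_eq' (n m : ℤ) (hm : n + 1 = m) :
    eC h m = h.hom m n ≫ C.d n m := by
  obtain rfl : n = m - 1 := by omega
  rfl

lemma detOneSub_step (n : ℤ) :
    SGA4h.detOneSub (C.X n) (w.f n) = delta h w (n + 1) * delta h w n := by
  have hee : eC h n ≫ (𝟙 (C.X n) - eC h n) = 0 := by
    rw [one_sub_eC, eC, assoc, HomologicalComplex.d_comp_d_assoc, Limits.zero_comp, Limits.comp_zero]
  have he : eC h n ≫ eC h n = eC h n := by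
    have := hee
    rw [Preadditive.comp_sub, comp_id, sub_eq_zero] at this
    exact this.symm
  have hz : eC h n ≫ w.f n ≫ (𝟙 (C.X n) - eC h n) = 0 := by
    rw [one_sub_eC, eC, assoc, ← w.comm_assoc (n - 1) n, HomologicalComplex.d_comp_d_assoc,
      Limits.zero_comp, Limits.comp_zero, Limits.comp_zero]
  rw [didem (eC h n) (w.f n) he hz]
  congr 1
  -- the complementary block
  rw [one_sub_eC, assoc]
  rw [dcomm (C.d n (n + 1)) (h.hom (n + 1) n ≫ w.f n ≫ C.d n (n + 1) ≫ h.hom (n + 1) n)]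
  unfold delta
  congr 1
  rw [eC_eq' h n (n + 1) rfl]
  simp only [assoc]
  rw [w.comm_assoc n (n + 1)]

/-- `n ↦ n + 1` from even to odd integers -/
def evenOdd : {i : ℤ // Even i} ≃ {j : ℤ // Odd j} where
  toFun i := ⟨i.1 + 1, i.2.add_one⟩
  invFun j := ⟨j.1 - 1, j.2.sub_odd odd_one⟩
  left_inv i := by ext; simp
  right_inv j := by ext; simp

/-- `n ↦ n + 1` from odd to even integers -/
def oddEven : {i : ℤ // Odd i} ≃ {j : ℤ // Even j} where
  toFun i := ⟨i.1 + 1, i.2.add_one⟩
  invFun j := ⟨j.1 - 1, by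
    obtain ⟨k, hk⟩ := j.2
    exact ⟨k - 1, by omega⟩⟩
  left_inv i := by ext; simp
  right_inv j := by ext; simp

omit [∀ i, Module.Free A (C.X i)] [∀ i, Module.Finite A (C.X i)] in
lemma delta_eq_one (n : ℤ) (hn : IsZero (C.X n)) : delta h w n = 1 :=
  detOneSub_of_isZero hn _

omit [∀ i, Module.Free A (C.X i)] [∀ i, Module.Finite A (C.X i)] in
lemma finite_support_sub {p : ℤ → Prop} (a b : ℤ) (f : ℤ → A[X])
    (hf : ∀ i : ℤ, i < a ∨ b < i → f i = 1) :
    Function.HasFiniteMulSupport (fun i : {i : ℤ // p i} => f i.1) := by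
  refine Set.Finite.subset ((Set.finite_Icc a b).preimage Subtype.val_injective.injOn) ?_
  intro i hi
  simp only [Set.mem_preimage, Set.mem_Icc]
  by_contra hcon
  exact hi (hf i.1 (by omega))

include h in
theorem detEven_eq_detOdd_of_contractible (a b : ℤ)
    (hC : ∀ i : ℤ, i < a ∨ b < i → IsZero (C.X i)) :
    SGA4h.detEven C w = SGA4h.detOdd C w := by
  have hd : ∀ i : ℤ, i < a ∨ b < i → delta h w i = 1 := fun i hi => delta_eq_one h w i (hC i hi)
  have hd' : ∀ i : ℤ, i < a - 1 ∨ b < i → delta h w (i + 1) = 1 :=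
    fun i hi => hd (i + 1) (by omega)
  unfold SGA4h.detEven SGA4h.detOdd
  have e1 : ∀ i : {i : ℤ // Even i}, SGA4h.detOneSub (C.X i.1) (w.f i.1) =
      delta h w (i.1 + 1) * delta h w i.1 := fun i => detOneSub_step h w i.1
  have e2 : ∀ i : {i : ℤ // Odd i}, SGA4h.detOneSub (C.X i.1) (w.f i.1) =
      delta h w (i.1 + 1) * delta h w i.1 := fun i => detOneSub_step h w i.1
  rw [finprod_congr e1, finprod_congr e2,
    finprod_mul_distrib (finite_support_sub (a - 1) b (fun i => delta h w (i + 1)) hd')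
      (finite_support_sub a b (delta h w) hd),
    finprod_mul_distrib (finite_support_sub (a - 1) b (fun i => delta h w (i + 1)) hd')
      (finite_support_sub a b (delta h w) hd)]
  have r1 : ∏ᶠ i : {i : ℤ // Even i}, delta h w (i.1 + 1) =
      ∏ᶠ j : {j : ℤ // Odd j}, delta h w j.1 :=
    finprod_comp_equiv evenOdd (f := fun j : {j : ℤ // Odd j} => delta h w j.1)
  have r2 : ∏ᶠ i : {i : ℤ // Odd i}, delta h w (i.1 + 1) =
      ∏ᶠ j : {j : ℤ // Even j}, delta h w j.1 :=
    finprod_comp_equiv oddEven (f := fun j : {j : ℤ // Even j} => delta h w j.1)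
  rw [r1, r2, mul_comm]

end Contractible

end Groth.Agent.H16.DetOneSub
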