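import Groth.Agent.H16.DetOneSubB
import Groth.Agent.H16.AltTrace
import Mathlib.Algebra.Homology.HomotopyCategory.Pretriangulated
import Mathlib.Algebra.Homology.DerivedCategory.KProjective

/-!
# `det (1 - u t)` on complexes: mapping cones and invariance under derived isomorphisms
-/

set_option autoImplicit false

universe u

open CategoryTheory Category Limits Polynomial CochainComplex HomComplex

namespace Groth.Agent.H16.DetOneSub

variable {A : Type u} [CommRing A]

section Cone

variable {K K' : CochainComplex (ModuleCat.{u} A) ℤ} (s : K ⟶ K')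

/-- the terms of the mapping cone as products -/
noncomputable def coneXEquiv (n : ℤ) : (mappingCone s).X n ≃ₗ[A] (K.X (n + 1) × K'.X n) :=
  (HomologicalComplex.homotopyCofiber.XIsoBiprod s n (n + 1) rfl ≪≫ ModuleCat.biprodIsoProd _ _).toLinearEquiv

lemma cone_free [∀ i, Module.Free A (K.X i)] [∀ i, Module.Free A (K'.X i)] (n : ℤ) :
    Module.Free A ((mappingCone s).X n) :=
  Module.Free.of_equiv (coneXEquiv s n).symm

lemma cone_finite [∀ i, Module.Finite A (K.X i)] [∀ i, Module.Finite A (K'.X i)] (n : ℤ) :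
    Module.Finite A ((mappingCone s).X n) :=
  Module.Finite.equiv (coneXEquiv s n).symm

variable {s} {u : K ⟶ K} {u' : K' ⟶ K'} (H : Homotopy (s ≫ u') (u ≫ s))

lemma w_fst (n : ℤ) :
    (mappingCone.mapOfHomotopy H).f n ≫ (mappingCone.fst s).1.v n (n + 1) rfl =
      (mappingCone.fst s).1.v n (n + 1) rfl ≫ u.f (n + 1) := by
  rw [mappingCone.ext_from_iff _ (n + 1) n rfl]
  constructor
  · simp [mappingCone.mapOfHomotopy]
  · simp [mappingCone.mapOfHomotopy]

lemma inr_w (n : ℤ) :
    (mappingCone.inr s).f n ≫ (mappingCone.mapOfHomotopy H).f n =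
      u'.f n ≫ (mappingCone.inr s).f n := by
  have := congrArg (fun f => f.f n) (mappingCone.triangleMapOfHomotopy_comm₂ H)
  simpa using this

section Step

variable [∀ i, Module.Free A (K.X i)] [∀ i, Module.Free A (K'.X i)]
  [∀ i, Module.Finite A (K.X i)] [∀ i, Module.Finite A (K'.X i)]

lemma cone_step (n : ℤ) :
    haveI := cone_free s n
    haveI := cone_finite s n
    SGA4h.detOneSub ((mappingCone s).X n) ((mappingCone.mapOfHomotopy H).f n) =
      SGA4h.detOneSub (K.X (n + 1)) (u.f (n + 1)) * SGA4h.detOneSub (K'.X n) (u'.f n) := by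
  haveI := cone_free s n
  haveI := cone_finite s n
  set w := (mappingCone.mapOfHomotopy H).f n with hw
  set i := (mappingCone.inr s).f n with hi
  set p := (mappingCone.snd s).v n n (add_zero n) with hp
  set j := (mappingCone.inl s).v (n + 1) n (by omega) with hj
  set q := (mappingCone.fst s).1.v n (n + 1) rfl with hq
  have jq : j ≫ q = 𝟙 _ := mappingCone.inl_v_fst_v s (n + 1) n (by omega)
  have jp : j ≫ p = 0 := mappingCone.inl_v_snd_v s (n + 1) n (by omega)
  have iq : i ≫ q = 0 := mappingCone.inr_f_fst_v s n (n + 1) rfl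
  have ip : i ≫ p = 𝟙 _ := mappingCone.inr_f_snd_v s n
  have hid : q ≫ j + p ≫ i = 𝟙 _ := mappingCone.id_X s n (n + 1) rfl
  have wq : w ≫ q = q ≫ u.f (n + 1) := w_fst H n
  have iw : i ≫ w = u'.f n ≫ i := inr_w H n
  have h1e : 𝟙 _ - p ≫ i = q ≫ j := by rw [← hid, add_sub_cancel_right]
  have he : (p ≫ i) ≫ (p ≫ i) = p ≫ i := by
    rw [assoc, reassoc_of% ip]
  have hz : (p ≫ i) ≫ w ≫ (𝟙 _ - p ≫ i) = 0 := by
    rw [h1e, assoc, reassoc_of% iw, reassoc_of% iq, Limits.zero_comp, Limits.comp_zero,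
      Limits.comp_zero]
  rw [didem (p ≫ i) w he hz, h1e]
  congr 1
  · rw [assoc, dcomm q (j ≫ w ≫ q ≫ j)]
    congr 1
    simp only [assoc]
    rw [jq, comp_id, wq, reassoc_of% jq]
  · rw [assoc, dcomm p (i ≫ w ≫ p ≫ i)]
    congr 1
    simp only [assoc]
    rw [ip, comp_id, reassoc_of% iw, ip, comp_id]

end Step

end Cone

section Main

attribute [local instance] HasDerivedCategory.standard

variable {K K' : CochainComplex (ModuleCat.{u} A) ℤ}
  [∀ i, Module.Free A (K.X i)] [∀ i, Module.Free A (K'.X i)]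

omit [∀ i, Module.Free A (K.X i)] [∀ i, Module.Free A (K'.X i)] in
lemma cone_isZero (a b : ℤ) (hK : ∀ i : ℤ, i < a ∨ b < i → IsZero (K.X i))
    (hK' : ∀ i : ℤ, i < a ∨ b < i → IsZero (K'.X i)) (s : K ⟶ K') (i : ℤ)
    (hi : i < a - 1 ∨ b < i) : IsZero ((mappingCone s).X i) := by
  rw [mappingCone.isZero_X_iff]
  exact ⟨hK _ (by omega), hK' _ (by omega)⟩

lemma cone_contractible (b : ℤ) (hK : ∀ i : ℤ, b < i → IsZero (K.X i))
    (hK' : ∀ i : ℤ, b < i → IsZero (K'.X i))
    (s : K ⟶ K') (hs : IsIso (DerivedCategory.Q.map s)) :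
    Nonempty (Homotopy (𝟙 (mappingCone s)) 0) := by
  haveI : ∀ i, Module.Free A ((mappingCone s).X i) := cone_free s
  haveI : (mappingCone s).IsKProjective := AltTrace.isKProjective_of_free b (fun i hi => by
    rw [mappingCone.isZero_X_iff]
    exact ⟨hK _ (by omega), hK' _ hi⟩)
  apply AltTrace.homotopy_of_Q_map_eq
  have hz : IsZero (DerivedCategory.Q.obj (mappingCone s)) :=
    Pretriangulated.Triangle.isZero₃_of_isIso₁ _
      (DerivedCategory.mappingCone_triangle_distinguished s) hs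
  exact hz.eq_of_src _ _

variable [∀ i, Module.Finite A (K.X i)] [∀ i, Module.Finite A (K'.X i)]

theorem detEven_mul_detOdd_eq (a b : ℤ) (hK : ∀ i : ℤ, i < a ∨ b < i → IsZero (K.X i))
    (hK' : ∀ i : ℤ, i < a ∨ b < i → IsZero (K'.X i))
    (u : K ⟶ K) (u' : K' ⟶ K') (φ : DerivedCategory.Q.obj K ≅ DerivedCategory.Q.obj K')
    (hφ : DerivedCategory.Q.map u ≫ φ.hom = φ.hom ≫ DerivedCategory.Q.map u') :
    SGA4h.detEven K u * SGA4h.detOdd K' u' = SGA4h.detOdd K u * SGA4h.detEven K' u' := by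
  haveI : K.IsKProjective := AltTrace.isKProjective_of_free b (fun i hi => hK i (Or.inr hi))
  obtain ⟨s, hs⟩ := AltTrace.exists_hom_of_Q φ.hom
  have hsiso : IsIso (DerivedCategory.Q.map s) := by rw [hs]; infer_instance
  obtain ⟨H⟩ := AltTrace.homotopy_of_Q_map_eq (s ≫ u') (u ≫ s)
    (by rw [Functor.map_comp, Functor.map_comp, hs, hφ])
  obtain ⟨h⟩ := cone_contractible b (fun i hi => hK i (Or.inr hi)) (fun i hi => hK' i (Or.inr hi))
    s hsiso
  haveI : ∀ i, Module.Free A ((mappingCone s).X i) := cone_free s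
  haveI : ∀ i, Module.Finite A ((mappingCone s).X i) := cone_finite s
  have key := detEven_eq_detOdd_of_contractible h (mappingCone.mapOfHomotopy H) (a - 1) b
    (cone_isZero a b hK hK' s)
  have hu : ∀ i : ℤ, i < a ∨ b < i → SGA4h.detOneSub (K.X i) (u.f i) = 1 :=
    fun i hi => detOneSub_of_isZero (hK i hi) _
  have hu' : ∀ i : ℤ, i < a ∨ b < i → SGA4h.detOneSub (K'.X i) (u'.f i) = 1 :=
    fun i hi => detOneSub_of_isZero (hK' i hi) _
  have hu1 : ∀ i : ℤ, i < a - 1 ∨ b < i →
      SGA4h.detOneSub (K.X (i + 1)) (u.f (i + 1)) = 1 :=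
    fun i hi => hu (i + 1) (by omega)
  have e1 : ∀ i : {i : ℤ // Even i},
      SGA4h.detOneSub ((mappingCone s).X i.1) ((mappingCone.mapOfHomotopy H).f i.1) =
        SGA4h.detOneSub (K.X (i.1 + 1)) (u.f (i.1 + 1)) * SGA4h.detOneSub (K'.X i.1) (u'.f i.1) :=
    fun i => cone_step H i.1
  have e2 : ∀ i : {i : ℤ // Odd i},
      SGA4h.detOneSub ((mappingCone s).X i.1) ((mappingCone.mapOfHomotopy H).f i.1) =
        SGA4h.detOneSub (K.X (i.1 + 1)) (u.f (i.1 + 1)) * SGA4h.detOneSub (K'.X i.1) (u'.f i.1) :=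
    fun i => cone_step H i.1
  have E : SGA4h.detEven (mappingCone s) (mappingCone.mapOfHomotopy H) =
      SGA4h.detOdd K u * SGA4h.detEven K' u' := by
    unfold SGA4h.detEven SGA4h.detOdd
    rw [finprod_congr e1, finprod_mul_distrib
      (finite_support_sub (a - 1) b (fun i => SGA4h.detOneSub (K.X (i + 1)) (u.f (i + 1))) hu1)
      (finite_support_sub a b (fun i => SGA4h.detOneSub (K'.X i) (u'.f i)) hu')]
    congr 1
    exact finprod_comp_equiv evenOdd
      (f := fun j : {j : ℤ // Odd j} => SGA4h.detOneSub (K.X j.1) (u.f j.1))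
  have O : SGA4h.detOdd (mappingCone s) (mappingCone.mapOfHomotopy H) =
      SGA4h.detEven K u * SGA4h.detOdd K' u' := by
    unfold SGA4h.detEven SGA4h.detOdd
    rw [finprod_congr e2, finprod_mul_distrib
      (finite_support_sub (a - 1) b (fun i => SGA4h.detOneSub (K.X (i + 1)) (u.f (i + 1))) hu1)
      (finite_support_sub a b (fun i => SGA4h.detOneSub (K'.X i) (u'.f i)) hu')]
    congr 1
    exact finprod_comp_equiv oddEven
      (f := fun j : {j : ℤ // Even j} => SGA4h.detOneSub (K.X j.1) (u.f j.1))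
  rw [← O, ← E, key]

end Main

end Groth.Agent.H16.DetOneSub
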