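import Groth.Prelude.Def_RDer
import Mathlib.Algebra.Homology.Homotopy

/-!
# `RDer.edgeIn Φ Ψ q X` is an isomorphism when `X` is `Φ`-acyclic

If `Φ` is left exact and preserves injectives, and `R^q Φ X = 0` for `q > 0`, then `Φ I` (for an injective resolution `I` of `X`) is an
injective resolution of `Φ X`, so the comparison `J ⟶ Φ I` from the chosen injective resolution of `Φ X` is a homotopy equivalence.
-/

set_option autoImplicit false
set_option linter.unusedSectionVars false
universe v₁ v₂ v₃ u₁ u₂ u₃
open CategoryTheory CategoryTheory.Limits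

namespace Groth.Agent.H16.EdgeInIso

variable {A : Type u₁} [Category.{v₁} A] [Abelian A] [HasInjectiveResolutions A]
  {B : Type u₂} [Category.{v₂} B] [Abelian B] [HasInjectiveResolutions B]
  {C : Type u₃} [Category.{v₃} C] [Abelian C]

section

variable (Φ : A ⥤ B) [Φ.Additive] [PreservesFiniteLimits Φ] {X : A} (I : InjectiveResolution X)

lemma quasiIsoAt_zero : QuasiIsoAt (RDer.mapAug Φ I.ι) 0 := by
  rw [CochainComplex.quasiIsoAt₀_iff, ShortComplex.quasiIso_iff_of_zeros]
  · have hex := I.exact₀
    have hm : Mono (I.ι.f 0) := inferInstance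
    have hex' := hex.map_of_mono_of_preservesKernel Φ hm inferInstance
    have hm' : Mono (Φ.map (I.ι.f 0)) := inferInstance
    refine (ShortComplex.exact_and_mono_f_iff_of_iso ?_).2 ⟨hex', hm'⟩
    exact ShortComplex.isoMk ((HomologicalComplex.eval _ _ 0).mapIso
      ((HomologicalComplex.singleMapHomologicalComplex Φ (ComplexShape.up ℕ) 0).symm.app X))
      (Iso.refl _) (Iso.refl _) (by
        dsimp
        exact (Category.comp_id _).symm) (by
        dsimp
        exact (Category.id_comp _).trans (Category.comp_id _).symm)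
  · simp; rfl
  · simp; rfl
  · simp; rfl

lemma quasiIso_mapAug (h : ∀ q : ℕ, 0 < q → IsZero ((Φ.rightDerived q).obj X)) :
    QuasiIso (RDer.mapAug Φ I.ι) := by
  refine ⟨fun n => ?_⟩
  cases n with
  | zero => exact quasiIsoAt_zero Φ I
  | succ n =>
    rw [quasiIsoAt_iff_exactAt]
    · rw [HomologicalComplex.exactAt_iff_isZero_homology]
      exact (h (n + 1) (Nat.succ_pos n)).of_iso (I.isoRightDerivedObj Φ (n + 1)).symm
    · exact CochainComplex.exactAt_succ_single_obj _ _

variable [Φ.PreservesInjectiveObjects]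

/-- `Φ I` as an injective resolution of `Φ X`, for `Φ`-acyclic `X`. -/
noncomputable def mapRes (h : ∀ q : ℕ, 0 < q → IsZero ((Φ.rightDerived q).obj X)) :
    InjectiveResolution (Φ.obj X) where
  cocomplex := (Φ.mapHomologicalComplex _).obj I.cocomplex
  injective n := Φ.injective_obj (I.cocomplex.X n)
  ι := RDer.mapAug Φ I.ι
  quasiIso := quasiIso_mapAug Φ I h

/-- The comparison `J ⟶ Φ I` used in `RDer.edgeIn`. -/
noncomputable abbrev cmp (X : A) :
    (injectiveResolution (Φ.obj X)).cocomplex ⟶
      (Φ.mapHomologicalComplex _).obj (injectiveResolution X).cocomplex :=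
  RDer.descToInjectives (𝟙 (Φ.obj X)) (injectiveResolution (Φ.obj X)).cocomplex
    (injectiveResolution (Φ.obj X)).ι
    ((Φ.mapHomologicalComplex _).obj (injectiveResolution X).cocomplex)
    (RDer.mapAug Φ (injectiveResolution X).ι)

/-- `cmp` is homotopic to the homotopy equivalence between the two injective resolutions of `Φ X`. -/
noncomputable def cmpHomotopy (X : A) (h : ∀ q : ℕ, 0 < q → IsZero ((Φ.rightDerived q).obj X)) :
    Homotopy (cmp Φ X)
      (InjectiveResolution.homotopyEquiv (injectiveResolution (Φ.obj X))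
        (mapRes Φ (injectiveResolution X) h)).hom := by
  refine InjectiveResolution.descHomotopy (𝟙 (Φ.obj X)) (I := injectiveResolution (Φ.obj X))
    (J := mapRes Φ (injectiveResolution X) h) _ _ ?_ ?_
  · apply HomologicalComplex.from_single_hom_ext
    have h1 := RDer.ι_descToInjectives_f_zero (𝟙 (Φ.obj X))
      (injectiveResolution (Φ.obj X)).cocomplex (injectiveResolution (Φ.obj X)).ι
      ((Φ.mapHomologicalComplex _).obj (injectiveResolution X).cocomplex)
      (RDer.mapAug Φ (injectiveResolution X).ι)
    rw [Category.id_comp] at h1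
    refine h1.trans ?_
    rw [CategoryTheory.Functor.map_id]
    exact (Category.id_comp _).symm
  · rw [InjectiveResolution.homotopyEquiv_hom_ι, CategoryTheory.Functor.map_id, Category.id_comp]

variable (Ψ : B ⥤ C) [Ψ.Additive]

lemma isIso_homologyMap_cmp (X : A) (h : ∀ q : ℕ, 0 < q → IsZero ((Φ.rightDerived q).obj X)) (q : ℕ) :
    IsIso ((HomologicalComplex.homologyFunctor C _ q).map
      ((Ψ.mapHomologicalComplex _).map (cmp Φ X))) := by
  let e := (Ψ.mapHomotopyEquiv (InjectiveResolution.homotopyEquiv (injectiveResolution (Φ.obj X))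
        (mapRes Φ (injectiveResolution X) h))).toHomologyIso q
  have hh := (Ψ.mapHomotopy (cmpHomotopy Φ X h)).homologyMap_eq q
  have : (HomologicalComplex.homologyFunctor C _ q).map
      ((Ψ.mapHomologicalComplex _).map (cmp Φ X)) = e.hom := hh
  rw [this]
  infer_instance

/-- **`edgeIn` is an isomorphism on `Φ`-acyclic objects.** -/
theorem isIso_edgeIn (X : A) (h : ∀ q : ℕ, 0 < q → IsZero ((Φ.rightDerived q).obj X)) (q : ℕ) :
    IsIso (RDer.edgeIn Φ Ψ q X) := by
  have := isIso_homologyMap_cmp Φ Ψ X h q
  dsimp only [RDer.edgeIn]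
  infer_instance

end

end Groth.Agent.H16.EdgeInIso
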