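import Groth.Agent.H16.RlimLimFunctorB
import Groth.Agent.Lead.Coh.AffineOpen
import Groth.Agent.Lead.Coh.Leray
import Groth.Agent.H12.QCohAbelian
import Groth.Agent.H31.SheafOfModulesToSheaf
import Groth.Prelude.Def_Formal2

/-!
# Limits of quasi-coherent formal systems: the underlying tower of abelian sheaves (helper16)
-/

set_option autoImplicit false
universe u
open CategoryTheory CategoryTheory.Limits Opposite AlgebraicGeometry TopologicalSpace Abelian

namespace Groth.Agent.H16.FormalLim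

variable {A : Type u} [CommRing A] {I : Ideal A} {X : Scheme.{u}} [X.Over (Spec (CommRingCat.of A))]
  (G : ℕᵒᵖ ⥤ X.Modules)

/-- the underlying tower of abelian sheaves. -/
noncomputable abbrev Fab : ℕᵒᵖ ⥤ Sheaf (Opens.grothendieckTopology X) AddCommGrpCat.{u} :=
  G ⋙ SheafOfModules.toSheaf.{u} X.ringCatSheaf

/-- the class of affine opens. -/
def Baff (X : Scheme.{u}) : Set X.Opens := {U | IsAffineOpen U}

lemma hB (X : Scheme.{u}) : ∀ V : X.Opens, ∃ (ι : Type u) (Y : ι → X.Opens) (f : ∀ i, Y i ⟶ V),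
    Sieve.ofArrows Y f ∈ Opens.grothendieckTopology X V ∧ ∀ i, Y i ∈ Baff X := by
  intro V
  refine ⟨{W : X.Opens // IsAffineOpen W ∧ W ≤ V}, fun i => i.1, fun i => homOfLE i.2.2, ?_,
    fun i => i.2.1⟩
  intro x hx
  obtain ⟨W, hWB, hxW, hWV⟩ := Opens.isBasis_iff_nbhd.1 X.isBasis_affineOpens hx
  exact ⟨W, homOfLE hWV, Sieve.ofArrows_mk (fun i : {W : X.Opens // IsAffineOpen W ∧ W ≤ V} => i.1)
    (fun i => homOfLE i.2.2) ⟨W, hWB, hWV⟩, hxW⟩

variable (hG : Formal2.IsQCohFormal I G)

include hG in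
lemma hvan : ∀ V ∈ Baff X, ∀ (n i : ℕ), 0 < i → Subsingleton (CohSite.HU ((Fab G).obj (op n)) i V) := by
  intro V hV n i hi
  obtain ⟨j, rfl⟩ : ∃ j, i = j + 1 := ⟨i - 1, by omega⟩
  haveI : (G.obj (op n)).IsQuasicoherent := hG.1 n
  constructor
  intro x y
  have h := Groth.Agent.Lead.Coh.hVanish_of_isAffineOpen X (G.obj (op n)) hV j
  exact (h x).trans (h y).symm

include hG in
lemma epi_trans (n : ℕ) : Epi (G.map (homOfLE (Nat.le_succ n)).op) := by
  obtain ⟨h, hiso⟩ := hG.2.2 n
  have h1 : cokernel.π (Formal.smulFamily (I ^ (n + 1)) (G.obj (op (n + 1)))) ≫ cokernel.desc _ _ h =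
      G.map (homOfLE (Nat.le_succ n)).op := cokernel.π_desc _ _ h
  rw [← h1]
  haveI : Epi (cokernel.desc _ _ h) := @IsIso.epi_of_iso _ _ _ _ _ hiso
  exact epi_comp _ _

include hG in
lemma hsurj : ∀ V ∈ Baff X, ∀ n : ℕ,
    Function.Surjective (((Fab G).map (homOfLE (Nat.le_succ n)).op).hom.app (op V)).hom := by
  intro V hV n
  haveI : (G.obj (op n)).IsQuasicoherent := hG.1 n
  haveI : (G.obj (op (n + 1))).IsQuasicoherent := hG.1 (n + 1)
  let φ := G.map (homOfLE (Nat.le_succ n)).op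
  haveI : Epi φ := epi_trans G hG n
  haveI : (kernel φ).IsQuasicoherent := Groth.Agent.H12.QCohAbelian.isQuasicoherent_kernel φ
  let S : ShortComplex X.Modules := ShortComplex.mk (kernel.ι φ) φ (kernel.condition φ)
  have hS : S.ShortExact :=
    { exact := ShortComplex.exact_of_f_is_kernel S (kernelIsKernel φ)
      mono_f := inferInstanceAs (Mono (kernel.ι φ))
      epi_g := inferInstanceAs (Epi φ) }
  haveI : PreservesFiniteLimits (SheafOfModules.toSheaf.{u} X.ringCatSheaf) := inferInstance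
  haveI : PreservesFiniteColimits (SheafOfModules.toSheaf.{u} X.ringCatSheaf) :=
    (Groth.Agent.H31.toSheaf_preservesColimits X.ringCatSheaf).preservesFiniteColimits
  have hS' : (S.map (SheafOfModules.toSheaf.{u} X.ringCatSheaf)).ShortExact :=
    hS.map_of_exact (SheafOfModules.toSheaf.{u} X.ringCatSheaf)
  have h := Groth.Agent.Lead.Cech.app_surjective hS' V
    (Groth.Agent.Lead.Coh.hVanish_of_isAffineOpen X (kernel φ) hV 0)
  exact h

/-- the underlying abelian sheaf of the limit is the limit of the underlying abelian sheaves. -/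
noncomputable def limIso : Coh.toAb (limit G) ≅ limit (Fab G) :=
  haveI : PreservesLimitsOfSize.{0, 0} (SheafOfModules.toSheaf.{u} X.ringCatSheaf) :=
    @preservesLimitsOfSize_shrink _ _ _ _ _ (Groth.Agent.H31.toSheaf_preservesLimits X.ringCatSheaf)
  preservesLimitIso (SheafOfModules.toSheaf.{u} X.ringCatSheaf) G

lemma limIso_hom_π (n : ℕ) :
    (limIso G).hom ≫ limit.π (Fab G) (op n) =
      (SheafOfModules.toSheaf.{u} X.ringCatSheaf).map
        (limit.π G (op n) : (limit G : X.Modules) ⟶ G.obj (op n)) := by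
  haveI : PreservesLimitsOfSize.{0, 0} (SheafOfModules.toSheaf.{u} X.ringCatSheaf) :=
    @preservesLimitsOfSize_shrink _ _ _ _ _ (Groth.Agent.H31.toSheaf_preservesLimits X.ringCatSheaf)
  exact preservesLimitIso_hom_π (SheafOfModules.toSheaf.{u} X.ringCatSheaf) G (op n)

end Groth.Agent.H16.FormalLim
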