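import Groth.Agent.H16.RlimTruncA

/-!
# `E` is the derived limit of its truncations as soon as `H^m(R lim) → H^m(τ_{≥ -n} E)` is injective (helper16)
-/

set_option autoImplicit false
universe w u
open CategoryTheory CategoryTheory.Limits Pretriangulated DerivedCategory

namespace Groth.Agent.H16.RlimTruncC

variable {A : Type (u + 1)} [Category.{u} A] [Abelian A] [HasDerivedCategory.{w} A]

theorem isRlimVia_of_mono (E : DerivedCategory A) [HasProduct (CohCx.truncTower E)]
    (hmono : ∀ (R : DerivedCategory A) (a : ∀ n, R ⟶ CohCx.truncTower E n),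
      CohCx.IsRlimVia (CohCx.truncTower E) (CohCx.truncTowerMap E) R a →
      ∀ m : ℤ, Mono ((homologyFunctor A m).map (a (-m).toNat))) :
    CohCx.IsRlimVia (CohCx.truncTower E) (CohCx.truncTowerMap E) E (CohCx.toTruncTower E) := by
  let K := CohCx.truncTower E
  let tt := CohCx.truncTowerMap E
  let π := CohCx.toTruncTower E
  let g : ∏ᶜ K ⟶ ∏ᶜ K := Pi.lift fun n => Pi.π K n - Pi.π K (n + 1) ≫ tt n
  obtain ⟨R, a', c, hc⟩ := distinguished_cocone_triangle₁ g
  let a : ∀ n, R ⟶ K n := fun n => a' ≫ Pi.π K n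
  have ha : Pi.lift a = a' := by
    apply Pi.hom_ext
    intro n
    rw [Pi.lift_π]
  have hR : CohCx.IsRlimVia K tt R a := ⟨c, by rw [ha]; exact hc⟩
  have hπg : Pi.lift π ≫ g = 0 := by
    apply Pi.hom_ext
    intro n
    rw [Category.assoc, Pi.lift_π, zero_comp, Preadditive.comp_sub, ← Category.assoc, Pi.lift_π,
      Pi.lift_π, RlimTruncA.toTruncTower_comp, sub_self]
  obtain ⟨ψ, hψ'⟩ : ∃ ψ : E ⟶ R, Pi.lift π = ψ ≫ a' :=
    Triangle.coyoneda_exact₂ _ hc (Pi.lift π) hπg
  have hψa : ∀ n, ψ ≫ a n = π n := by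
    intro n
    change ψ ≫ a' ≫ Pi.π K n = π n
    rw [← Category.assoc, ← hψ', Pi.lift_π]
  have hiso : IsIso ψ := by
    rw [DerivedCategory.isIso_iff]
    intro m
    have h1 : (homologyFunctor A m).map ψ ≫ (homologyFunctor A m).map (a (-m).toNat) =
        (homologyFunctor A m).map (π (-m).toNat) := by
      rw [← Functor.map_comp, hψa]
    have h2 : IsIso ((homologyFunctor A m).map (π (-m).toNat)) :=
      RlimTruncA.isIso_homologyMap_toTruncTower E (-m).toNat m (by omega)
    have h3 : Mono ((homologyFunctor A m).map (a (-m).toNat)) := hmono R a hR m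
    have h4 : IsIso ((homologyFunctor A m).map (a (-m).toNat)) := by
      have : IsSplitEpi ((homologyFunctor A m).map (a (-m).toNat)) :=
        ⟨⟨inv ((homologyFunctor A m).map (π (-m).toNat)) ≫ (homologyFunctor A m).map ψ, by
          rw [Category.assoc, h1, IsIso.inv_hom_id]⟩⟩
      exact isIso_of_mono_of_isSplitEpi _
    exact IsIso.of_isIso_fac_right h1
  refine ⟨c ≫ (inv ψ)⟦(1 : ℤ)⟧', ?_⟩
  refine isomorphic_distinguished _ hc _ ?_
  refine Triangle.isoMk _ _ (@asIso _ _ _ _ ψ hiso) (Iso.refl _) (Iso.refl _) ?_ ?_ ?_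
  · exact (Category.comp_id _).trans hψ'
  · exact (Category.comp_id _).trans (Category.id_comp _).symm
  · change (c ≫ (inv ψ)⟦(1 : ℤ)⟧') ≫ ψ⟦(1 : ℤ)⟧' = 𝟙 _ ≫ c
    rw [Category.assoc, ← Functor.map_comp, IsIso.inv_hom_id, CategoryTheory.Functor.map_id,
      Category.id_comp]
    exact Category.comp_id c

end Groth.Agent.H16.RlimTruncC
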