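import Groth.Agent.H16.RlimTruncB
import Groth.Agent.H16.RlimTruncC
import Groth.Agent.S0478

/-!
# Hypercohomology on objects whose cohomology with values in the cohomology sheaves vanishes (helper16), part A
-/

set_option autoImplicit false
universe v' u' u
open CategoryTheory CategoryTheory.Limits Pretriangulated Opposite DerivedCategory

namespace Groth.Agent.H16.HyperAcyclicA

section families

/-- extend an element of `A N` to a compatible family when the transition maps are surjective from `N` on. -/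
lemma exists_compatible_family (N : ℕ) : ∀ (A : ℕ → Type u) (t : ∀ n, A (n + 1) → A n),
    (∀ n, N ≤ n → Function.Surjective (t n)) → ∀ x₀ : A N,
    ∃ x : ∀ n, A n, (∀ n, t n (x (n + 1)) = x n) ∧ x N = x₀ := by
  induction N with
  | zero =>
    intro A t h x₀
    let x : ∀ n, A n := fun n => Nat.rec (motive := fun n => A n) x₀
      (fun n xn => Classical.choose (h n (Nat.zero_le n) xn)) n
    refine ⟨x, fun n => ?_, rfl⟩
    exact Classical.choose_spec (h n (Nat.zero_le n) (x n))
  | succ N ih =>
    intro A t h x₀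
    obtain ⟨x', hx', hx'N⟩ := ih (fun n => A (n + 1)) (fun n => t (n + 1))
      (fun n hn => h (n + 1) (Nat.succ_le_succ hn)) x₀
    let x : ∀ n, A n := fun n => Nat.casesOn (motive := fun n => A n) n (t 0 (x' 0)) (fun n => x' n)
    refine ⟨x, fun n => ?_, hx'N⟩
    cases n with
    | zero => rfl
    | succ n => exact hx' n

end families

section site

variable {C : Type u} [SmallCategory C] {J : GrothendieckTopology C}
  [HasDerivedCategory.{u} (Sheaf J AddCommGrpCat.{u})]

lemma hasProduct_nat (K : ℕ → DerivedCategory (Sheaf J AddCommGrpCat.{u})) : HasProduct K := by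
  have h1 : HasProducts.{u} (DerivedCategory (Sheaf J AddCommGrpCat.{u})) := Groth.Agent.S0478.result
  have h2 : HasProducts.{0} (DerivedCategory (Sheaf J AddCommGrpCat.{u})) :=
    has_smallest_products_of_hasProducts
  infer_instance

/-- `H^i(U, M) = 0` for `M ∈ D^{≥ b}` and `i < b`. -/
lemma subsingleton_HDU_of_isGE (M : DerivedCategory (Sheaf J AddCommGrpCat.{u})) (b i : ℤ) (hi : i < b)
    [hM : M.IsGE b] (U : C) : Subsingleton (CohCx.HDU M i U) := by
  constructor
  intro x y
  have h1 : TStructure.t.IsGE (M⟦i⟧) (b - i) := TStructure.t.isGE_shift M b i (b - i) (by omega)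
  have h2 : TStructure.t.IsLE ((singleFunctor (Sheaf J AddCommGrpCat.{u}) 0).obj
    (CohCx.freeSheaf J U)) 0 := inferInstance
  rw [TStructure.t.zero_of_isLE_of_isGE x 0 (b - i) (by omega) h2 h1,
    TStructure.t.zero_of_isLE_of_isGE y 0 (b - i) (by omega) h2 h1]

/-- surjectivity of the transition maps of `H^q(Y, τ_{≥ -n} E)`. -/
lemma transition_surj (E : DerivedCategory (Sheaf J AddCommGrpCat.{u})) (Y : C) (q : ℤ)
    (hvan : ∀ (p : ℕ) (q' : ℤ), Subsingleton (CohSite.HU (CohCx.HD E q') (p + 1) Y))
    (n : ℕ) (hn : -q ≤ n) :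
    Function.Surjective (fun x : CohCx.HDU (CohCx.truncTower E (n + 1)) q Y =>
        x ≫ (CohCx.truncTowerMap E n)⟦q⟧') := by
  obtain ⟨F, f, δ, hT, ⟨e⟩⟩ := RlimTruncA.exists_triangle E (-((n + 1 : ℕ) : ℤ)) (-(n : ℤ))
    (by push_cast; ring)
  have hk : ((q + n + 1).toNat : ℤ) = q + n + 1 := Int.toNat_of_nonneg (by omega)
  have hsub : Subsingleton (CohCx.HDU F (q + 1) Y) := by
    refine RlimTruncB.subsingleton_HDU_of_HU Y (CohCx.HD E (-((n + 1 : ℕ) : ℤ))) F
      (-((n + 1 : ℕ) : ℤ)) (q + 1) ((q + n + 1).toNat + 1) (by push_cast; omega) e ?_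
    exact hvan _ _
  exact RlimTruncB.comp_surjective_of_subsingleton _ hT _ q (q + 1) rfl hsub

end site

end Groth.Agent.H16.HyperAcyclicA
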