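import Groth.Agent.H16.HyperAcyclicA

/-!
# Hypercohomology on objects whose cohomology with values in the cohomology sheaves vanishes (helper16), part B
-/

set_option autoImplicit false
universe u
open CategoryTheory CategoryTheory.Limits Pretriangulated Opposite DerivedCategory

namespace Groth.Agent.H16.HyperAcyclicB

open Groth.Agent.H16.HyperAcyclicA

variable {C : Type u} [SmallCategory C] {J : GrothendieckTopology C}
  [HasDerivedCategory.{u} (Sheaf J AddCommGrpCat.{u})]
  (K : DerivedCategory (Sheaf J AddCommGrpCat.{u})) (U : C)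
  (hvan : ∀ (p : ℕ) (q' : ℤ), Subsingleton (CohSite.HU (CohCx.HD K q') (p + 1) U))

include hvan

/-- `H^q(U, K) → H^q(U, τ_{≥ -N} K)` is bijective for `-q ≤ N` when `K` is the derived limit of its truncations. -/
lemma bijective_toTruncTower [HasProduct (CohCx.truncTower K)]
    (hR : CohCx.IsRlimVia (CohCx.truncTower K) (CohCx.truncTowerMap K) K (CohCx.toTruncTower K))
    (q : ℤ) (N : ℕ) (hN : -q ≤ N) :
    Function.Bijective (fun y : CohCx.HDU K q U => y ≫ (CohCx.toTruncTower K N)⟦q⟧') := by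
  have hyp := RlimTruncB.hyp_of_vanishing K U q 0 (fun k hk => by
    obtain ⟨p, rfl⟩ : ∃ p, k = p + 1 := ⟨k - 1, by omega⟩
    exact hvan p _) N (by omega) (by omega)
  constructor
  · intro y y' hyy'
    have h1 : (y - y') ≫ (CohCx.toTruncTower K N)⟦q⟧' = 0 := by
      rw [Preadditive.sub_comp]
      exact sub_eq_zero.2 hyy'
    exact sub_eq_zero.1
      (RlimInjA.eq_zero_of_comp_eq_zero hR _ q N hyp.1 (fun k => hyp.2 k) (y - y') h1)
  · intro x₀
    obtain ⟨x, hx, hxN⟩ := exists_compatible_family N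
      (fun n => CohCx.HDU (CohCx.truncTower K n) q U)
      (fun n x => x ≫ (CohCx.truncTowerMap K n)⟦q⟧')
      (fun n hn => transition_surj K U q hvan n (by omega)) x₀
    obtain ⟨y, hy⟩ := RlimMilnor.exists_lift hR _ q x hx
    exact ⟨y, (hy N).trans hxN⟩

/-- `H^q(U, τ_{≥a} K) → H^q(U, τ_{≥a+1} K)` is bijective for `a < q`. -/
lemma bijective_natTrans (a q : ℤ) (haq : a < q) :
    Function.Bijective (fun x : CohCx.HDU ((TStructure.t.truncGE a).obj K) q U =>
      x ≫ ((TStructure.t.natTransTruncGEOfLE a (a + 1) (by omega)).app K)⟦q⟧') := by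
  obtain ⟨F, f, δ, hT, ⟨e⟩⟩ := RlimTruncA.exists_triangle K a (a + 1) rfl
  have hk : ((q - a - 1).toNat : ℤ) = q - a - 1 := Int.toNat_of_nonneg (by omega)
  have hsub1 : Subsingleton (CohCx.HDU F q U) :=
    RlimTruncB.subsingleton_HDU_of_HU U (CohCx.HD K a) F a q ((q - a - 1).toNat + 1)
      (by push_cast; omega) e (hvan _ _)
  have hsub2 : Subsingleton (CohCx.HDU F (q + 1) U) :=
    RlimTruncB.subsingleton_HDU_of_HU U (CohCx.HD K a) F a (q + 1) ((q - a - 1).toNat + 1 + 1)
      (by push_cast; omega) e (hvan _ _)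
  exact ⟨RlimTruncB.comp_injective_of_subsingleton _ hT _ q hsub1,
    RlimTruncB.comp_surjective_of_subsingleton _ hT _ q (q + 1) rfl hsub2⟩

/-- `H^q(U, τ_{≥a} K) ≃ H^q(U, τ_{≥q} K)` for `a ≤ q`. -/
lemma nonempty_addEquiv_truncGE (q : ℤ) (d : ℕ) : ∀ a : ℤ, a + d = q →
    Nonempty (CohCx.HDU ((TStructure.t.truncGE a).obj K) q U ≃+
      CohCx.HDU ((TStructure.t.truncGE q).obj K) q U) := by
  induction d with
  | zero =>
    intro a ha
    obtain rfl : a = q := by simpa using ha
    exact ⟨AddEquiv.refl _⟩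
  | succ d ih =>
    intro a ha
    obtain ⟨e'⟩ := ih (a + 1) (by push_cast at ha; omega)
    have hb := bijective_natTrans K U hvan a q (by push_cast at ha; omega)
    let e₀ : CohCx.HDU ((TStructure.t.truncGE a).obj K) q U ≃+
        CohCx.HDU ((TStructure.t.truncGE (a + 1)).obj K) q U :=
      AddEquiv.ofBijective (Preadditive.rightComp _
        (((TStructure.t.natTransTruncGEOfLE a (a + 1) (by omega)).app K)⟦q⟧')) hb
    exact ⟨e₀.trans e'⟩

end Groth.Agent.H16.HyperAcyclicB
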