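import Groth.Agent.H16.RlimInjC

/-!
# Local injectivity of `H^m(L) → H^m(K_N)` for a derived limit of complexes of sheaves (helper16)
-/

set_option autoImplicit false
universe u
open CategoryTheory CategoryTheory.Limits Opposite CochainComplex HomComplex DerivedCategory

namespace Groth.Agent.H16.RlimInjD

open Groth.Agent.H30 Groth.Agent.H30.HDSheafify Groth.Agent.H16.RlimInjB Groth.Agent.H16.RlimInjC

variable {C : Type u} [SmallCategory C] {J : GrothendieckTopology C}
  [HasDerivedCategory.{u} (Sheaf J AddCommGrpCat.{u})]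

/-- The Milnor-type hypotheses on an object `Y`. -/
def Hyp (K : ℕ → DerivedCategory (Sheaf J AddCommGrpCat.{u})) (t : ∀ n, K (n + 1) ⟶ K n)
    (m : ℤ) (N : ℕ) (Y : C) : Prop :=
  CohCx.LimOneIsZero (fun n => CohCx.HDU (K n) (m - 1) Y)
      (fun n => Preadditive.rightComp _ ((CategoryTheory.shiftFunctor _ (m - 1)).map (t n))) ∧
    ∀ k : ℕ, Function.Injective
      (Preadditive.rightComp _ ((CategoryTheory.shiftFunctor _ m).map (CohCx.transition K t N k)) :
        CohCx.HDU (K (N + k)) m Y → CohCx.HDU (K N) m Y)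

section chain

variable (K : ℕ → DerivedCategory (Sheaf J AddCommGrpCat.{u})) (t : ∀ n, K (n + 1) ⟶ K n)
  [HasProduct K] (L : DerivedCategory (Sheaf J AddCommGrpCat.{u})) (a : ∀ n, L ⟶ K n)
  (hL : CohCx.IsRlimVia K t L a) (m : ℤ) (N : ℕ)
  (IL IN : CochainComplex (Sheaf J AddCommGrpCat.{u}) ℤ) [IL.IsKInjective] [IN.IsKInjective]
  (eL : L ≅ Q.obj IL) (eN : K N ≅ Q.obj IN) (φ : IL ⟶ IN)
  (hφ : Q.map φ = eL.inv ≫ a N ≫ eN.hom)

include hL hφ in
/-- on an object satisfying the hypotheses, a cycle of `IL` whose image in `IN` is a boundary is itself a boundary. -/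
lemma boundary_of_map_boundary (Y : C) (hY : Hyp K t m N Y)
    (x : ((T IL m).g.app (op Y)).hom.ker)
    (hx : ∃ b, ((T IN m).f.app (op Y)).hom b = (mapKer φ m (op Y) x).1) :
    ∃ y, ((T IL m).f.app (op Y)).hom y = x.1 := by
  have h1 : c IN m (op Y) (mapKer φ m (op Y) x) = 0 := (c_eq_zero_iff IN m (op Y) _).2 hx
  rw [c_postcomp] at h1
  let y : CohCx.HDU L m Y := c IL m (op Y) x ≫ (eL.inv)⟦m⟧'
  have hy : y ≫ (a N)⟦m⟧' = 0 := by
    have h2 : eL.inv ≫ a N = Q.map φ ≫ eN.inv := by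
      rw [hφ, Category.assoc, Category.assoc, Iso.hom_inv_id, Category.comp_id]
    change (c IL m (op Y) x ≫ (eL.inv)⟦m⟧') ≫ (a N)⟦m⟧' = 0
    rw [Category.assoc, ← Functor.map_comp, h2, Functor.map_comp, ← Category.assoc, h1, zero_comp]
  have hy0 : y = 0 :=
    RlimInjA.eq_zero_of_comp_eq_zero hL _ m N hY.1 (fun k => hY.2 k) y hy
  have h3 : c IL m (op Y) x = 0 := by
    have h4 : c IL m (op Y) x = y ≫ (eL.hom)⟦m⟧' := by
      change _ = (c IL m (op Y) x ≫ (eL.inv)⟦m⟧') ≫ (eL.hom)⟦m⟧'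
      rw [Category.assoc, ← Functor.map_comp, Iso.inv_hom_id, CategoryTheory.Functor.map_id, Category.comp_id]
    rw [h4, hy0]
    exact zero_comp
  exact (c_eq_zero_iff IL m (op Y) x).1 h3

include hL hφ in
/-- the chain-level form of the local injectivity statement. -/
theorem core_chain (V : C) (s : (IL.sc m).homology.obj.obj (op V))
    (hs : ((ShortComplex.homologyMap ((HomologicalComplex.shortComplexFunctor _ _ m).map φ)).hom.app
      (op V)).hom s = 0) :
    ∃ T : Sieve V, T ∈ J V ∧ ∀ ⦃Y : C⦄ (f : Y ⟶ V), T.arrows f → Hyp K t m N Y →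
      ((IL.sc m).homology.obj.map f.op).hom s = 0 := by
  let S := IL.sc m
  let S' := IN.sc m
  let Φ : S ⟶ S' := (HomologicalComplex.shortComplexFunctor _ _ m).map φ
  obtain ⟨T₁, hT₁, h₁⟩ := homology_local_cycles S V s
  choose cc hcc using h₁
  have h₂ : ∀ ⦃W : C⦄ (f : W ⟶ V) (hf : T₁.arrows f),
      ((S'.homologyπ).hom.app (op W)).hom
        (((ShortComplex.cyclesMap Φ).hom.app (op W)).hom (cc f hf)) = 0 := by
    intro W f hf
    rw [← RlimInjB.comp_apply' J, ← ShortComplex.homologyπ_naturality, RlimInjB.comp_apply' J, hcc f hf]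
    rw [RlimInjB.res_comm J]
    have : ((ShortComplex.homologyMap Φ).hom.app (op V)).hom s = 0 := hs
    rw [this, map_zero]
  have h₃ := fun ⦃W : C⦄ (f : W ⟶ V) (hf : T₁.arrows f) =>
    cycles_local_boundary S' W _ (h₂ f hf)
  choose T₂ hT₂ h₃' using h₃
  refine ⟨Sieve.bind T₁.arrows T₂, J.bind_covering hT₁ (fun _ f hf => hT₂ f hf), ?_⟩
  rintro Y _ ⟨W, g, f, hf, hg, rfl⟩ hY
  obtain ⟨b, hb⟩ := h₃' f hf g hg
  let cY : S.cycles.obj.obj (op Y) := (S.cycles.obj.map g.op).hom (cc f hf)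
  let x : ((T IL m).g.app (op Y)).hom.ker :=
    ⟨(S.iCycles.hom.app (op Y)).hom cY, iCycles_g_apply S Y cY⟩
  have hx : ∃ b, ((T IN m).f.app (op Y)).hom b = (mapKer φ m (op Y) x).1 := by
    refine ⟨b, ?_⟩
    refine hb.trans ?_
    have e1 := RlimInjB.res_comm J S'.iCycles g
      (((ShortComplex.cyclesMap Φ).hom.app (op W)).hom (cc f hf))
    have e2 := RlimInjB.res_comm J (ShortComplex.cyclesMap Φ) g (cc f hf)
    have e3 : ((ShortComplex.cyclesMap Φ ≫ S'.iCycles).hom.app (op Y)).hom cY =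
        ((S.iCycles ≫ Φ.τ₂).hom.app (op Y)).hom cY := by rw [ShortComplex.cyclesMap_i]
    refine e1.symm.trans ?_
    rw [← e2]
    exact e3
  obtain ⟨y, hy⟩ := boundary_of_map_boundary K t L a hL m N IL IN eL eN φ hφ Y hY x hx
  have h4 : (S.homologyπ.hom.app (op Y)).hom cY = 0 :=
    homologyπ_eq_zero_of_boundary S Y cY y hy
  have h5 : (S.homology.obj.map (g ≫ f).op).hom s =
      (S.homology.obj.map g.op).hom ((S.homology.obj.map f.op).hom s) := by
    rw [op_comp, Functor.map_comp]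
    rfl
  change (S.homology.obj.map (g ≫ f).op).hom s = 0
  rw [h5, ← hcc f hf, ← RlimInjB.res_comm J]
  exact h4

end chain

/-- **Local injectivity**: a section of `H^m(L)` over `V` dying in `H^m(K_N)` vanishes on every member of a
suitable covering sieve which satisfies the Milnor-type hypotheses. -/
theorem core (K : ℕ → DerivedCategory (Sheaf J AddCommGrpCat.{u})) (t : ∀ n, K (n + 1) ⟶ K n)
    [HasProduct K] (L : DerivedCategory (Sheaf J AddCommGrpCat.{u})) (a : ∀ n, L ⟶ K n)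
    (hL : CohCx.IsRlimVia K t L a) (V : C) (m : ℤ) (N : ℕ)
    (s : (CohCx.HD L m).obj.obj (op V))
    (hs : (((DerivedCategory.homologyFunctor _ m).map (a N)).hom.app (op V)).hom s = 0) :
    ∃ T : Sieve V, T ∈ J V ∧ ∀ ⦃Y : C⦄ (f : Y ⟶ V), T.arrows f → Hyp K t m N Y →
      ((CohCx.HD L m).obj.map f.op).hom s = 0 := by
  obtain ⟨IL, fL, hIL, hfL, -, -⟩ := H33.KInj.exists_kInjective_resolution (Q.objPreimage L)
  obtain ⟨IN, fN, hIN, hfN, -, -⟩ := H33.KInj.exists_kInjective_resolution (Q.objPreimage (K N))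
  have : IsIso (Q.map fL) :=
    (DerivedCategory.isIso_Q_map_iff_quasiIso (C := Sheaf J AddCommGrpCat.{u}) fL).2 hfL
  have : IsIso (Q.map fN) :=
    (DerivedCategory.isIso_Q_map_iff_quasiIso (C := Sheaf J AddCommGrpCat.{u}) fN).2 hfN
  let eL : L ≅ Q.obj IL := (Q.objObjPreimageIso L).symm ≪≫ asIso (Q.map fL)
  let eN : K N ≅ Q.obj IN := (Q.objObjPreimageIso (K N)).symm ≪≫ asIso (Q.map fN)
  obtain ⟨φ, hφ⟩ := exists_Q_map_eq IL IN (eL.inv ≫ a N ≫ eN.hom)
  let H := DerivedCategory.homologyFunctor (Sheaf J AddCommGrpCat.{u}) m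
  let αL : CohCx.HD L m ≅ (IL.sc m).homology :=
    H.mapIso eL ≪≫ (DerivedCategory.homologyFunctorFactors (Sheaf J AddCommGrpCat.{u}) m).app IL
  let αN : CohCx.HD (K N) m ≅ (IN.sc m).homology :=
    H.mapIso eN ≪≫ (DerivedCategory.homologyFunctorFactors (Sheaf J AddCommGrpCat.{u}) m).app IN
  have hnat : H.map (a N) ≫ αN.hom = αL.hom ≫
      ShortComplex.homologyMap ((HomologicalComplex.shortComplexFunctor _ _ m).map φ) := by
    have h1 : a N ≫ eN.hom = eL.hom ≫ Q.map φ := by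
      rw [hφ, Iso.hom_inv_id_assoc]
    have h2 := (DerivedCategory.homologyFunctorFactors (Sheaf J AddCommGrpCat.{u}) m).hom.naturality φ
    change H.map (a N) ≫ H.map eN.hom ≫ _ = (H.map eL.hom ≫ _) ≫ _
    rw [← Category.assoc, ← Functor.map_comp, h1, Functor.map_comp, Category.assoc, Category.assoc]
    congr 1
  let s' : (IL.sc m).homology.obj.obj (op V) := (αL.hom.hom.app (op V)).hom s
  have hs' : ((ShortComplex.homologyMap ((HomologicalComplex.shortComplexFunctor _ _ m).map φ)).hom.app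
      (op V)).hom s' = 0 := by
    change ((ShortComplex.homologyMap ((HomologicalComplex.shortComplexFunctor _ _ m).map φ)).hom.app
      (op V)).hom ((αL.hom.hom.app (op V)).hom s) = 0
    rw [← RlimInjB.comp_apply' J, ← hnat, RlimInjB.comp_apply' J]
    have : ((H.map (a N)).hom.app (op V)).hom s = 0 := hs
    rw [this, map_zero]
  obtain ⟨T, hT, h⟩ := core_chain K t L a hL m N IL IN eL eN φ hφ V s' hs'
  refine ⟨T, hT, fun Y f hf hY => ?_⟩
  have h1 := h f hf hY
  apply (RlimInjB.bijective_of_isIso J αL.hom Y).1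
  rw [RlimInjB.res_comm J, map_zero]
  exact h1

end Groth.Agent.H16.RlimInjD
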