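import Groth.Agent.H16.RlimTruncA
import Groth.Agent.H16.RlimInjD

/-!
# Milnor-type hypotheses for the tower of truncations from vanishing of cohomology (helper16)
-/

set_option autoImplicit false
universe v' u' u
open CategoryTheory CategoryTheory.Limits Pretriangulated Opposite

namespace Groth.Agent.H16.RlimTruncB

section limOne

lemma limOne_of_surj (A : ℕ → Type u) [∀ n, AddCommGroup (A n)] (t : ∀ n, A (n + 1) →+ A n)
    (h : ∀ n, Function.Surjective (t n)) : CohCx.LimOneIsZero A t := by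
  intro b
  let a : ∀ n, A n := fun n => Nat.rec (motive := fun n => A n) 0
    (fun n an => - Classical.choose (h n (b n - an))) n
  refine ⟨a, ?_⟩
  funext n
  have h1 : a (n + 1) = - Classical.choose (h n (b n - a n)) := rfl
  have h2 := Classical.choose_spec (h n (b n - a n))
  change a n - t n (a (n + 1)) = b n
  rw [h1, map_neg, h2]
  abel

lemma limOne_shift (A : ℕ → Type u) [∀ n, AddCommGroup (A n)] (t : ∀ n, A (n + 1) →+ A n)
    (h : CohCx.LimOneIsZero (fun n => A (n + 1)) (fun n => t (n + 1))) : CohCx.LimOneIsZero A t := by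
  intro b
  obtain ⟨a', ha'⟩ := h (fun n => b (n + 1))
  let a : ∀ n, A n := fun n => Nat.casesOn (motive := fun n => A n) n (b 0 + t 0 (a' 0)) (fun n => a' n)
  refine ⟨a, ?_⟩
  funext n
  cases n with
  | zero =>
    change (b 0 + t 0 (a' 0)) - t 0 (a' 0) = b 0
    abel
  | succ n => exact congrFun ha' n

lemma limOne_of_eventually_surj (N : ℕ) : ∀ (A : ℕ → Type u) [∀ n, AddCommGroup (A n)]
    (t : ∀ n, A (n + 1) →+ A n), (∀ n, N ≤ n → Function.Surjective (t n)) →
    CohCx.LimOneIsZero A t := by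
  induction N with
  | zero => intro A _ t h; exact limOne_of_surj A t (fun n => h n (Nat.zero_le n))
  | succ N ih =>
    intro A _ t h
    apply limOne_shift
    exact ih (fun n => A (n + 1)) (fun n => t (n + 1)) (fun n hn => h (n + 1) (Nat.succ_le_succ hn))

end limOne

section tri

variable {T : Type u'} [Category.{v'} T] [Preadditive T] [HasZeroObject T] [HasShift T ℤ]
  [∀ n : ℤ, (shiftFunctor T n).Additive] [Pretriangulated T]

lemma comp_injective_of_subsingleton (Tr : Triangle T) (hT : Tr ∈ distTriang T) (Z : T) (m : ℤ)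
    (h : Subsingleton (Z ⟶ Tr.obj₁⟦m⟧)) :
    Function.Injective (fun x : Z ⟶ Tr.obj₂⟦m⟧ => x ≫ Tr.mor₂⟦m⟧') := by
  have key : ∀ x : Z ⟶ Tr.obj₂⟦m⟧, x ≫ Tr.mor₂⟦m⟧' = 0 → x = 0 := by
    intro x hx
    have hex := (preadditiveCoyoneda.obj (op Z)).homologySequence_exact₂ _ hT m
    rw [ShortComplex.ab_exact_iff] at hex
    obtain ⟨y, hy⟩ := hex x hx
    let y' : Z ⟶ Tr.obj₁⟦m⟧ := y
    have hy' : y' ≫ Tr.mor₁⟦m⟧' = x := hy
    have hy0 : y' = 0 := Subsingleton.elim _ _
    rw [← hy', hy0, zero_comp]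
  intro x y hxy
  have h1 : (x - y) ≫ Tr.mor₂⟦m⟧' = 0 := by
    rw [Preadditive.sub_comp]
    exact sub_eq_zero.2 hxy
  exact sub_eq_zero.1 (key _ h1)

lemma comp_surjective_of_subsingleton (Tr : Triangle T) (hT : Tr ∈ distTriang T) (Z : T)
    (m₀ m₁ : ℤ) (hm : m₀ + 1 = m₁) (h : Subsingleton (Z ⟶ Tr.obj₁⟦m₁⟧)) :
    Function.Surjective (fun x : Z ⟶ Tr.obj₂⟦m₀⟧ => x ≫ Tr.mor₂⟦m₀⟧') := by
  intro x
  have hex := (preadditiveCoyoneda.obj (op Z)).homologySequence_exact₃ _ hT m₀ m₁ hm
  rw [ShortComplex.ab_exact_iff] at hex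
  obtain ⟨y, hy⟩ := hex x (@Subsingleton.elim _ h _ _)
  exact ⟨y, hy⟩

end tri

section site

open DerivedCategory

variable {C : Type u} [SmallCategory C] {J : GrothendieckTopology C}
  [HasDerivedCategory.{u} (Sheaf J AddCommGrpCat.{u})]

/-- `H^m(Y, G[-a]) = H^{m-a}(Y, G)`: vanishing of the latter gives vanishing of the former. -/
lemma subsingleton_HDU_of_HU (Y : C) (G : Sheaf J AddCommGrpCat.{u})
    (F : DerivedCategory (Sheaf J AddCommGrpCat.{u})) (a m : ℤ) (k : ℕ) (hk : m - a = k)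
    (e : F ≅ (singleFunctor _ a).obj G) (h : Subsingleton (CohSite.HU G k Y)) :
    Subsingleton (CohCx.HDU F m Y) := by
  let i1 := (shiftFunctor (DerivedCategory (Sheaf J AddCommGrpCat.{u})) m).mapIso e
  let i2 := ((singleFunctors (Sheaf J AddCommGrpCat.{u})).shiftIso m (-(k : ℤ)) a (by omega)).app G
  let i3 := ((singleFunctors (Sheaf J AddCommGrpCat.{u})).shiftIso (k : ℤ) (-(k : ℤ)) 0
    (by omega)).app G
  let i : F⟦m⟧ ≅ ((singleFunctor (Sheaf J AddCommGrpCat.{u}) 0).obj G)⟦(k : ℤ)⟧ :=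
    i1 ≪≫ i2 ≪≫ i3.symm
  have h' : Subsingleton (Abelian.Ext (CohCx.freeSheaf J Y) G k) := h
  have h2 : Subsingleton (ShiftedHom ((singleFunctor (Sheaf J AddCommGrpCat.{u}) 0).obj
      (CohCx.freeSheaf J Y)) ((singleFunctor (Sheaf J AddCommGrpCat.{u}) 0).obj G) (k : ℤ)) :=
    (Abelian.Ext.homEquiv (X := CohCx.freeSheaf J Y) (Y := G) (n := k)).symm.subsingleton
  constructor
  intro x y
  have h3 : x ≫ i.hom = y ≫ i.hom := @Subsingleton.elim _ h2 _ _
  exact (cancel_mono i.hom).1 h3

/-- Injectivity and surjectivity of the transition maps of `H^*(Y, τ_{≥ -n} E)` for large `n`. -/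
lemma transition_inj_surj (E : DerivedCategory (Sheaf J AddCommGrpCat.{u})) (Y : C) (m : ℤ) (pm : ℤ)
    (hvan : ∀ k : ℕ, pm < k → Subsingleton (CohSite.HU (CohCx.HD E (m - k)) k Y))
    (n : ℕ) (hn1 : -m ≤ n) (hn2 : pm - m ≤ n) :
    Function.Injective (fun x : CohCx.HDU (CohCx.truncTower E (n + 1)) m Y =>
        x ≫ (CohCx.truncTowerMap E n)⟦m⟧') ∧
      Function.Surjective (fun x : CohCx.HDU (CohCx.truncTower E (n + 1)) (m - 1) Y =>
        x ≫ (CohCx.truncTowerMap E n)⟦m - 1⟧') := by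
  obtain ⟨F, f, δ, hT, ⟨e⟩⟩ := RlimTruncA.exists_triangle E (-((n + 1 : ℕ) : ℤ)) (-(n : ℤ))
    (by push_cast; ring)
  have hk : ((m + n + 1).toNat : ℤ) = m + n + 1 := Int.toNat_of_nonneg (by omega)
  have hsub : Subsingleton (CohCx.HDU F m Y) := by
    refine subsingleton_HDU_of_HU Y (CohCx.HD E (-((n + 1 : ℕ) : ℤ))) F (-((n + 1 : ℕ) : ℤ)) m
      (m + n + 1).toNat (by push_cast; omega) e ?_
    have h1 := hvan (m + n + 1).toNat (by omega)
    have h2 : m - ((m + n + 1).toNat : ℤ) = -((n + 1 : ℕ) : ℤ) := by push_cast; omega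
    rwa [h2] at h1
  exact ⟨comp_injective_of_subsingleton _ hT _ m hsub,
    comp_surjective_of_subsingleton _ hT _ (m - 1) m (by omega) hsub⟩

/-- The Milnor-type hypotheses hold for the tower of truncations on an object with vanishing cohomology. -/
theorem hyp_of_vanishing (E : DerivedCategory (Sheaf J AddCommGrpCat.{u})) (Y : C) (m : ℤ) (pm : ℤ)
    (hvan : ∀ k : ℕ, pm < k → Subsingleton (CohSite.HU (CohCx.HD E (m - k)) k Y))
    (N : ℕ) (hN1 : -m ≤ N) (hN2 : pm - m ≤ N) :
    RlimInjD.Hyp (CohCx.truncTower E) (CohCx.truncTowerMap E) m N Y := by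
  have main := fun (n : ℕ) (hn : N ≤ n) =>
    transition_inj_surj E Y m pm hvan n (by omega) (by omega)
  refine ⟨?_, ?_⟩
  · exact limOne_of_eventually_surj N _ _ (fun n hn => (main n hn).2)
  · intro k
    induction k with
    | zero =>
      intro x y hxy
      have h1 : ∀ z : CohCx.HDU (CohCx.truncTower E (N + 0)) m Y,
          (Preadditive.rightComp _ ((shiftFunctor _ m).map
            (CohCx.transition (CohCx.truncTower E) (CohCx.truncTowerMap E) N 0))) z = z := by
        intro z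
        change z ≫ (shiftFunctor _ m).map (𝟙 _) = z
        rw [CategoryTheory.Functor.map_id]
        exact Category.comp_id z
      rw [h1, h1] at hxy
      exact hxy
    | succ k ih =>
      intro x y hxy
      have h1 : ∀ z : CohCx.HDU (CohCx.truncTower E (N + (k + 1))) m Y,
          (Preadditive.rightComp _ ((shiftFunctor _ m).map
            (CohCx.transition (CohCx.truncTower E) (CohCx.truncTowerMap E) N (k + 1)))) z =
          (Preadditive.rightComp _ ((shiftFunctor _ m).map
            (CohCx.transition (CohCx.truncTower E) (CohCx.truncTowerMap E) N k)))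
            (z ≫ (CohCx.truncTowerMap E (N + k))⟦m⟧') := by
        intro z
        change z ≫ (shiftFunctor _ m).map (CohCx.truncTowerMap E (N + k) ≫
          CohCx.transition (CohCx.truncTower E) (CohCx.truncTowerMap E) N k) = _
        rw [CategoryTheory.Functor.map_comp, ← Category.assoc]
        rfl
      rw [h1, h1] at hxy
      exact (main (N + k) (Nat.le_add_right N k)).1 (ih hxy)

end site

end Groth.Agent.H16.RlimTruncB
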