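import Groth.Agent.H16.HyperAcyclicB
import Groth.Agent.S0881
import Groth.Prelude.Def_FreeSh
import Mathlib.Algebra.Homology.DerivedCategory.FullyFaithful

/-!
# Hypercohomology on objects whose cohomology with values in the cohomology sheaves vanishes (helper16), part C
-/

set_option autoImplicit false
universe u
open CategoryTheory CategoryTheory.Limits Pretriangulated Opposite DerivedCategory

namespace Groth.Agent.H16.HyperAcyclicC

open Groth.Agent.H16.HyperAcyclicA Groth.Agent.H16.HyperAcyclicB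

variable {C : Type u} [SmallCategory C] {J : GrothendieckTopology C}
  [HasDerivedCategory.{u} (Sheaf J AddCommGrpCat.{u})]

/-- postcomposition with an isomorphism, as an additive equivalence. -/
def postcompAddEquiv {T : Type*} [Category T] [Preadditive T] (Z : T) {X Y : T} (i : X ≅ Y) :
    (Z ⟶ X) ≃+ (Z ⟶ Y) where
  toFun x := x ≫ i.hom
  invFun y := y ≫ i.inv
  left_inv x := by simp
  right_inv y := by simp
  map_add' x y := Preadditive.add_comp _ _ _ _ _ _

/-- `H^q(U, τ_{≥q} K) = H^q(K)(U)`. -/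
theorem nonempty_addEquiv_truncGE_self (K : DerivedCategory (Sheaf J AddCommGrpCat.{u})) (U : C)
    (q : ℤ) :
    Nonempty (CohCx.HDU ((TStructure.t.truncGE q).obj K) q U ≃+
      (CohCx.HD K q).obj.obj (op U)) := by
  obtain ⟨F, f, δ, hT, ⟨e⟩⟩ := RlimTruncA.exists_triangle K q (q + 1) rfl
  let M := (TStructure.t.truncGE (q + 1)).obj K
  have hM : TStructure.t.IsGE (M⟦(-1 : ℤ)⟧) (q + 2) :=
    TStructure.t.isGE_shift M (q + 1) (-1) (q + 2) (by omega)
  let Tr := Triangle.mk f ((TStructure.t.natTransTruncGEOfLE q (q + 1) (by omega)).app K) δ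
  have hT' : Tr.invRotate ∈ distTriang _ := inv_rot_of_distTriang _ hT
  have hsub1 : Subsingleton (CohCx.HDU (M⟦(-1 : ℤ)⟧) q U) :=
    @subsingleton_HDU_of_isGE _ _ _ _ (M⟦(-1 : ℤ)⟧) (q + 2) q (by omega) hM U
  have hsub2 : Subsingleton (CohCx.HDU (M⟦(-1 : ℤ)⟧) (q + 1) U) :=
    @subsingleton_HDU_of_isGE _ _ _ _ (M⟦(-1 : ℤ)⟧) (q + 2) (q + 1) (by omega) hM U
  have hb : Function.Bijective (fun x : CohCx.HDU F q U => x ≫ f⟦q⟧') :=
    ⟨RlimTruncB.comp_injective_of_subsingleton _ hT' _ q hsub1,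
      RlimTruncB.comp_surjective_of_subsingleton _ hT' _ q (q + 1) rfl hsub2⟩
  let e1 : CohCx.HDU F q U ≃+ CohCx.HDU ((TStructure.t.truncGE q).obj K) q U :=
    AddEquiv.ofBijective (Preadditive.rightComp _ (f⟦q⟧')) hb
  let G := CohCx.HD K q
  let i : F⟦q⟧ ≅ (singleFunctor (Sheaf J AddCommGrpCat.{u}) 0).obj G :=
    (shiftFunctor (DerivedCategory (Sheaf J AddCommGrpCat.{u})) q).mapIso e ≪≫
      ((singleFunctors (Sheaf J AddCommGrpCat.{u})).shiftIso q 0 q (by omega)).app G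
  let e2 : CohCx.HDU F q U ≃+
      ((singleFunctor (Sheaf J AddCommGrpCat.{u}) 0).obj (CohCx.freeSheaf J U) ⟶
        (singleFunctor (Sheaf J AddCommGrpCat.{u}) 0).obj G) := postcompAddEquiv _ i
  let e3 : (CohCx.freeSheaf J U ⟶ G) ≃+
      ((singleFunctor (Sheaf J AddCommGrpCat.{u}) 0).obj (CohCx.freeSheaf J U) ⟶
        (singleFunctor (Sheaf J AddCommGrpCat.{u}) 0).obj G) :=
    AddEquiv.ofBijective (singleFunctor (Sheaf J AddCommGrpCat.{u}) 0).mapAddHom
      ⟨(singleFunctor (Sheaf J AddCommGrpCat.{u}) 0).map_injective,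
        (singleFunctor (Sheaf J AddCommGrpCat.{u}) 0).map_surjective⟩
  exact ⟨e1.symm.trans (e2.trans (e3.symm.trans (CohFree.homEquivSect J U G)))⟩

/-- **Main theorem**: if every object is covered by members of `B` and `H^p(U, H^q(K)) = 0` for `p > 0`, all `q` and
`U ∈ B`, then `H^q(U, K) = H^q(K)(U)` for `U ∈ B`. -/
theorem main (K : DerivedCategory (Sheaf J AddCommGrpCat.{u})) (B : Set C)
    (hB : ∀ U : C, ∃ (ι : Type u) (Y : ι → C) (f : ∀ i, Y i ⟶ U), Sieve.ofArrows Y f ∈ J U ∧ ∀ i, Y i ∈ B)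
    (h : ∀ U ∈ B, ∀ (p : ℕ) (q : ℤ), Subsingleton (CohSite.HU (CohCx.HD K q) (p + 1) U))
    (U : C) (hU : U ∈ B) (q : ℤ) :
    Nonempty (CohCx.HDU K q U ≃+ (CohCx.HD K q).obj.obj (op U)) := by
  haveI : HasProduct (CohCx.truncTower K) := hasProduct_nat _
  have hR : CohCx.IsRlimVia (CohCx.truncTower K) (CohCx.truncTowerMap K) K (CohCx.toTruncTower K) := by
    refine Groth.Agent.S0881.result K B hB ?_
    intro V _
    refine ⟨fun _ => 0, fun T hT => ?_⟩
    choose ιB YB fB hcovB hYB using hB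
    let ι : Type u := Σ (W : C), Σ (_ : {g : W ⟶ V // T.arrows g}), ιB W
    let Y : ι → C := fun i => YB i.1 i.2.2
    let f : ∀ i : ι, Y i ⟶ V := fun i => fB i.1 i.2.2 ≫ i.2.1.1
    refine ⟨ι, Y, f, fun i => T.downward_closed i.2.1.2 _, ?_, ?_⟩
    · have h1 : Sieve.bind T.arrows (fun W _ _ => Sieve.ofArrows (YB W) (fB W)) ∈ J V :=
        J.bind_covering hT (fun W _ _ => hcovB W)
      refine J.superset_covering ?_ h1
      rintro Z _ ⟨W, g', g, hg, hg', rfl⟩
      obtain ⟨j, a, rfl⟩ := (Sieve.mem_ofArrows_iff _ _ _).1 hg'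
      exact (Sieve.mem_ofArrows_iff Y f _).2 ⟨⟨W, ⟨g, hg⟩, j⟩, a, Category.assoc _ _ _⟩
    · intro i m k hk
      obtain ⟨p', rfl⟩ : ∃ p', k = p' + 1 := ⟨k - 1, by
        have : (0 : ℤ) < (k : ℤ) := hk
        omega⟩
      exact h (Y i) (hYB i.1 i.2.2) p' _
  let N := (-q).toNat
  have hb := bijective_toTruncTower K U (h U hU) hR q N (by omega)
  let e1 : CohCx.HDU K q U ≃+ CohCx.HDU (CohCx.truncTower K N) q U :=
    AddEquiv.ofBijective (Preadditive.rightComp _ ((CohCx.toTruncTower K N)⟦q⟧')) hb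
  obtain ⟨e2⟩ := nonempty_addEquiv_truncGE K U (h U hU) q (q + N).toNat (-(N : ℤ)) (by omega)
  obtain ⟨e3⟩ := nonempty_addEquiv_truncGE_self K U q
  exact ⟨e1.trans (e2.trans e3)⟩

end Groth.Agent.H16.HyperAcyclicC
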