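import Mathlib.Algebra.Homology.ShortComplex.HomologicalComplex
import Mathlib.Algebra.Homology.ShortComplex.ShortExact
import Mathlib.Algebra.Homology.ShortComplex.ExactFunctor
import Mathlib.Algebra.Homology.ShortComplex.Abelian
import Mathlib.CategoryTheory.Abelian.Refinements

set_option autoImplicit false
open CategoryTheory CategoryTheory.Limits
universe v u

namespace Groth.Agent.H16.ResCx

variable {C : Type u} [Category.{v} C] [Abelian C]

/-- data of an infinite resolution spliced from short exact sequences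
`0 ⟶ B (i+1) ⟶ X i ⟶ B i ⟶ 0` -/
structure ResData (A : C) where
  B : ℕ → C
  X : ℕ → C
  f : ∀ i, B (i + 1) ⟶ X i
  g : ∀ i, X i ⟶ B i
  zero : ∀ i, f i ≫ g i = 0
  se : ∀ i, (ShortComplex.mk (f i) (g i) (zero i)).ShortExact
  e : B 0 ≅ A

namespace ResData

variable {A : C} (R : ResData A)

instance (i : ℕ) : Mono (R.f i) := (R.se i).mono_f
instance (i : ℕ) : Epi (R.g i) := (R.se i).epi_g

/-- the chain complex -/
noncomputable abbrev cx : ChainComplex C ℕ :=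
  ChainComplex.of R.X (fun i => R.g (i + 1) ≫ R.f i) (by
    intro i
    rw [Category.assoc, ← Category.assoc (R.f (i + 1)), R.zero, zero_comp, comp_zero])

theorem cx_d (i : ℕ) : R.cx.d (i + 1) i = R.g (i + 1) ≫ R.f i := by
  dsimp only [cx]
  exact ChainComplex.of_d _ _ _

theorem comp_cx_d (i : ℕ) {W : C} (x : W ⟶ R.X (i + 1)) :
    (x ≫ R.cx.d (i + 1) i : W ⟶ R.X i) = (x ≫ R.g (i + 1)) ≫ R.f i := by
  rw [cx_d]
  exact (Category.assoc _ _ _).symm

theorem cx_d_comp (i : ℕ) {Z : C} (k : R.X i ⟶ Z) :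
    (R.cx.d (i + 1) i ≫ k : R.X (i + 1) ⟶ Z) = R.g (i + 1) ≫ R.f i ≫ k := by
  rw [cx_d]
  exact Category.assoc _ _ _

theorem lift_f (i : ℕ) {W : C} (x : W ⟶ R.X i) (hx : x ≫ R.g i = 0) :
    ∃ b : W ⟶ R.B (i + 1), b ≫ R.f i = x :=
  ⟨(R.se i).exact.lift x hx, (R.se i).exact.lift_f x hx⟩

theorem exact_aux (i : ℕ) {W : C} (x : W ⟶ R.X (i + 1)) (hx : x ≫ R.cx.d (i + 1) i = 0) :
    ∃ (W' : C) (π : W' ⟶ W) (_ : Epi π) (y : W' ⟶ R.X (i + 2)),
      π ≫ x = y ≫ R.cx.d (i + 2) (i + 1) := by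
  rw [comp_cx_d] at hx
  have hx' : x ≫ R.g (i + 1) = 0 := by
    rw [← cancel_mono (R.f i), hx, zero_comp]
  obtain ⟨b, hb⟩ := R.lift_f (i + 1) x hx'
  obtain ⟨W', π, hπ, y, hy⟩ := surjective_up_to_refinements_of_epi (R.g (i + 2)) b
  refine ⟨W', π, hπ, y, ?_⟩
  rw [comp_cx_d, ← hy, Category.assoc, hb]

theorem exactAt_succ (i : ℕ) : R.cx.ExactAt (i + 1) := by
  rw [HomologicalComplex.exactAt_iff' R.cx (i + 2) (i + 1) i (by simp) (by simp)]
  rw [ShortComplex.exact_iff_exact_up_to_refinements]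
  intro W x hx
  exact R.exact_aux i x hx

theorem cycles_iso (i : ℕ) : Nonempty (R.cx.cycles (i + 1) ≅ R.B (i + 2)) := by
  have h1 := R.cx.cyclesIsKernel (i + 1) i (by simp)
  have w : R.f (i + 1) ≫ R.cx.d (i + 1) i = 0 := by
    rw [comp_cx_d, R.zero, zero_comp]
  have h2 : IsLimit (KernelFork.ofι (R.f (i + 1)) w) := by
    have key : ∀ {W : C} (x : W ⟶ R.X (i + 1)), x ≫ R.cx.d (i + 1) i = 0 →
        ∃ b : W ⟶ R.B (i + 2), b ≫ R.f (i + 1) = x := by
      intro W x hx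
      rw [comp_cx_d] at hx
      have hx' : x ≫ R.g (i + 1) = 0 := by
        rw [← cancel_mono (R.f i), hx, zero_comp]
      exact R.lift_f (i + 1) x hx'
    exact KernelFork.IsLimit.ofι _ _ (fun x hx => (key x hx).choose)
      (fun x hx => (key x hx).choose_spec)
      (fun x hx m hm => by
        rw [← cancel_mono (R.f (i + 1)), hm, (key x hx).choose_spec])
  exact ⟨IsLimit.conePointUniqueUpToIso h1 h2⟩

theorem homology_zero_iso : Nonempty (R.cx.homology 0 ≅ A) := by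
  have e1 := R.cx.homologyIsoSc' 1 0 0 (by simp) (by simp)
  have hg : (R.cx.sc' 1 0 0).g = 0 := by
    change R.cx.d 0 0 = 0
    exact R.cx.shape _ _ (by simp)
  have w : (R.cx.sc' 1 0 0).f ≫ (R.g 0 ≫ R.e.hom) = 0 := by
    change (R.cx.d (0 + 1) 0 ≫ (R.g 0 ≫ R.e.hom) : R.X (0 + 1) ⟶ A) = 0
    rw [cx_d_comp, ← Category.assoc (R.f 0), R.zero, zero_comp, comp_zero]
  have hc : IsColimit (CokernelCofork.ofπ (R.g 0 ≫ R.e.hom) w) := by
    have key : ∀ {Z : C} (k : R.X 0 ⟶ Z), (R.cx.sc' 1 0 0).f ≫ k = 0 →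
        ∃ d : A ⟶ Z, (R.g 0 ≫ R.e.hom) ≫ d = k := by
      intro Z k hk
      have hk1 : (R.cx.d (0 + 1) 0 ≫ (k : R.X 0 ⟶ Z) : R.X (0 + 1) ⟶ Z) = 0 := hk
      rw [cx_d_comp] at hk1
      have hk' : R.f 0 ≫ (k : R.X 0 ⟶ Z) = 0 := by
        rw [← cancel_epi (R.g (0 + 1)), hk1, comp_zero]
      refine ⟨R.e.inv ≫ (R.se 0).exact.desc k hk', ?_⟩
      rw [Category.assoc, Iso.hom_inv_id_assoc]
      exact (R.se 0).exact.g_desc k hk'
    have hepi : Epi (R.g 0 ≫ R.e.hom) := epi_comp _ _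
    exact CokernelCofork.IsColimit.ofπ _ _ (fun k hk => (key k hk).choose)
      (fun k hk => (key k hk).choose_spec)
      (fun k hk m hm => by
        rw [← cancel_epi (R.g 0 ≫ R.e.hom), hm, (key k hk).choose_spec])
  let h := ShortComplex.HomologyData.ofIsColimitCokernelCofork (R.cx.sc' 1 0 0) hg _ hc
  exact ⟨e1 ≪≫ h.left.homologyIso⟩

end ResData

end Groth.Agent.H16.ResCx
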