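import Groth.Prelude.Def_KZero
import Groth.Agent.H16.ResCx
import Mathlib.CategoryTheory.Abelian.Basic
import Mathlib.CategoryTheory.Limits.Shapes.Pullback.HasPullback

set_option autoImplicit false
open CategoryTheory CategoryTheory.Limits
universe v u

namespace Groth.Agent.H16.K0Res

variable {C : Type u} [Category.{v} C] [Abelian C]

section Diagrams

/-- (D1) for `p : L ⟶ A` and an epimorphism `p' : L' ⟶ A`:
`0 ⟶ ker p' ⟶ L ×_A L' ⟶ L ⟶ 0` -/
theorem pullback_fst_shortExact {L L' A : C} (p : L ⟶ A) (p' : L' ⟶ A) [Epi p'] :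
    ∃ (i : kernel p' ⟶ pullback p p') (w : i ≫ pullback.fst p p' = 0),
      (ShortComplex.mk i (pullback.fst p p') w).ShortExact := by
  let i : kernel p' ⟶ pullback p p' := pullback.lift 0 (kernel.ι p') (by
    rw [zero_comp, kernel.condition])
  have hfst : i ≫ pullback.fst p p' = 0 := pullback.lift_fst _ _ _
  have hsnd : i ≫ pullback.snd p p' = kernel.ι p' := pullback.lift_snd _ _ _
  have hm : Mono i := mono_of_mono_fac hsnd
  have he : Epi (pullback.fst p p') := inferInstance
  refine ⟨i, hfst, ShortComplex.ShortExact.mk' ?_ hm he⟩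
  rw [ShortComplex.exact_iff_exact_up_to_refinements]
  intro W y hy
  have hy' : y ≫ pullback.fst p p' = 0 := hy
  have h1 : (y ≫ pullback.snd p p') ≫ p' = 0 := by
    rw [Category.assoc, ← pullback.condition, ← Category.assoc, hy', zero_comp]
  refine ⟨W, 𝟙 W, inferInstance, kernel.lift p' _ h1, ?_⟩
  change 𝟙 W ≫ y = kernel.lift p' _ h1 ≫ i
  rw [Category.id_comp]
  apply pullback.hom_ext
  · rw [Category.assoc, hfst, comp_zero, hy']
  · rw [Category.assoc, hsnd, kernel.lift_ι]

/-- (D1') for an epimorphism `p : L ⟶ A` and `p' : L' ⟶ A`: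
`0 ⟶ ker p ⟶ L ×_A L' ⟶ L' ⟶ 0` -/
theorem pullback_snd_shortExact {L L' A : C} (p : L ⟶ A) (p' : L' ⟶ A) [Epi p] :
    ∃ (i : kernel p ⟶ pullback p p') (w : i ≫ pullback.snd p p' = 0),
      (ShortComplex.mk i (pullback.snd p p') w).ShortExact := by
  let i : kernel p ⟶ pullback p p' := pullback.lift (kernel.ι p) 0 (by
    rw [zero_comp, kernel.condition])
  have hfst : i ≫ pullback.fst p p' = kernel.ι p := pullback.lift_fst _ _ _
  have hsnd : i ≫ pullback.snd p p' = 0 := pullback.lift_snd _ _ _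
  have hm : Mono i := mono_of_mono_fac hfst
  have he : Epi (pullback.snd p p') := inferInstance
  refine ⟨i, hsnd, ShortComplex.ShortExact.mk' ?_ hm he⟩
  rw [ShortComplex.exact_iff_exact_up_to_refinements]
  intro W y hy
  have hy' : y ≫ pullback.snd p p' = 0 := hy
  have h1 : (y ≫ pullback.fst p p') ≫ p = 0 := by
    rw [Category.assoc, pullback.condition, ← Category.assoc, hy', zero_comp]
  refine ⟨W, 𝟙 W, inferInstance, kernel.lift p _ h1, ?_⟩
  change 𝟙 W ≫ y = kernel.lift p _ h1 ≫ i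
  rw [Category.id_comp]
  apply pullback.hom_ext
  · rw [Category.assoc, hfst, kernel.lift_ι]
  · rw [Category.assoc, hsnd, comp_zero, hy']

/-- (D2') for a short exact `S` and an epimorphism `p : L ⟶ S.X₂`:
`0 ⟶ ker p ⟶ ker (p ≫ S.g) ⟶ S.X₁ ⟶ 0` -/
theorem comp_shortExact (S : ShortComplex C) (hS : S.ShortExact) {L : C} (p : L ⟶ S.X₂) [Epi p] :
    ∃ (i : kernel p ⟶ kernel (p ≫ S.g)) (q : kernel (p ≫ S.g) ⟶ S.X₁) (w : i ≫ q = 0),
      (ShortComplex.mk i q w).ShortExact := by
  have := hS.mono_f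
  have := hS.epi_g
  let i : kernel p ⟶ kernel (p ≫ S.g) := kernel.lift _ (kernel.ι p) (by
    rw [← Category.assoc, kernel.condition, zero_comp])
  have hi : i ≫ kernel.ι (p ≫ S.g) = kernel.ι p := kernel.lift_ι _ _ _
  have hz : (kernel.ι (p ≫ S.g) ≫ p) ≫ S.g = 0 := by
    rw [Category.assoc, kernel.condition]
  let q : kernel (p ≫ S.g) ⟶ S.X₁ := hS.exact.lift _ hz
  have hq : q ≫ S.f = kernel.ι (p ≫ S.g) ≫ p := hS.exact.lift_f _ hz
  have w : i ≫ q = 0 := by
    rw [← cancel_mono S.f, zero_comp, Category.assoc, hq, ← Category.assoc, hi, kernel.condition]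
  have hm : Mono i := mono_of_mono_fac hi
  have he : Epi q := by
    rw [epi_iff_surjective_up_to_refinements]
    intro W x
    obtain ⟨W', π, hπ, y, hy⟩ := surjective_up_to_refinements_of_epi p (x ≫ S.f)
    have hy0 : y ≫ p ≫ S.g = 0 := by
      rw [← Category.assoc, ← hy, Category.assoc, Category.assoc, S.zero, comp_zero, comp_zero]
    refine ⟨W', π, hπ, kernel.lift _ y hy0, ?_⟩
    rw [← cancel_mono S.f, Category.assoc, Category.assoc, hq, ← Category.assoc (kernel.lift _ y hy0),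
      kernel.lift_ι, hy]
  refine ⟨i, q, w, ShortComplex.ShortExact.mk' ?_ hm he⟩
  rw [ShortComplex.exact_iff_exact_up_to_refinements]
  intro W z hz'
  have hz'' : z ≫ q = 0 := hz'
  have h1 : (z ≫ kernel.ι (p ≫ S.g)) ≫ p = 0 := by
    rw [Category.assoc, ← hq, ← Category.assoc, hz'', zero_comp]
  refine ⟨W, 𝟙 W, inferInstance, kernel.lift p _ h1, ?_⟩
  change 𝟙 W ≫ z = kernel.lift p _ h1 ≫ i
  rw [Category.id_comp, ← cancel_mono (kernel.ι (p ≫ S.g)), Category.assoc, hi, kernel.lift_ι]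

/-- the kernel sequence of an epimorphism -/
theorem kernel_shortExact {L A : C} (p : L ⟶ A) [Epi p] :
    (ShortComplex.mk (kernel.ι p) p (kernel.condition p)).ShortExact :=
  ShortComplex.ShortExact.mk' (ShortComplex.exact_kernel p) inferInstance inferInstance

/-- in a short exact sequence, `X₁` is isomorphic to the kernel of `g` -/
theorem nonempty_iso_kernel (S : ShortComplex C) (hS : S.ShortExact) :
    Nonempty (S.X₁ ≅ kernel S.g) := by
  have h1 : IsLimit (KernelFork.ofι S.f S.zero) := hS.fIsKernel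
  have e := IsLimit.conePointUniqueUpToIso h1 (kernelIsKernel S.g)
  exact ⟨e⟩

end Diagrams

section K0

open KZero

variable (P : ObjectProperty C)

theorem clSub_eq {X : C} (h : P X) :
    clSub P X = QuotientAddGroup.mk (FreeAbelianGroup.of ⟨X, h⟩) := by
  unfold clSub
  rw [dif_pos h]

theorem clSub_ses (S : ShortComplex C) (hS : S.ShortExact) (h₁ : P S.X₁) (h₂ : P S.X₂)
    (h₃ : P S.X₃) : clSub P S.X₂ = clSub P S.X₁ + clSub P S.X₃ := by
  symm
  rw [clSub_eq P h₁, clSub_eq P h₂, clSub_eq P h₃, ← QuotientAddGroup.mk_add, QuotientAddGroup.eq]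
  apply AddSubgroup.subset_closure
  refine ⟨S, h₁, h₂, h₃, hS, ?_⟩
  abel

theorem clSub_isZero {Z : C} (hZ : IsZero Z) (h : P Z) : clSub P Z = 0 := by
  let S : ShortComplex C := ShortComplex.mk (0 : Z ⟶ Z) (0 : Z ⟶ Z) zero_comp
  have hS : S.ShortExact := by
    have hm : Mono S.f := ⟨fun _ _ _ => hZ.eq_of_tgt _ _⟩
    have he : Epi S.g := ⟨fun _ _ _ => hZ.eq_of_src _ _⟩
    exact ShortComplex.ShortExact.mk' (ShortComplex.exact_of_isZero_X₂ _ hZ) hm he
  have := clSub_ses P S hS h h h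
  change clSub P Z = clSub P Z + clSub P Z at this
  exact (add_eq_left.mp this.symm)

theorem clSub_iso {X Y Z : C} (e : X ≅ Y) (hZ : IsZero Z) (hPZ : P Z) (hX : P X) (hY : P Y) :
    clSub P X = clSub P Y := by
  let S : ShortComplex C := ShortComplex.mk (0 : Z ⟶ X) e.hom zero_comp
  have hS : S.ShortExact := by
    have hm : Mono S.f := ⟨fun _ _ _ => hZ.eq_of_tgt _ _⟩
    have he : Epi S.g := by change Epi e.hom; infer_instance
    refine ShortComplex.ShortExact.mk' ?_ hm he
    rw [ShortComplex.exact_iff_exact_up_to_refinements]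
    intro W x hx
    have hx' : x ≫ e.hom = 0 := hx
    have hx0 : x = 0 := by
      rw [← cancel_mono e.hom, hx', zero_comp]
    refine ⟨W, 𝟙 W, inferInstance, 0, ?_⟩
    rw [hx0, comp_zero, zero_comp]
  have := clSub_ses P S hS hPZ hX hY
  change clSub P X = clSub P Z + clSub P Y at this
  rw [this, clSub_isZero P hZ hPZ, zero_add]

end K0

end Groth.Agent.H16.K0Res
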