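import Groth.Prelude.Def_KZero
import Groth.Agent.H16.K0Res1
import Mathlib.Algebra.Homology.DerivedCategory.TStructure
import Mathlib.Algebra.Homology.DerivedCategory.SingleTriangle
import Mathlib.Algebra.Homology.DerivedCategory.HomologySequence
import Mathlib.Algebra.Homology.SingleHomology
import Mathlib.Tactic

/-!
# K₀ of a thick subcategory vs K₀ of the bounded derived category with cohomology in it (part A)

Generic lemmas on `KZero.clTr`, homology of single complexes in the derived category, and the
homomorphism `σ : K₀(P) → K₀(D^b_P(C))`.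
-/

set_option autoImplicit false
universe w v u
open CategoryTheory CategoryTheory.Limits CategoryTheory.Pretriangulated KZero ZeroObject
open Groth.Agent.H16.K0Res

namespace Groth.Agent.H16.K0Der

section Generic

variable {D : Type u} [Category.{v} D] [Preadditive D] [HasZeroObject D] [HasShift D ℤ]
  [∀ n : ℤ, (shiftFunctor D n).Additive] [Pretriangulated D] (Q : ObjectProperty D)

theorem clTr_eq {X : D} (h : Q X) :
    clTr Q X = QuotientAddGroup.mk (FreeAbelianGroup.of ⟨X, h⟩) := by
  unfold clTr
  rw [dif_pos h]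

theorem clTr_rel (T : Triangle D) (hT : T ∈ distTriang D) (h₁ : Q T.obj₁) (h₂ : Q T.obj₂)
    (h₃ : Q T.obj₃) : clTr Q T.obj₂ = clTr Q T.obj₁ + clTr Q T.obj₃ := by
  symm
  rw [clTr_eq Q h₁, clTr_eq Q h₂, clTr_eq Q h₃, ← QuotientAddGroup.mk_add, QuotientAddGroup.eq]
  apply AddSubgroup.subset_closure
  refine ⟨T, h₁, h₂, h₃, hT, ?_⟩
  abel

theorem clTr_zero (h0 : Q (0 : D)) : clTr Q (0 : D) = 0 := by
  have h := clTr_rel Q _ (contractible_distinguished (0 : D)) h0 h0 h0
  simpa using h

set_option backward.defeqAttrib.useBackward true in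
theorem clTr_iso (h0 : Q (0 : D)) {X Y : D} (e : X ≅ Y) (hX : Q X) (hY : Q Y) :
    clTr Q X = clTr Q Y := by
  have hd : Triangle.mk e.hom (0 : Y ⟶ 0) 0 ∈ distTriang D := by
    refine isomorphic_distinguished _ (contractible_distinguished X) _ ?_
    exact Triangle.isoMk _ _ (Iso.refl _) e.symm (Iso.refl _) (by simp) (by simp) (by simp)
  have h := clTr_rel Q _ hd hX hY h0
  simp only [Triangle.mk_obj₁, Triangle.mk_obj₂, Triangle.mk_obj₃, clTr_zero Q h0, add_zero] at h
  exact h.symm

theorem clTr_shift_one (h0 : Q (0 : D)) (Y : D) (hY : Q Y) (hY' : Q (Y⟦(1 : ℤ)⟧)) :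
    clTr Q (Y⟦(1 : ℤ)⟧) = - clTr Q Y := by
  have h := clTr_rel Q _ (contractible_distinguished₂ Y) hY h0 hY'
  simp only [Triangle.mk_obj₁, Triangle.mk_obj₂, Triangle.mk_obj₃, clTr_zero Q h0] at h
  exact (neg_eq_of_add_eq_zero_right h.symm).symm

end Generic


section Derived

open DerivedCategory

variable {C : Type u} [Category.{v} C] [Abelian C] [HasDerivedCategory.{w} C]
  (P : ObjectProperty C)

/-- bounded objects of the derived category with cohomology in `P` -/
def QP : ObjectProperty (DerivedCategory C) := fun K : DerivedCategory C =>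
  (∀ i : ℤ, P ((DerivedCategory.homologyFunctor C i).obj K)) ∧
    ∃ a b : ℤ, (DerivedCategory.TStructure.t (C := C)).IsGE K a ∧
      (DerivedCategory.TStructure.t (C := C)).IsLE K b

/-- `H^m (X[-m]) ≅ X` -/
noncomputable def singleHomologyIso (m : ℤ) (Y : C) :
    (homologyFunctor C m).obj ((singleFunctor C m).obj Y) ≅ Y :=
  (homologyFunctorFactors C m).app ((HomologicalComplex.single C (ComplexShape.up ℤ) m).obj Y) ≪≫
    HomologicalComplex.singleObjHomologySelfIso _ _ _

theorem isZero_homology_single (m i : ℤ) (h : i ≠ m) (Y : C) :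
    IsZero ((homologyFunctor C i).obj ((singleFunctor C m).obj Y)) :=
  (HomologicalComplex.isZero_single_obj_homology _ _ Y i h).of_iso
    ((homologyFunctorFactors C i).app
      ((HomologicalComplex.single C (ComplexShape.up ℤ) m).obj Y))

variable [P.IsClosedUnderIsomorphisms] [P.ContainsZero]

theorem QP_single (m : ℤ) (Y : C) (hY : P Y) : QP P ((singleFunctor C m).obj Y) := by
  refine ⟨fun i => ?_, m, m, inferInstance, inferInstance⟩
  by_cases h : i = m
  · subst h
    exact P.prop_of_iso (singleHomologyIso i Y).symm hY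
  · exact P.prop_of_isZero (isZero_homology_single m i h Y)

theorem QP_of_isZero (K : DerivedCategory C) (hK : IsZero K) : QP P K := by
  have hz : ∀ i : ℤ, IsZero ((homologyFunctor C i).obj K) := fun i =>
    (homologyFunctor C i).map_isZero hK
  refine ⟨fun i => P.prop_of_isZero (hz i), 0, 0, ?_, ?_⟩
  · exact (DerivedCategory.isGE_iff K 0).mpr (fun i _ => hz i)
  · exact (DerivedCategory.isLE_iff K 0).mpr (fun i _ => hz i)

theorem QP_zero : QP P (0 : DerivedCategory C) := QP_of_isZero P _ (isZero_zero _)

omit [P.ContainsZero] in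
theorem QP_of_iso {K L : DerivedCategory C} (e : K ≅ L) (hK : QP P K) : QP P L := by
  obtain ⟨h1, a, b, ha, hb⟩ := hK
  refine ⟨fun i => P.prop_of_iso ((homologyFunctor C i).mapIso e) (h1 i), a, b, ?_, ?_⟩
  · exact (DerivedCategory.TStructure.t (C := C)).isGE_of_iso e a
  · exact (DerivedCategory.TStructure.t (C := C)).isLE_of_iso e b

/-- the homomorphism `K₀(P) → K₀(D^b_P(C))`, `[X] ↦ [X[0]]` -/
noncomputable def sigma : K0sub P →+ K0tr (QP P) :=
  QuotientAddGroup.lift (relSub P)
    (FreeAbelianGroup.lift (fun X : Subtype P => clTr (QP P) ((singleFunctor C 0).obj X.1))) (by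
      unfold relSub
      rw [AddSubgroup.closure_le]
      rintro x ⟨S, h₁, h₂, h₃, hS, rfl⟩
      rw [SetLike.mem_coe, AddMonoidHom.mem_ker]
      simp only [map_sub, FreeAbelianGroup.lift_apply_of]
      have := clTr_rel (QP P) _ hS.singleTriangle_distinguished (QP_single P 0 _ h₁)
        (QP_single P 0 _ h₂) (QP_single P 0 _ h₃)
      simp only [ShortComplex.ShortExact.singleTriangle_obj₁,
        ShortComplex.ShortExact.singleTriangle_obj₂,
        ShortComplex.ShortExact.singleTriangle_obj₃] at this
      rw [this]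
      abel)

theorem sigma_clSub {X : C} (hX : P X) :
    sigma P (clSub P X) = clTr (QP P) ((singleFunctor C 0).obj X) := by
  rw [clSub_eq P hX]
  unfold sigma
  rw [QuotientAddGroup.lift_mk, FreeAbelianGroup.lift_apply_of]

end Derived

end Groth.Agent.H16.K0Der
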