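import Groth.Agent.H16.K0DerA
import Mathlib.Algebra.BigOperators.Finprod
import Mathlib.CategoryTheory.ObjectProperty.Kernels
import Mathlib.CategoryTheory.ObjectProperty.Extensions

/-!
# K₀(P) vs K₀(D^b_P(C)), part B: the Euler characteristic `χ : K₀(D^b_P(C)) → K₀(P)`
-/

set_option autoImplicit false
universe w v u
open CategoryTheory CategoryTheory.Limits CategoryTheory.Pretriangulated KZero ZeroObject
open Groth.Agent.H16.K0Res

namespace Groth.Agent.H16.K0Der

section Abelian

variable {C : Type u} [Category.{v} C] [Abelian C] (P : ObjectProperty C)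
  [P.IsClosedUnderIsomorphisms] [P.ContainsZero] [P.IsClosedUnderKernels]

/-- for an exact sequence `X₂ ⟶ X₃ ⟶ X₄`, `[X₂] = [ker g] + [ker h]` -/
theorem clSub_exact {X₂ X₃ X₄ : C} (g : X₂ ⟶ X₃) (h : X₃ ⟶ X₄) (w : g ≫ h = 0)
    (hex : (ShortComplex.mk g h w).Exact) (h₂ : P X₂) (h₃ : P X₃) (h₄ : P X₄) :
    clSub P X₂ = clSub P (kernel g) + clSub P (kernel h) := by
  let q : X₂ ⟶ kernel h := kernel.lift h g w
  have hq : Epi q := (ShortComplex.mk g h w).exact_iff_epi_kernel_lift.1 hex
  have w' : kernel.ι g ≫ q = 0 := by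
    rw [← cancel_mono (kernel.ι h), Category.assoc, kernel.lift_ι, kernel.condition, zero_comp]
  let S' : ShortComplex C := ShortComplex.mk (kernel.ι g) q w'
  let S'' : ShortComplex C := ShortComplex.mk (kernel.ι g) g (kernel.condition g)
  let φ : S' ⟶ S'' :=
    { τ₁ := 𝟙 _
      τ₂ := 𝟙 _
      τ₃ := kernel.ι h
      comm₁₂ := by simp [S', S'']
      comm₂₃ := by simp [S', S'', q] }
  have h1 : Epi φ.τ₁ := by change Epi (𝟙 _); infer_instance
  have h2 : IsIso φ.τ₂ := by change IsIso (𝟙 _); infer_instance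
  have h3 : Mono φ.τ₃ := by change Mono (kernel.ι h); infer_instance
  have hS'' : S''.Exact := ShortComplex.exact_kernel g
  have hS' : S'.Exact := (ShortComplex.exact_iff_of_epi_of_isIso_of_mono φ).2 hS''
  have hm : Mono S'.f := by change Mono (kernel.ι g); infer_instance
  have he : Epi S'.g := hq
  have hse : S'.ShortExact := ShortComplex.ShortExact.mk' hS' hm he
  exact clSub_ses P S' hse (P.prop_kernel g h₂ h₃) h₂ (P.prop_kernel h h₃ h₄)

omit [P.IsClosedUnderKernels] in
theorem clSub_kernel_of_isZero {X Y : C} (f : X ⟶ Y) (hX : IsZero X) :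
    clSub P (kernel f) = 0 := by
  have hz : IsZero (kernel f) := by
    rw [IsZero.iff_id_eq_zero, ← cancel_mono (kernel.ι f)]
    exact hX.eq_of_tgt _ _
  exact clSub_isZero P hz (P.prop_of_isZero hz)

end Abelian

/-- a function on `ℤ` vanishing outside `[a, b]` has finite support -/
theorem hasFiniteSupport_of_bounded {G : Type*} [AddCommGroup G] (f : ℤ → G) (a b : ℤ)
    (h : ∀ i : ℤ, (i < a ∨ b < i) → f i = 0) : Function.HasFiniteSupport f := by
  apply Set.Finite.subset (Set.finite_Icc a b)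
  intro i hi
  rw [Function.mem_support] at hi
  rw [Set.mem_Icc]
  by_contra hc
  apply hi
  apply h
  by_cases h1 : i < a
  · exact Or.inl h1
  · right
    by_contra h2
    exact hc ⟨not_lt.mp h1, not_lt.mp h2⟩

section Derived

open DerivedCategory

variable {C : Type u} [Category.{v} C] [Abelian C] [HasDerivedCategory.{w} C]
  (P : ObjectProperty C) [P.IsClosedUnderIsomorphisms] [P.ContainsZero]

/-- the `i`-th term of the Euler characteristic -/
noncomputable def eulTerm (K : DerivedCategory C) (i : ℤ) : K0sub P :=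
  ((i.negOnePow : ℤˣ) : ℤ) • clSub P ((homologyFunctor C i).obj K)

/-- Euler characteristic `Σ (-1)^i [H^i K]` -/
noncomputable def eul (K : DerivedCategory C) : K0sub P := ∑ᶠ i : ℤ, eulTerm P K i

theorem isZero_homology_of_bounds (K : DerivedCategory C) (a b : ℤ)
    (ha : (DerivedCategory.TStructure.t (C := C)).IsGE K a)
    (hb : (DerivedCategory.TStructure.t (C := C)).IsLE K b) (i : ℤ) (hi : i < a ∨ b < i) :
    IsZero ((homologyFunctor C i).obj K) := by
  rcases hi with hi | hi
  · exact (DerivedCategory.isGE_iff K a).mp ha i hi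
  · exact (DerivedCategory.isLE_iff K b).mp hb i hi

theorem eulTerm_hasFiniteSupport (K : DerivedCategory C) (hK : QP P K) :
    Function.HasFiniteSupport (eulTerm P K) := by
  obtain ⟨_, a, b, ha, hb⟩ := hK
  apply hasFiniteSupport_of_bounded _ a b
  intro i hi
  have hz := isZero_homology_of_bounds K a b ha hb i hi
  unfold eulTerm
  rw [clSub_isZero P hz (P.prop_of_isZero hz), smul_zero]


section Triangle

variable [P.IsClosedUnderKernels]
variable (T : Triangle (DerivedCategory C))

/-- class of the kernel of `H^n X → H^n Y` -/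
noncomputable def kerA (n : ℤ) : K0sub P :=
  clSub P (kernel ((homologyFunctor C n).map T.mor₁))

/-- class of the kernel of `H^n Y → H^n Z` -/
noncomputable def kerB (n : ℤ) : K0sub P :=
  clSub P (kernel ((homologyFunctor C n).map T.mor₂))

/-- class of the kernel of `H^n Z → H^{n+1} X` -/
noncomputable def kerC (n : ℤ) : K0sub P :=
  clSub P (kernel (HomologySequence.δ T n (n + 1) rfl))

variable (hT : T ∈ distTriang (DerivedCategory C)) (h₁ : QP P T.obj₁) (h₂ : QP P T.obj₂)
  (h₃ : QP P T.obj₃)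

include hT h₁ h₂ h₃

theorem cl_obj₁ (n : ℤ) :
    clSub P ((homologyFunctor C n).obj T.obj₁) = kerA P T n + kerB P T n :=
  clSub_exact P _ _ _ (HomologySequence.exact₂ T hT n) (h₁.1 n) (h₂.1 n) (h₃.1 n)

theorem cl_obj₂ (n : ℤ) :
    clSub P ((homologyFunctor C n).obj T.obj₂) = kerB P T n + kerC P T n :=
  clSub_exact P _ _ _ (HomologySequence.exact₃ T hT n (n + 1) rfl) (h₂.1 n) (h₃.1 n)
    (h₁.1 (n + 1))

theorem cl_obj₃ (n : ℤ) :
    clSub P ((homologyFunctor C n).obj T.obj₃) = kerC P T n + kerA P T (n + 1) :=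
  clSub_exact P _ _ _ (HomologySequence.exact₁ T hT n (n + 1) rfl) (h₃.1 n) (h₁.1 (n + 1))
    (h₂.1 (n + 1))

theorem eul_rel : eul P T.obj₂ = eul P T.obj₁ + eul P T.obj₃ := by
  let g : ℤ → K0sub P := fun n => ((n.negOnePow : ℤˣ) : ℤ) • kerA P T n
  obtain ⟨a, b, ha, hb⟩ := h₁.2
  have hg0 : ∀ i : ℤ, (i < a ∨ b < i) → g i = 0 := by
    intro i hi
    have hz := isZero_homology_of_bounds T.obj₁ a b ha hb i hi
    change ((i.negOnePow : ℤˣ) : ℤ) • kerA P T i = 0
    unfold kerA
    rw [clSub_kernel_of_isZero P _ hz, smul_zero]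
  have hg : Function.HasFiniteSupport g := hasFiniteSupport_of_bounded g a b hg0
  have hg' : Function.HasFiniteSupport (fun n => g (n + 1)) := by
    apply hasFiniteSupport_of_bounded _ (a - 1) (b - 1)
    intro i hi
    apply hg0
    rcases hi with hi | hi
    · left; lia
    · right; lia
  have key : ∀ n : ℤ, eulTerm P T.obj₁ n + eulTerm P T.obj₃ n =
      eulTerm P T.obj₂ n + (g n - g (n + 1)) := by
    intro n
    change _ = _ + (((n.negOnePow : ℤˣ) : ℤ) • kerA P T n -
      (((n + 1).negOnePow : ℤˣ) : ℤ) • kerA P T (n + 1))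
    unfold eulTerm
    rw [cl_obj₁ P T hT h₁ h₂ h₃ n, cl_obj₂ P T hT h₁ h₂ h₃ n, cl_obj₃ P T hT h₁ h₂ h₃ n,
      Int.negOnePow_succ, Units.val_neg, neg_smul]
    simp only [smul_add]
    abel
  have hX := eulTerm_hasFiniteSupport P T.obj₁ h₁
  have hY := eulTerm_hasFiniteSupport P T.obj₂ h₂
  have hZ := eulTerm_hasFiniteSupport P T.obj₃ h₃
  have e1 : eul P T.obj₁ + eul P T.obj₃ =
      ∑ᶠ n : ℤ, (eulTerm P T.obj₁ n + eulTerm P T.obj₃ n) := (finsum_add_distrib hX hZ).symm
  have e2 : (∑ᶠ n : ℤ, (eulTerm P T.obj₁ n + eulTerm P T.obj₃ n)) =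
      ∑ᶠ n : ℤ, (eulTerm P T.obj₂ n + (g n - g (n + 1))) := by
    congr 1
    funext n
    exact key n
  have e3 : (∑ᶠ n : ℤ, (eulTerm P T.obj₂ n + (g n - g (n + 1)))) =
      eul P T.obj₂ + ∑ᶠ n : ℤ, (g n - g (n + 1)) :=
    finsum_add_distrib hY (hg.sub hg')
  have e4 : (∑ᶠ n : ℤ, (g n - g (n + 1))) = (∑ᶠ n : ℤ, g n) - ∑ᶠ n : ℤ, g (n + 1) :=
    finsum_sub_distrib hg hg'
  have e5 : (∑ᶠ n : ℤ, g (n + 1)) = ∑ᶠ n : ℤ, g n :=
    finsum_comp_equiv (Equiv.addRight (1 : ℤ)) (f := g)
  rw [e1, e2, e3, e4, e5, sub_self, add_zero]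

end Triangle

/-- the Euler characteristic homomorphism `K₀(D^b_P(C)) → K₀(P)` -/
noncomputable def chi [P.IsClosedUnderKernels] : K0tr (QP P) →+ K0sub P :=
  QuotientAddGroup.lift (relTr (QP P))
    (FreeAbelianGroup.lift (fun K : Subtype (QP P) => eul P K.1)) (by
      unfold relTr
      rw [AddSubgroup.closure_le]
      rintro x ⟨T, h₁, h₂, h₃, hT, rfl⟩
      rw [SetLike.mem_coe, AddMonoidHom.mem_ker]
      simp only [map_sub, FreeAbelianGroup.lift_apply_of]
      rw [eul_rel P T hT h₁ h₂ h₃]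
      abel)

theorem chi_clTr [P.IsClosedUnderKernels] {K : DerivedCategory C} (hK : QP P K) :
    chi P (clTr (QP P) K) = eul P K := by
  rw [clTr_eq (QP P) hK]
  unfold chi
  rw [QuotientAddGroup.lift_mk, FreeAbelianGroup.lift_apply_of]

theorem eul_single (X : C) (hX : P X) : eul P ((singleFunctor C 0).obj X) = clSub P X := by
  unfold eul
  rw [finsum_eq_single _ (0 : ℤ)]
  · unfold eulTerm
    rw [Int.negOnePow_zero, Units.val_one, one_smul]
    exact clSub_iso P (singleHomologyIso 0 X) (isZero_zero C) P.prop_zero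
      (P.prop_of_iso (singleHomologyIso 0 X).symm hX) hX
  · intro i hi
    unfold eulTerm
    have hz := isZero_homology_single 0 i hi X
    rw [clSub_isZero P hz (P.prop_of_isZero hz), smul_zero]

theorem chi_sigma [P.IsClosedUnderKernels] (x : K0sub P) : chi P (sigma P x) = x := by
  induction x using QuotientAddGroup.induction_on with
  | H z =>
    induction z using FreeAbelianGroup.induction_on with
    | zero => simp
    | of X =>
      have h1 : ((FreeAbelianGroup.of X : FreeAbelianGroup (Subtype P)) : K0sub P) =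
          clSub P X.1 := (clSub_eq P X.2).symm
      rw [h1, sigma_clSub P X.2, chi_clTr P (QP_single P 0 _ X.2), eul_single P _ X.2]
    | neg X ih =>
      rw [QuotientAddGroup.mk_neg, map_neg, map_neg, ih]
    | add x y hx hy =>
      rw [QuotientAddGroup.mk_add, map_add, map_add, hx, hy]

end Derived

end Groth.Agent.H16.K0Der
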