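import Groth.Agent.H16.K0DerB

/-!
# K₀(P) vs K₀(D^b_P(C)), part C: surjectivity of `σ` and the isomorphism
-/

set_option autoImplicit false
universe w v u
open CategoryTheory CategoryTheory.Limits CategoryTheory.Pretriangulated KZero ZeroObject
open Groth.Agent.H16.K0Res

namespace Groth.Agent.H16.K0Der

open DerivedCategory

variable {C : Type u} [Category.{v} C] [Abelian C] [HasDerivedCategory.{w} C]
  (P : ObjectProperty C) [P.IsClosedUnderIsomorphisms] [P.ContainsZero]

/-- `[Y[-m]] = -[Y[-m-1]]` -/
theorem clTr_single_succ (m : ℤ) (Y : C) (hY : P Y) :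
    clTr (QP P) ((singleFunctor C (m + 1)).obj Y) = - clTr (QP P) ((singleFunctor C m).obj Y) := by
  have e : ((singleFunctor C (m + 1)).obj Y)⟦(1 : ℤ)⟧ ≅ (singleFunctor C m).obj Y :=
    ((singleFunctors C).shiftIso 1 m (m + 1) (by lia)).app Y
  have hQ1 : QP P (((singleFunctor C (m + 1)).obj Y)⟦(1 : ℤ)⟧) :=
    QP_of_iso P e.symm (QP_single P m Y hY)
  have h1 := clTr_shift_one (QP P) (QP_zero P) _ (QP_single P (m + 1) Y hY) hQ1
  have h2 := clTr_iso (QP P) (QP_zero P) e hQ1 (QP_single P m Y hY)
  rw [← h2, h1, neg_neg]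

theorem clTr_single (m : ℤ) (Y : C) (hY : P Y) :
    clTr (QP P) ((singleFunctor C m).obj Y) =
      ((m.negOnePow : ℤˣ) : ℤ) • clTr (QP P) ((singleFunctor C 0).obj Y) := by
  induction m using Int.induction_on with
  | zero => rw [Int.negOnePow_zero, Units.val_one, one_smul]
  | succ i ih =>
    rw [clTr_single_succ P _ Y hY, ih, Int.negOnePow_succ, Units.val_neg, neg_smul]
  | pred i ih =>
    have h := clTr_single_succ P (-(i : ℤ) - 1) Y hY
    rw [sub_add_cancel] at h
    rw [h] at ih
    have h3 : ((-(i : ℤ) - 1).negOnePow : ℤˣ) = - (-(i : ℤ)).negOnePow := by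
      have := Int.negOnePow_succ (-(i : ℤ) - 1)
      rw [sub_add_cancel] at this
      rw [this, neg_neg]
    rw [h3, Units.val_neg, neg_smul, ← ih, neg_neg]

/-- in a distinguished triangle `L → K → M` with `H^i L = 0` for `i ≥ b` and `H^i M = 0` for
`i < b`, the homology of `L` and `M` is that of `K` in the complementary ranges -/
theorem trunc_homology (T : Triangle (DerivedCategory C)) (hT : T ∈ distTriang (DerivedCategory C))
    (b : ℤ) (hL : ∀ i : ℤ, b ≤ i → IsZero ((homologyFunctor C i).obj T.obj₁))
    (hM : ∀ i : ℤ, i < b → IsZero ((homologyFunctor C i).obj T.obj₃)) :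
    (∀ i : ℤ, i < b → IsIso ((homologyFunctor C i).map T.mor₁)) ∧
      (∀ i : ℤ, b ≤ i → IsIso ((homologyFunctor C i).map T.mor₂)) := by
  constructor
  · intro i hi
    have hm : Mono ((homologyFunctor C i).map T.mor₁) := by
      rw [HomologySequence.mono_homologyMap_mor₁_iff T hT (i - 1) i (by lia)]
      exact (hM (i - 1) (by lia)).eq_of_src _ _
    have he : Epi ((homologyFunctor C i).map T.mor₁) := by
      rw [HomologySequence.epi_homologyMap_mor₁_iff T hT i]
      exact (hM i hi).eq_of_tgt _ _
    exact isIso_of_mono_of_epi _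
  · intro i hi
    have hm : Mono ((homologyFunctor C i).map T.mor₂) := by
      rw [HomologySequence.mono_homologyMap_mor₂_iff T hT i]
      exact (hL i hi).eq_of_src _ _
    have he : Epi ((homologyFunctor C i).map T.mor₂) := by
      rw [HomologySequence.epi_homologyMap_mor₂_iff T hT i (i + 1) rfl]
      exact (hL (i + 1) (by lia)).eq_of_tgt _ _
    exact isIso_of_mono_of_epi _

variable [P.IsClosedUnderKernels]

theorem clTr_mem_range (n : ℕ) : ∀ (K : DerivedCategory C) (_ : QP P K) (a b : ℤ)
    (_ : (DerivedCategory.TStructure.t (C := C)).IsGE K a)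
    (_ : (DerivedCategory.TStructure.t (C := C)).IsLE K b) (_ : b - a < n),
    clTr (QP P) K ∈ (sigma P).range := by
  induction n with
  | zero =>
    intro K hK a b ha hb hab
    have hz : IsZero K := (DerivedCategory.TStructure.t (C := C)).isZero K b a (by
      have : b - a < 0 := by exact_mod_cast hab
      lia)
    rw [clTr_iso (QP P) (QP_zero P) hz.isoZero hK (QP_zero P), clTr_zero (QP P) (QP_zero P)]
    exact zero_mem _
  | succ n ih =>
    intro K hK a b ha hb hab
    obtain ⟨L, M, hL, hM, f, g, h, hT⟩ :=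
      (DerivedCategory.TStructure.t (C := C)).exists_triangle K (b - 1) b (by ring)
    have hL' : (DerivedCategory.TStructure.t (C := C)).IsLE L (b - 1) := ⟨hL⟩
    have hM' : (DerivedCategory.TStructure.t (C := C)).IsGE M b := ⟨hM⟩
    have hLz : ∀ i : ℤ, b ≤ i → IsZero ((homologyFunctor C i).obj L) := fun i hi =>
      (DerivedCategory.isLE_iff L (b - 1)).mp hL' i (by lia)
    have hMz : ∀ i : ℤ, i < b → IsZero ((homologyFunctor C i).obj M) := fun i hi =>
      (DerivedCategory.isGE_iff M b).mp hM' i hi
    obtain ⟨h1, h2⟩ := trunc_homology (Triangle.mk f g h) hT b hLz hMz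
    -- homology of `L` and `M`
    have hLK : ∀ i : ℤ, IsZero ((homologyFunctor C i).obj L) ∨
        Nonempty ((homologyFunctor C i).obj L ≅ (homologyFunctor C i).obj K) := by
      intro i
      by_cases hi : i < b
      · have : IsIso ((homologyFunctor C i).map f) := h1 i hi
        exact Or.inr ⟨asIso ((homologyFunctor C i).map f)⟩
      · exact Or.inl (hLz i (not_lt.mp hi))
    have hMK : ∀ i : ℤ, IsZero ((homologyFunctor C i).obj M) ∨
        Nonempty ((homologyFunctor C i).obj K ≅ (homologyFunctor C i).obj M) := by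
      intro i
      by_cases hi : i < b
      · exact Or.inl (hMz i hi)
      · have : IsIso ((homologyFunctor C i).map g) := h2 i (not_lt.mp hi)
        exact Or.inr ⟨asIso ((homologyFunctor C i).map g)⟩
    have hLa : (DerivedCategory.TStructure.t (C := C)).IsGE L a := by
      refine (DerivedCategory.isGE_iff L a).mpr ?_
      intro i hi
      rcases hLK i with hz | ⟨⟨e⟩⟩
      · exact hz
      · exact ((DerivedCategory.isGE_iff K a).mp ha i hi).of_iso e
    have hMb : (DerivedCategory.TStructure.t (C := C)).IsLE M b := by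
      refine (DerivedCategory.isLE_iff M b).mpr ?_
      intro i hi
      rcases hMK i with hz | ⟨⟨e⟩⟩
      · exact hz
      · exact ((DerivedCategory.isLE_iff K b).mp hb i hi).of_iso e.symm
    have hQL : QP P L := by
      refine ⟨fun i => ?_, a, b - 1, hLa, hL'⟩
      rcases hLK i with hz | ⟨⟨e⟩⟩
      · exact P.prop_of_isZero hz
      · exact P.prop_of_iso e.symm (hK.1 i)
    have hQM : QP P M := by
      refine ⟨fun i => ?_, b, b, hM', hMb⟩
      rcases hMK i with hz | ⟨⟨e⟩⟩
      · exact P.prop_of_isZero hz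
      · exact P.prop_of_iso e (hK.1 i)
    have hrel := clTr_rel (QP P) (Triangle.mk f g h) hT hQL hK hQM
    change clTr (QP P) K = clTr (QP P) L + clTr (QP P) M at hrel
    rw [hrel]
    apply add_mem
    · exact ih L hQL a (b - 1) hLa hL' (by push_cast at hab; lia)
    · obtain ⟨Y, ⟨e⟩⟩ := DerivedCategory.exists_iso_singleFunctor_obj_of_isGE_of_isLE M b
      have hY : P Y := by
        have e' : (homologyFunctor C b).obj M ≅ Y :=
          (homologyFunctor C b).mapIso e ≪≫ singleHomologyIso b Y
        exact P.prop_of_iso e' (hQM.1 b)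
      rw [clTr_iso (QP P) (QP_zero P) e hQM (QP_single P b Y hY), clTr_single P b Y hY,
        ← sigma_clSub P hY]
      exact zsmul_mem (AddMonoidHom.mem_range.mpr ⟨_, rfl⟩) _

theorem sigma_surjective : Function.Surjective (sigma P) := by
  intro x
  induction x using QuotientAddGroup.induction_on with
  | H z =>
    induction z using FreeAbelianGroup.induction_on with
    | zero => exact ⟨0, map_zero _⟩
    | of K =>
      obtain ⟨hK1, a, b, ha, hb⟩ := K.2
      have h1 : ((FreeAbelianGroup.of K : FreeAbelianGroup (Subtype (QP P))) : K0tr (QP P)) =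
          clTr (QP P) K.1 := (clTr_eq (QP P) K.2).symm
      rw [h1]
      exact clTr_mem_range P (b - a).toNat.succ K.1 K.2 a b ha hb (by
        push_cast
        have := Int.self_le_toNat (b - a)
        lia)
    | neg K ih =>
      obtain ⟨y, hy⟩ := ih
      exact ⟨-y, by rw [map_neg, hy, QuotientAddGroup.mk_neg]⟩
    | add x y hx hy =>
      obtain ⟨x', hx'⟩ := hx
      obtain ⟨y', hy'⟩ := hy
      exact ⟨x' + y', by rw [map_add, hx', hy', QuotientAddGroup.mk_add]⟩

theorem sigma_bijective : Function.Bijective (sigma P) :=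
  ⟨Function.LeftInverse.injective (chi_sigma P), sigma_surjective P⟩

/-- the isomorphism `K₀(P) ≃ K₀(D^b_P(C))` -/
noncomputable def sigmaEquiv : K0sub P ≃+ K0tr (QP P) :=
  AddEquiv.ofBijective (sigma P) (sigma_bijective P)

theorem sigmaEquiv_clSub {X : C} (hX : P X) :
    sigmaEquiv P (clSub P X) = clTr (QP P) ((singleFunctor C 0).obj X) :=
  sigma_clSub P hX

end Groth.Agent.H16.K0Der
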