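import Groth.Agent.H16.K0Res1

set_option autoImplicit false
open CategoryTheory CategoryTheory.Limits
universe v u

namespace Groth.Agent.H16.K0Res

open KZero ZeroObject

variable {C : Type u} [Category.{v} C] [Abelian C]

/-- the hypotheses of the resolution theorem (except the bound on resolutions) -/
structure ResHyp (P₀ P₁ : ObjectProperty C) : Prop where
  iso₀ : ∀ {X Y : C}, (X ≅ Y) → P₀ X → P₀ Y
  iso₁ : ∀ {X Y : C}, (X ≅ Y) → P₁ X → P₁ Y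
  hle : ∀ X, P₀ X → P₁ X
  hext₀ : ∀ S : ShortComplex C, S.ShortExact → P₀ S.X₁ → P₀ S.X₃ → P₀ S.X₂
  hext₁ : ∀ S : ShortComplex C, S.ShortExact → P₁ S.X₁ → P₁ S.X₃ → P₁ S.X₂
  h1₀ : ∀ S : ShortComplex C, S.ShortExact → P₀ S.X₂ → P₀ S.X₃ → P₀ S.X₁
  h1₁ : ∀ S : ShortComplex C, S.ShortExact → P₁ S.X₂ → P₁ S.X₃ → P₁ S.X₁
  h2 : ∀ (A B D : C) (u : A ⟶ B) (v : D ⟶ B), Epi u → P₁ A → P₁ B → P₁ D →
      ∃ (L : C) (u' : L ⟶ D) (v' : L ⟶ A), P₀ L ∧ Epi u' ∧ u' ≫ v = v' ≫ u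

theorem shortExact_zero_id (A : C) :
    (ShortComplex.mk (0 : (0 : C) ⟶ A) (𝟙 A) zero_comp).ShortExact := by
  have hm : Mono (0 : (0 : C) ⟶ A) := ⟨fun _ _ _ => (isZero_zero C).eq_of_tgt _ _⟩
  refine ShortComplex.ShortExact.mk' ?_ hm (by change Epi (𝟙 A); infer_instance)
  rw [ShortComplex.exact_iff_exact_up_to_refinements]
  intro W x hx
  have hx' : x ≫ 𝟙 A = 0 := hx
  rw [Category.comp_id] at hx'
  refine ⟨W, 𝟙 W, inferInstance, 0, ?_⟩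
  rw [hx', comp_zero, zero_comp]

variable {P₀ P₁ : ObjectProperty C}

namespace ResHyp

variable (H : ResHyp P₀ P₁)
include H

theorem zero₀ {A : C} (hA : P₀ A) : P₀ (0 : C) :=
  H.h1₀ _ (shortExact_zero_id A) hA hA

theorem zero₁ {A : C} (hA : P₁ A) : P₁ (0 : C) :=
  H.h1₁ _ (shortExact_zero_id A) hA hA

/-- every object of `P₁` is a quotient of an object of `P₀` -/
theorem exists_step {A : C} (hA : P₁ A) : ∃ (L : C) (p : L ⟶ A), Epi p ∧ P₀ L := by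
  have h0 := H.zero₁ hA
  obtain ⟨L, u', -, hL, hu', -⟩ := H.h2 (0 : C) (0 : C) A (𝟙 0) 0 inferInstance h0 h0 hA
  exact ⟨L, u', hu', hL⟩

theorem kernel₁ {L A : C} (p : L ⟶ A) [Epi p] (hL : P₁ L) (hA : P₁ A) : P₁ (kernel p) :=
  H.h1₁ _ (kernel_shortExact p) hL hA

theorem kernel₀ {L A : C} (p : L ⟶ A) [Epi p] (hL : P₀ L) (hA : P₀ A) : P₀ (kernel p) :=
  H.h1₀ _ (kernel_shortExact p) hL hA

end ResHyp

variable (P₀ P₁) in
/-- objects all of whose partial resolutions of length `n` end in `P₀` -/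
def Q : ℕ → C → Prop
  | 0 => fun A => P₀ A
  | n + 1 => fun A => P₁ A ∧ ∀ (L : C) (p : L ⟶ A), Epi p → P₀ L → Q n (kernel p)

theorem Q_zero (A : C) : Q P₀ P₁ 0 A ↔ P₀ A := Iff.rfl

theorem Q_succ (n : ℕ) (A : C) : Q P₀ P₁ (n + 1) A ↔
    (P₁ A ∧ ∀ (L : C) (p : L ⟶ A), Epi p → P₀ L → Q P₀ P₁ n (kernel p)) := Iff.rfl

section

variable (H : ResHyp P₀ P₁)
include H

theorem Q_P₁ : ∀ (n : ℕ) {A : C}, Q P₀ P₁ n A → P₁ A
  | 0, A, h => H.hle A h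
  | _ + 1, _, h => h.1

theorem Q_iso : ∀ (n : ℕ) {A B : C}, (A ≅ B) → Q P₀ P₁ n A → Q P₀ P₁ n B
  | 0, _, _, e, h => H.iso₀ e h
  | n + 1, A, B, e, h => by
    refine ⟨H.iso₁ e h.1, fun L p hp hL => ?_⟩
    have h1 : Q P₀ P₁ n (kernel (p ≫ e.inv)) := h.2 L (p ≫ e.inv) (epi_comp _ _) hL
    exact Q_iso n (kernelCompMono p e.inv) h1

theorem Q_succ_of_Q : ∀ (n : ℕ) {A : C}, Q P₀ P₁ n A → Q P₀ P₁ (n + 1) A
  | 0, A, h => ⟨H.hle A h, fun L p hp hL => H.kernel₀ p hL h⟩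
  | n + 1, _, h => ⟨h.1, fun L p hp hL => Q_succ_of_Q n (h.2 L p hp hL)⟩

theorem Q_mono {n m : ℕ} (hnm : n ≤ m) {A : C} (h : Q P₀ P₁ n A) : Q P₀ P₁ m A := by
  induction m, hnm using Nat.le_induction with
  | base => exact h
  | succ m _ ih => exact Q_succ_of_Q H m ih

theorem Q_of_P₀ (n : ℕ) {A : C} (h : P₀ A) : Q P₀ P₁ n A :=
  Q_mono H (Nat.zero_le n) h

/-- (E_n) -/
theorem Q_ext (n : ℕ) (S : ShortComplex C) (hS : S.ShortExact) (h₁ : Q P₀ P₁ n S.X₁)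
    (h₃ : P₀ S.X₃) : Q P₀ P₁ n S.X₂ := by
  cases n with
  | zero => exact H.hext₀ S hS h₁ h₃
  | succ n =>
    have := hS.epi_g
    refine ⟨H.hext₁ S hS h₁.1 (H.hle _ h₃), fun L p hp hL => ?_⟩
    have hK₃ : P₀ (kernel (p ≫ S.g)) := H.kernel₀ (p ≫ S.g) hL h₃
    obtain ⟨i, q, w, hT⟩ := comp_shortExact S hS p
    have hq : Epi q := hT.epi_g
    have h1 : Q P₀ P₁ n (kernel q) := h₁.2 _ q hq hK₃
    obtain ⟨e⟩ := nonempty_iso_kernel _ hT
    exact Q_iso H n e.symm h1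

end

variable (P₀) in
/-- existence of a one-step presentation -/
def HasStep (A : C) : Prop := ∃ (L : C) (p : L ⟶ A), Epi p ∧ P₀ L

open Classical in
variable (P₀) in
/-- the Euler characteristic of a partial resolution of length `n` -/
noncomputable def phi : ℕ → C → K0sub P₀
  | 0, A => clSub P₀ A
  | n + 1, A =>
    if h : HasStep P₀ A then clSub P₀ h.choose - phi n (kernel h.choose_spec.choose) else 0

theorem phi_zero (A : C) : phi P₀ 0 A = clSub P₀ A := rfl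

theorem phi_succ (n : ℕ) (A : C) (h : HasStep P₀ A) :
    phi P₀ (n + 1) A = clSub P₀ h.choose - phi P₀ n (kernel h.choose_spec.choose) := by
  rw [phi, dif_pos h]

variable (P₀ P₁) in
def AddOn (n : ℕ) : Prop :=
  ∀ S : ShortComplex C, S.ShortExact → Q P₀ P₁ n S.X₁ → Q P₀ P₁ n S.X₂ → Q P₀ P₁ n S.X₃ →
    phi P₀ n S.X₂ = phi P₀ n S.X₁ + phi P₀ n S.X₃

variable (P₀ P₁) in
def WellDef (n : ℕ) : Prop :=
  ∀ (A : C), Q P₀ P₁ (n + 1) A → ∀ (L : C) (p : L ⟶ A) (L' : C) (p' : L' ⟶ A),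
    Epi p → Epi p' → P₀ L → P₀ L' →
      clSub P₀ L - phi P₀ n (kernel p) = clSub P₀ L' - phi P₀ n (kernel p')

variable (P₀ P₁) in
def GenStep (n : ℕ) : Prop :=
  ∀ S : ShortComplex C, S.ShortExact → Q P₀ P₁ n S.X₁ → Q P₀ P₁ n S.X₂ →
    Q P₀ P₁ (n + 1) S.X₃ → phi P₀ (n + 1) S.X₃ = phi P₀ n S.X₂ - phi P₀ n S.X₁

section

variable (H : ResHyp P₀ P₁)
include H

theorem phi_succ_eq {n : ℕ} (hW : WellDef P₀ P₁ n) {A : C} (hA : Q P₀ P₁ (n + 1) A)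
    {L : C} (p : L ⟶ A) [Epi p] (hL : P₀ L) :
    phi P₀ (n + 1) A = clSub P₀ L - phi P₀ n (kernel p) := by
  have h : HasStep P₀ A := ⟨L, p, inferInstance, hL⟩
  rw [phi_succ n A h]
  exact hW A hA _ _ _ _ h.choose_spec.choose_spec.1 inferInstance h.choose_spec.choose_spec.2 hL

/-- (C_n) -/
theorem compat : ∀ (n : ℕ) {A : C}, Q P₀ P₁ n A → phi P₀ (n + 1) A = phi P₀ n A
  | 0, A, hA => by
    have h : HasStep P₀ A := H.exists_step (H.hle A hA)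
    rw [phi_succ 0 A h, phi_zero, phi_zero]
    have hp : Epi h.choose_spec.choose := h.choose_spec.choose_spec.1
    have hL : P₀ h.choose := h.choose_spec.choose_spec.2
    have hK : P₀ (kernel h.choose_spec.choose) := H.kernel₀ _ hL hA
    have := clSub_ses P₀ _ (kernel_shortExact h.choose_spec.choose) hK hL hA
    change clSub P₀ h.choose = clSub P₀ (kernel h.choose_spec.choose) + clSub P₀ A at this
    rw [this, add_sub_cancel_left]
  | n + 1, A, hA => by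
    have h : HasStep P₀ A := H.exists_step hA.1
    rw [phi_succ (n + 1) A h, phi_succ n A h]
    have hK : Q P₀ P₁ n (kernel h.choose_spec.choose) :=
      hA.2 _ _ h.choose_spec.choose_spec.1 h.choose_spec.choose_spec.2
    rw [compat n hK]

theorem phi_stable {n m : ℕ} (hnm : n ≤ m) {A : C} (hA : Q P₀ P₁ n A) :
    phi P₀ m A = phi P₀ n A := by
  induction m, hnm using Nat.le_induction with
  | base => rfl
  | succ m hm ih => rw [compat H m (Q_mono H hm hA), ih]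

theorem phi_of_P₀ (n : ℕ) {A : C} (hA : P₀ A) : phi P₀ n A = clSub P₀ A :=
  phi_stable H (Nat.zero_le n) hA

theorem addOn_zero : AddOn P₀ P₁ 0 :=
  fun S hS h₁ h₂ h₃ => clSub_ses P₀ S hS h₁ h₂ h₃

/-- the value on a zero object -/
theorem phi_isZero {n : ℕ} {Z : C} (hZ : IsZero Z) (hPZ : P₀ Z) : phi P₀ n Z = 0 := by
  rw [phi_of_P₀ H n hPZ]
  exact clSub_isZero P₀ hZ hPZ

/-- isomorphism invariance, from additivity -/
theorem phi_iso {n : ℕ} (hA : AddOn P₀ P₁ n) {X Y : C} (e : X ≅ Y) (hX : Q P₀ P₁ n X) :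
    phi P₀ n X = phi P₀ n Y := by
  obtain ⟨L, p, hp, hL⟩ := H.exists_step (Q_P₁ H n hX)
  have hZ : P₀ (0 : C) := H.zero₀ hL
  let S : ShortComplex C := ShortComplex.mk (0 : (0 : C) ⟶ X) e.hom zero_comp
  have hS : S.ShortExact := by
    have hm : Mono S.f := ⟨fun _ _ _ => (isZero_zero C).eq_of_tgt _ _⟩
    have he : Epi S.g := by change Epi e.hom; infer_instance
    refine ShortComplex.ShortExact.mk' ?_ hm he
    rw [ShortComplex.exact_iff_exact_up_to_refinements]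
    intro W x hx
    have hx' : x ≫ e.hom = 0 := hx
    have hx0 : x = 0 := by
      rw [← cancel_mono e.hom, hx', zero_comp]
    refine ⟨W, 𝟙 W, inferInstance, 0, ?_⟩
    rw [hx0, comp_zero, zero_comp]
  have := hA S hS (Q_of_P₀ H n hZ) hX (Q_iso H n e hX)
  change phi P₀ n X = phi P₀ n (0 : C) + phi P₀ n Y at this
  rw [this, phi_isZero H (isZero_zero C) hZ, zero_add]

/-- (L1) -/
theorem wellDef_of_addOn {n : ℕ} (hA : AddOn P₀ P₁ n) : WellDef P₀ P₁ n := by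
  intro A hQA L p L' p' hp hp' hL hL'
  obtain ⟨i₁, w₁, hT₁⟩ := pullback_fst_shortExact p p'
  obtain ⟨i₂, w₂, hT₂⟩ := pullback_snd_shortExact p p'
  have hK' : Q P₀ P₁ n (kernel p') := hQA.2 L' p' hp' hL'
  have hK : Q P₀ P₁ n (kernel p) := hQA.2 L p hp hL
  have hM : Q P₀ P₁ n (pullback p p') := Q_ext H n _ hT₁ hK' hL
  have e₁ := hA _ hT₁ hK' hM (Q_of_P₀ H n hL)
  have e₂ := hA _ hT₂ hK hM (Q_of_P₀ H n hL')
  change phi P₀ n (pullback p p') = phi P₀ n (kernel p') + phi P₀ n L at e₁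
  change phi P₀ n (pullback p p') = phi P₀ n (kernel p) + phi P₀ n L' at e₂
  rw [phi_of_P₀ H n hL] at e₁
  rw [phi_of_P₀ H n hL'] at e₂
  have e₃ : phi P₀ n (kernel p') + clSub P₀ L = phi P₀ n (kernel p) + clSub P₀ L' := by
    rw [← e₁, ← e₂]
  rw [sub_eq_sub_iff_add_eq_add, add_comm, e₃, add_comm]

/-- (G_0) -/
theorem genStep_zero (hW : WellDef P₀ P₁ 0) : GenStep P₀ P₁ 0 := by
  intro S hS h₁ h₂ h₃
  have := hS.epi_g
  rw [phi_succ_eq H hW h₃ S.g h₂, phi_zero, phi_zero, phi_zero]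
  obtain ⟨e⟩ := nonempty_iso_kernel S hS
  have hK : P₀ (kernel S.g) := H.iso₀ e h₁
  have hZ : P₀ (0 : C) := H.zero₀ h₁
  rw [clSub_iso P₀ e (isZero_zero C) hZ h₁ hK]

/-- (G_{n+1}) -/
theorem genStep_succ {n : ℕ} (hA : AddOn P₀ P₁ (n + 1)) (hW : WellDef P₀ P₁ n)
    (hW' : WellDef P₀ P₁ (n + 1)) : GenStep P₀ P₁ (n + 1) := by
  intro S hS h₁ h₂ h₃
  have := hS.epi_g
  obtain ⟨L', q, hq, hL'⟩ := H.exists_step h₂.1
  have hN : Q P₀ P₁ n (kernel q) := h₂.2 L' q hq hL'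
  have hN' : Q P₀ P₁ (n + 1) (kernel (q ≫ S.g)) := h₃.2 L' (q ≫ S.g) (epi_comp _ _) hL'
  obtain ⟨i, r, w, hT⟩ := comp_shortExact S hS q
  have e₁ : phi P₀ (n + 2) S.X₃ = clSub P₀ L' - phi P₀ (n + 1) (kernel (q ≫ S.g)) :=
    phi_succ_eq H hW' h₃ (q ≫ S.g) hL'
  have e₂ : phi P₀ (n + 1) S.X₂ = clSub P₀ L' - phi P₀ n (kernel q) :=
    phi_succ_eq H hW h₂ q hL'
  have e₃ := hA _ hT (Q_succ_of_Q H n hN) hN' h₁
  change phi P₀ (n + 1) (kernel (q ≫ S.g)) =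
    phi P₀ (n + 1) (kernel q) + phi P₀ (n + 1) S.X₁ at e₃
  rw [compat H n hN] at e₃
  rw [e₁, e₂, e₃]
  abel

/-- (L3) -/
theorem addOn_succ {n : ℕ} (hW : WellDef P₀ P₁ n) (hG : GenStep P₀ P₁ n) :
    AddOn P₀ P₁ (n + 1) := by
  intro S hS h₁ h₂ h₃
  have := hS.epi_g
  obtain ⟨L, p, hp, hL⟩ := H.exists_step h₂.1
  have hK : Q P₀ P₁ n (kernel p) := h₂.2 L p hp hL
  have hK'' : Q P₀ P₁ n (kernel (p ≫ S.g)) := h₃.2 L (p ≫ S.g) (epi_comp _ _) hL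
  obtain ⟨i, q, w, hT⟩ := comp_shortExact S hS p
  have e₁ := hG _ hT hK hK'' h₁
  change phi P₀ (n + 1) S.X₁ = phi P₀ n (kernel (p ≫ S.g)) - phi P₀ n (kernel p) at e₁
  have e₂ : phi P₀ (n + 1) S.X₂ = clSub P₀ L - phi P₀ n (kernel p) :=
    phi_succ_eq H hW h₂ p hL
  have e₃ : phi P₀ (n + 1) S.X₃ = clSub P₀ L - phi P₀ n (kernel (p ≫ S.g)) :=
    phi_succ_eq H hW h₃ (p ≫ S.g) hL
  rw [e₁, e₂, e₃]
  abel

theorem main_induction : ∀ n : ℕ, AddOn P₀ P₁ n ∧ WellDef P₀ P₁ n ∧ GenStep P₀ P₁ n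
  | 0 => by
    have hA := addOn_zero (P₀ := P₀) (P₁ := P₁) H
    have hW := wellDef_of_addOn H hA
    exact ⟨hA, hW, genStep_zero H hW⟩
  | n + 1 => by
    obtain ⟨hA, hW, hG⟩ := main_induction n
    have hA' := addOn_succ H hW hG
    have hW' := wellDef_of_addOn H hA'
    exact ⟨hA', hW', genStep_succ H hA' hW hW'⟩

theorem addOn (n : ℕ) : AddOn P₀ P₁ n := (main_induction H n).1

theorem wellDef (n : ℕ) : WellDef P₀ P₁ n := (main_induction H n).2.1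

end

end Groth.Agent.H16.K0Res
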