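import Groth.Agent.H16.K0Res2

set_option autoImplicit false
open CategoryTheory CategoryTheory.Limits
universe v u

namespace Groth.Agent.H16.K0Res

open KZero ZeroObject

variable {C : Type u} [Category.{v} C] [Abelian C] {P₀ P₁ : ObjectProperty C}

section Bound

variable (H : ResHyp P₀ P₁)
include H

theorem exists_bad_step (m : ℕ) {B : C} (hB : P₁ B) :
    ∃ (L : C) (p : L ⟶ B), Epi p ∧ P₀ L ∧ (¬ Q P₀ P₁ (m + 1) B → ¬ Q P₀ P₁ m (kernel p)) := by
  by_cases hQ : Q P₀ P₁ (m + 1) B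
  · obtain ⟨L, p, hp, hL⟩ := H.exists_step hB
    exact ⟨L, p, hp, hL, fun h => absurd hQ h⟩
  · have h1 : ¬ ∀ (L : C) (p : L ⟶ B), Epi p → P₀ L → Q P₀ P₁ m (kernel p) :=
      fun h => hQ ⟨hB, h⟩
    push Not at h1
    obtain ⟨L, p, hp, hL, hK⟩ := h1
    exact ⟨L, p, hp, hL, fun _ => hK⟩

/-- chosen step -/
noncomputable def stL (m : ℕ) (B : Subtype P₁) : C := (exists_bad_step H m B.2).choose

noncomputable def stp (m : ℕ) (B : Subtype P₁) : stL H m B ⟶ B.1 :=
  (exists_bad_step H m B.2).choose_spec.choose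

instance stp_epi (m : ℕ) (B : Subtype P₁) : Epi (stp H m B) :=
  (exists_bad_step H m B.2).choose_spec.choose_spec.1

theorem stL_mem (m : ℕ) (B : Subtype P₁) : P₀ (stL H m B) :=
  (exists_bad_step H m B.2).choose_spec.choose_spec.2.1

theorem st_bad (m : ℕ) (B : Subtype P₁) (h : ¬ Q P₀ P₁ (m + 1) B.1) :
    ¬ Q P₀ P₁ m (kernel (stp H m B)) :=
  (exists_bad_step H m B.2).choose_spec.choose_spec.2.2 h

noncomputable def next (m : ℕ) (B : Subtype P₁) : Subtype P₁ :=
  ⟨kernel (stp H m B), H.kernel₁ (stp H m B) (H.hle _ (stL_mem H m B)) B.2⟩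

noncomputable def seq (d : ℕ) (A₀ : Subtype P₁) : ℕ → Subtype P₁
  | 0 => A₀
  | i + 1 => next H (d + 1 - i) (seq d A₀ i)

theorem seq_bad (d : ℕ) (A₀ : Subtype P₁) (hbad : ¬ Q P₀ P₁ (d + 2) A₀.1) :
    ∀ i : ℕ, i ≤ d + 2 → ¬ Q P₀ P₁ (d + 2 - i) (seq H d A₀ i).1
  | 0, _ => hbad
  | i + 1, hi => by
    have ih := seq_bad d A₀ hbad i (by omega)
    have e : d + 2 - i = (d + 1 - i) + 1 := by omega
    rw [e] at ih
    have := st_bad H (d + 1 - i) (seq H d A₀ i) ih
    have e' : d + 2 - (i + 1) = d + 1 - i := by omega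
    rw [e']
    exact this

/-- the resolution attached to the chosen steps -/
noncomputable def resData (d : ℕ) (A₀ : Subtype P₁) : ResCx.ResData A₀.1 where
  B i := (seq H d A₀ i).1
  X i := stL H (d + 1 - i) (seq H d A₀ i)
  f i := kernel.ι (stp H (d + 1 - i) (seq H d A₀ i))
  g i := stp H (d + 1 - i) (seq H d A₀ i)
  zero i := kernel.condition _
  se i := kernel_shortExact _
  e := Iso.refl _

theorem Q_of_bound {A : C} (hA : P₁ A) (d : ℕ)
    (h3 : ∀ L : ChainComplex C ℕ, (∀ i, P₀ (L.X i)) → (∀ i, 1 ≤ i → L.ExactAt i) →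
      Nonempty (L.homology 0 ≅ A) → P₀ (L.cycles (d + 1))) : Q P₀ P₁ (d + 2) A := by
  by_contra hbad
  let A₀ : Subtype P₁ := ⟨A, hA⟩
  let R := resData H d A₀
  have hX : ∀ i, P₀ (R.cx.X i) := fun i => stL_mem H _ _
  have hex : ∀ i, 1 ≤ i → R.cx.ExactAt i := by
    intro i hi
    obtain ⟨j, rfl⟩ : ∃ j, i = j + 1 := ⟨i - 1, by omega⟩
    exact R.exactAt_succ j
  have hcyc := h3 R.cx hX hex R.homology_zero_iso
  obtain ⟨e⟩ := R.cycles_iso d
  have hB : P₀ (R.B (d + 2)) := H.iso₀ e hcyc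
  have := seq_bad H d A₀ hbad (d + 2) le_rfl
  rw [Nat.sub_self] at this
  exact this hB

end Bound

section Psi

variable (H : ResHyp P₀ P₁) (hQ : ∀ A : C, P₁ A → ∃ n, Q P₀ P₁ n A)

noncomputable def lvl (A : Subtype P₁) : ℕ := (hQ A.1 A.2).choose

include H in
theorem lvl_spec (A : Subtype P₁) : Q P₀ P₁ (lvl hQ A) A.1 := (hQ A.1 A.2).choose_spec

noncomputable def psi₀ : FreeAbelianGroup (Subtype P₁) →+ K0sub P₀ :=
  FreeAbelianGroup.lift (fun A => phi P₀ (lvl hQ A) A.1)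

include H in
theorem psi₀_of (A : Subtype P₁) {n : ℕ} (hn : Q P₀ P₁ n A.1) :
    psi₀ hQ (FreeAbelianGroup.of A) = phi P₀ n A.1 := by
  rw [psi₀, FreeAbelianGroup.lift_apply_of]
  have h1 := phi_stable H (le_max_left (lvl hQ A) n) (lvl_spec H hQ A)
  have h2 := phi_stable H (le_max_right (lvl hQ A) n) hn
  rw [← h1, h2]

include H in
theorem relSub_le_ker : relSub P₁ ≤ (psi₀ hQ).ker := by
  rw [relSub, AddSubgroup.closure_le]
  rintro x ⟨S, h₁, h₂, h₃, hS, rfl⟩
  change psi₀ hQ _ = 0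
  obtain ⟨n₁, hn₁⟩ := hQ _ h₁
  obtain ⟨n₂, hn₂⟩ := hQ _ h₂
  obtain ⟨n₃, hn₃⟩ := hQ _ h₃
  let N := max n₁ (max n₂ n₃)
  have q₁ : Q P₀ P₁ N S.X₁ := Q_mono H (le_max_left _ _) hn₁
  have q₂ : Q P₀ P₁ N S.X₂ :=
    Q_mono H ((le_max_left _ _).trans (le_max_right _ _)) hn₂
  have q₃ : Q P₀ P₁ N S.X₃ :=
    Q_mono H ((le_max_right _ _).trans (le_max_right _ _)) hn₃
  rw [map_sub, map_sub, psi₀_of H hQ ⟨S.X₁, h₁⟩ q₁, psi₀_of H hQ ⟨S.X₂, h₂⟩ q₂,
    psi₀_of H hQ ⟨S.X₃, h₃⟩ q₃, addOn H N S hS q₁ q₂ q₃]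
  abel

noncomputable def psi : K0sub P₁ →+ K0sub P₀ :=
  QuotientAddGroup.lift (relSub P₁) (psi₀ hQ) (relSub_le_ker H hQ)

theorem psi_clSub {A : C} {n : ℕ} (hn : Q P₀ P₁ n A) :
    psi H hQ (clSub P₁ A) = phi P₀ n A := by
  have hA : P₁ A := Q_P₁ H n hn
  rw [clSub_eq P₁ hA, psi, QuotientAddGroup.lift_mk]
  exact psi₀_of H hQ ⟨A, hA⟩ hn

variable (ι : K0sub P₀ →+ K0sub P₁) (hι : ∀ (A : C), P₀ A → ι (clSub P₀ A) = clSub P₁ A)

include H hι in
theorem iota_phi : ∀ (n : ℕ) {A : C}, Q P₀ P₁ n A → ι (phi P₀ n A) = clSub P₁ A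
  | 0, A, hA => hι A hA
  | n + 1, A, hA => by
    have h : HasStep P₀ A := H.exists_step hA.1
    have hp : Epi h.choose_spec.choose := h.choose_spec.choose_spec.1
    have hL : P₀ h.choose := h.choose_spec.choose_spec.2
    have hK : Q P₀ P₁ n (kernel h.choose_spec.choose) := hA.2 _ _ hp hL
    rw [phi_succ n A h, map_sub, iota_phi n hK, hι _ hL]
    have := clSub_ses P₁ _ (kernel_shortExact h.choose_spec.choose) (Q_P₁ H n hK)
      (H.hle _ hL) hA.1
    change clSub P₁ h.choose = clSub P₁ (kernel h.choose_spec.choose) + clSub P₁ A at this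
    rw [this, add_sub_cancel_left]

include H hQ hι in
theorem bijective_of : Function.Bijective ι := by
  constructor
  · -- injective, via the retraction `psi`
    have key : ∀ x : K0sub P₀, psi H hQ (ι x) = x := by
      intro x
      induction x using QuotientAddGroup.induction_on with
      | H y =>
        induction y using FreeAbelianGroup.induction_on with
        | zero => simp
        | of a =>
          have e : (QuotientAddGroup.mk (FreeAbelianGroup.of a) : K0sub P₀) = clSub P₀ a.1 :=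
            (clSub_eq P₀ a.2).symm
          rw [e, hι a.1 a.2, psi_clSub H hQ (n := 0) a.2, phi_zero]
        | neg a ih =>
          rw [QuotientAddGroup.mk_neg, map_neg, map_neg, ih]
        | add a b iha ihb =>
          rw [QuotientAddGroup.mk_add, map_add, map_add, iha, ihb]
    intro x y hxy
    rw [← key x, ← key y, hxy]
  · intro y
    induction y using QuotientAddGroup.induction_on with
    | H z =>
      induction z using FreeAbelianGroup.induction_on with
      | zero => exact ⟨0, by simp⟩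
      | of a =>
        obtain ⟨n, hn⟩ := hQ a.1 a.2
        refine ⟨phi P₀ n a.1, ?_⟩
        rw [iota_phi H ι hι n hn]
        exact clSub_eq P₁ a.2
      | neg a ih =>
        obtain ⟨x, hx⟩ := ih
        exact ⟨-x, by rw [map_neg, hx, QuotientAddGroup.mk_neg]⟩
      | add a b iha ihb =>
        obtain ⟨x, hx⟩ := iha
        obtain ⟨x', hx'⟩ := ihb
        exact ⟨x + x', by rw [map_add, hx, hx', QuotientAddGroup.mk_add]⟩

end Psi

end Groth.Agent.H16.K0Res
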