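import Groth.Agent.H16.K0Res1
import Mathlib.CategoryTheory.ObjectProperty.Kernels
import Mathlib.CategoryTheory.ObjectProperty.ContainsZero

/-!
# `K₀(A) ≃ K₀sub ⊤`
-/

set_option autoImplicit false
universe v u
open CategoryTheory CategoryTheory.Limits KZero
open Groth.Agent.H16.K0Res

namespace Groth.Agent.H16.K0Top

variable (A : Type u) [Category.{v} A] [Abelian A]

theorem cl_ses (S : ShortComplex A) (hS : S.ShortExact) : cl S.X₂ = cl S.X₁ + cl S.X₃ := by
  symm
  unfold cl
  rw [← QuotientAddGroup.mk_add, QuotientAddGroup.eq]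
  apply AddSubgroup.subset_closure
  refine ⟨S, hS, ?_⟩
  abel

/-- `K₀(A) → K₀sub ⊤` -/
noncomputable def toSub : K0 A →+ K0sub (⊤ : ObjectProperty A) :=
  QuotientAddGroup.lift (relAb A)
    (FreeAbelianGroup.lift (fun X : A => clSub (⊤ : ObjectProperty A) X)) (by
      unfold relAb
      rw [AddSubgroup.closure_le]
      rintro x ⟨S, hS, rfl⟩
      rw [SetLike.mem_coe, AddMonoidHom.mem_ker]
      simp only [map_sub, FreeAbelianGroup.lift_apply_of]
      rw [clSub_ses (⊤ : ObjectProperty A) S hS trivial trivial trivial]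
      abel)

/-- `K₀sub ⊤ → K₀(A)` -/
noncomputable def ofSub : K0sub (⊤ : ObjectProperty A) →+ K0 A :=
  QuotientAddGroup.lift (relSub (⊤ : ObjectProperty A))
    (FreeAbelianGroup.lift (fun X : Subtype (⊤ : ObjectProperty A) => cl X.1)) (by
      unfold relSub
      rw [AddSubgroup.closure_le]
      rintro x ⟨S, h₁, h₂, h₃, hS, rfl⟩
      rw [SetLike.mem_coe, AddMonoidHom.mem_ker]
      simp only [map_sub, FreeAbelianGroup.lift_apply_of]
      rw [cl_ses A S hS]
      abel)

variable {A}

theorem toSub_cl (X : A) : toSub A (cl X) = clSub (⊤ : ObjectProperty A) X := by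
  unfold toSub cl
  rw [QuotientAddGroup.lift_mk, FreeAbelianGroup.lift_apply_of]

theorem ofSub_clSub (X : A) : ofSub A (clSub (⊤ : ObjectProperty A) X) = cl X := by
  rw [clSub_eq (⊤ : ObjectProperty A) (trivial : (⊤ : ObjectProperty A) X)]
  unfold ofSub
  rw [QuotientAddGroup.lift_mk, FreeAbelianGroup.lift_apply_of]

variable (A)

theorem ofSub_toSub (x : K0 A) : ofSub A (toSub A x) = x := by
  induction x using QuotientAddGroup.induction_on with
  | H z =>
    induction z using FreeAbelianGroup.induction_on with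
    | zero => simp
    | of X =>
      change ofSub A (toSub A (cl X)) = cl X
      rw [toSub_cl, ofSub_clSub]
    | neg X ih => rw [QuotientAddGroup.mk_neg, map_neg, map_neg, ih]
    | add x y hx hy => rw [QuotientAddGroup.mk_add, map_add, map_add, hx, hy]

theorem toSub_ofSub (x : K0sub (⊤ : ObjectProperty A)) : toSub A (ofSub A x) = x := by
  induction x using QuotientAddGroup.induction_on with
  | H z =>
    induction z using FreeAbelianGroup.induction_on with
    | zero => simp
    | of X =>
      have h1 : ((FreeAbelianGroup.of X : FreeAbelianGroup (Subtype (⊤ : ObjectProperty A))) :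
          K0sub (⊤ : ObjectProperty A)) = clSub (⊤ : ObjectProperty A) X.1 :=
        (clSub_eq (⊤ : ObjectProperty A) X.2).symm
      rw [h1, ofSub_clSub, toSub_cl]
    | neg X ih => rw [QuotientAddGroup.mk_neg, map_neg, map_neg, ih]
    | add x y hx hy => rw [QuotientAddGroup.mk_add, map_add, map_add, hx, hy]

/-- `K₀(A) ≃ K₀sub ⊤` -/
noncomputable def equiv : K0 A ≃+ K0sub (⊤ : ObjectProperty A) :=
  { toSub A with
    invFun := ofSub A
    left_inv := ofSub_toSub A
    right_inv := toSub_ofSub A }

theorem equiv_cl (X : A) : equiv A (cl X) = clSub (⊤ : ObjectProperty A) X := toSub_cl X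

end Groth.Agent.H16.K0Top
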