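import Mathlib.Algebra.Homology.HomotopyCategory.KInjective
import Mathlib.Algebra.Homology.HomotopyCategory.DegreewiseSplit
import Mathlib.Algebra.Homology.HomologicalComplexAbelian
import Mathlib.Algebra.Homology.ShortComplex.ShortExact
import Mathlib.Algebra.Homology.Double
import Mathlib.CategoryTheory.Preadditive.Injective.Basic

/-!
# K-injective complexes with injective terms and the lifting property
against monomorphisms with acyclic cokernel.
-/

universe v u

open CategoryTheory CategoryTheory.Limits HomologicalComplex CochainComplex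
open CochainComplex.HomComplex

namespace Groth.Agent.H16.KInjLift

variable {A : Type u} [Category.{v} A] [Abelian A]

/-- Acyclicity is stable under shifts. -/
lemma acyclic_shift (K : CochainComplex A ℤ) (hK : K.Acyclic) (n : ℤ) : (K⟦n⟧).Acyclic := by
  rw [← HomotopyCategory.quotient_obj_mem_subcategoryAcyclic_iff_acyclic] at hK ⊢
  exact ObjectProperty.prop_of_iso _
    (((HomotopyCategory.quotient A (.up ℤ)).commShiftIso n).symm.app K)
    ((HomotopyCategory.subcategoryAcyclic A).le_shift n _ hK)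

section Forward

variable (I : CochainComplex A ℤ) [I.IsKInjective] (hI : ∀ n : ℤ, Injective (I.X n))
  (S : ShortComplex (CochainComplex A ℤ)) (hS : S.ShortExact) (hC : S.X₃.Acyclic)

include hI hS hC in
lemma exists_lift (φ : S.X₁ ⟶ I) : ∃ ψ : S.X₂ ⟶ I, S.f ≫ ψ = φ := by
  classical
  have hSp : ∀ p : ℤ, (S.map (HomologicalComplex.eval A (ComplexShape.up ℤ) p)).ShortExact :=
    fun p => hS.map_of_exact _
  have hmono : ∀ p : ℤ, Mono (S.f.f p) := fun p => (hSp p).mono_f
  have hepi : ∀ p : ℤ, Epi (S.g.f p) := fun p => (hSp p).epi_g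
  have hfg : ∀ p : ℤ, S.f.f p ≫ S.g.f p = 0 := fun p => by
    rw [← HomologicalComplex.comp_f, S.zero, HomologicalComplex.zero_f]
  -- degreewise extension
  let ψ₀ : ∀ p : ℤ, S.X₂.X p ⟶ I.X p := fun p =>
    haveI := hI p; haveI := hmono p; Injective.factorThru (φ.f p) (S.f.f p)
  have hψ₀ : ∀ p : ℤ, S.f.f p ≫ ψ₀ p = φ.f p := fun p => by
    haveI := hI p; haveI := hmono p
    exact Injective.comp_factorThru (φ.f p) (S.f.f p)
  let z₀ : Cochain S.X₂ I 0 := Cochain.ofHoms ψ₀
  have hz₀ : (Cochain.ofHom S.f).comp z₀ (zero_add 0) = Cochain.ofHom φ := by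
    ext p
    simp [z₀, hψ₀]
  let w : Cochain S.X₂ I 1 := δ 0 1 z₀
  have hw : (Cochain.ofHom S.f).comp w (zero_add 1) = 0 := by
    dsimp only [w]
    rw [← δ_ofHom_comp, hz₀, δ_ofHom]
  have hwv : ∀ p q (hpq : p + 1 = q), S.f.f p ≫ w.v p q hpq = 0 := fun p q hpq => by
    have := Cochain.congr_v hw p q (by omega)
    simpa using this
  -- factor through the cokernel
  let cv : ∀ p q (hpq : p + 1 = q), S.X₃.X p ⟶ I.X q := fun p q hpq =>
    haveI : Epi (S.map (HomologicalComplex.eval A (ComplexShape.up ℤ) p)).g := (hSp p).epi_g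
    (hSp p).exact.desc (w.v p q hpq) (hwv p q hpq)
  have hcv : ∀ p q (hpq : p + 1 = q), S.g.f p ≫ cv p q hpq = w.v p q hpq := fun p q hpq => by
    haveI : Epi (S.map (HomologicalComplex.eval A (ComplexShape.up ℤ) p)).g := (hSp p).epi_g
    exact (hSp p).exact.g_desc (w.v p q hpq) (hwv p q hpq)
  let c : Cochain S.X₃ I 1 := Cochain.mk cv
  have hc : (Cochain.ofHom S.g).comp c (zero_add 1) = w := by
    ext p q hpq
    simp [c, hcv]
  have hδc : δ 1 2 c = 0 := by
    have h1 : (Cochain.ofHom S.g).comp (δ 1 2 c) (zero_add 2) = 0 := by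
      rw [← δ_ofHom_comp, hc]
      dsimp only [w]
      rw [δ_δ]
    ext p q hpq
    haveI := hepi p
    rw [← cancel_epi (S.g.f p)]
    have := Cochain.congr_v h1 p q (by omega)
    simpa using this
  obtain ⟨h, hh⟩ := IsKInjective.eq_δ_of_cocycle (Cocycle.mk c 2 (by omega) hδc) hC 0 (zero_add 1)
  have hh' : δ 0 1 h = c := hh
  let zψ : Cochain S.X₂ I 0 := z₀ - (Cochain.ofHom S.g).comp h (zero_add 0)
  have hzψ : δ 0 1 zψ = 0 := by
    dsimp only [zψ]
    rw [δ_sub, δ_ofHom_comp, hh', hc]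
    exact sub_self _
  refine ⟨Cocycle.homOf (Cocycle.mk zψ 1 (zero_add 1) hzψ), ?_⟩
  ext p
  simp only [HomologicalComplex.comp_f, Cocycle.homOf_f, Cocycle.mk_coe]
  dsimp only [zψ]
  rw [Cochain.sub_v, Preadditive.comp_sub]
  simp [z₀, hψ₀, reassoc_of% (hfg p)]

end Forward

section Disk

variable (n : ℤ)

lemma rel (n : ℤ) : (ComplexShape.up ℤ).Rel n (n + 1) := rfl

lemma ne (n : ℤ) : n ≠ n + 1 := by omega

/-- The disk complex `X --𝟙--> X` in degrees `n`, `n+1`. -/
noncomputable abbrev disk (X : A) : CochainComplex A ℤ :=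
  HomologicalComplex.double (𝟙 X) (rel n)

/-- The chain map from a disk attached to a morphism `X ⟶ K.X n`. -/
noncomputable def diskHom {X : A} {K : CochainComplex A ℤ} (a : X ⟶ K.X n) : disk n X ⟶ K :=
  HomologicalComplex.mkHomFromDouble (rel n) (ne n) a (a ≫ K.d n (n + 1)) (by simp) (by simp)

lemma diskHom_f₀ {X : A} {K : CochainComplex A ℤ} (a : X ⟶ K.X n) :
    (diskHom n a).f n = (HomologicalComplex.doubleXIso₀ (𝟙 X) (rel n)).hom ≫ a := by
  simp [diskHom]

lemma diskHom_f₁ {X : A} {K : CochainComplex A ℤ} (a : X ⟶ K.X n) :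
    (diskHom n a).f (n + 1) =
      (HomologicalComplex.doubleXIso₁ (𝟙 X) (rel n) (ne n)).hom ≫ a ≫ K.d n (n + 1) := by
  simp [diskHom]

/-- Functoriality of the disk. -/
noncomputable def diskMap {X Y : A} (i : X ⟶ Y) : disk n X ⟶ disk n Y :=
  diskHom n (i ≫ (HomologicalComplex.doubleXIso₀ (𝟙 Y) (rel n)).inv)

lemma diskMap_f₀ {X Y : A} (i : X ⟶ Y) :
    (diskMap n i).f n = (HomologicalComplex.doubleXIso₀ (𝟙 X) (rel n)).hom ≫ i ≫
      (HomologicalComplex.doubleXIso₀ (𝟙 Y) (rel n)).inv := by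
  simp [diskMap, diskHom_f₀]

lemma diskMap_f₁ {X Y : A} (i : X ⟶ Y) :
    (diskMap n i).f (n + 1) = (HomologicalComplex.doubleXIso₁ (𝟙 X) (rel n) (ne n)).hom ≫ i ≫
      (HomologicalComplex.doubleXIso₁ (𝟙 Y) (rel n) (ne n)).inv := by
  simp [diskMap, diskHom_f₁, HomologicalComplex.double_d _ _ (ne n)]

lemma diskMap_diskHom {X Y : A} (i : X ⟶ Y) {K : CochainComplex A ℤ} (a : Y ⟶ K.X n) :
    diskMap n i ≫ diskHom n a = diskHom n (i ≫ a) := by
  apply HomologicalComplex.from_double_hom_ext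
  · simp [diskMap_f₀, diskHom_f₀]
  · simp [diskMap_f₁, diskHom_f₁]

lemma diskMap_comp {X Y Z : A} (i : X ⟶ Y) (j : Y ⟶ Z) :
    diskMap n i ≫ diskMap n j = diskMap n (i ≫ j) := by
  have h := diskMap_diskHom n i (j ≫ (HomologicalComplex.doubleXIso₀ (𝟙 Z) (rel n)).inv)
  rw [← Category.assoc] at h
  exact h

lemma diskMap_zero {X Y : A} : diskMap n (0 : X ⟶ Y) = 0 := by
  apply HomologicalComplex.from_double_hom_ext
  · simp [diskMap_f₀]
  · simp [diskMap_f₁]

/-- The short complex of disks attached to a short complex. -/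
noncomputable def diskSC (T : ShortComplex A) : ShortComplex (CochainComplex A ℤ) :=
  ShortComplex.mk (diskMap n T.f) (diskMap n T.g) (by rw [diskMap_comp, T.zero, diskMap_zero])

lemma diskSC_shortExact (T : ShortComplex A) (hT : T.ShortExact) : (diskSC n T).ShortExact := by
  apply HomologicalComplex.shortExact_of_degreewise_shortExact
  intro k
  by_cases h₀ : k = n
  · subst h₀
    refine ShortComplex.shortExact_of_iso (ShortComplex.isoMk
      (HomologicalComplex.doubleXIso₀ (𝟙 T.X₁) (rel k)).symm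
      (HomologicalComplex.doubleXIso₀ (𝟙 T.X₂) (rel k)).symm
      (HomologicalComplex.doubleXIso₀ (𝟙 T.X₃) (rel k)).symm ?_ ?_) hT
    · simp only [diskSC, diskMap_f₀, ShortComplex.map_f, HomologicalComplex.eval_map,
        Iso.symm_hom]
      exact Iso.inv_hom_id_assoc _ _
    · simp only [diskSC, diskMap_f₀, ShortComplex.map_g, HomologicalComplex.eval_map,
        Iso.symm_hom]
      exact Iso.inv_hom_id_assoc _ _
  · by_cases h₁ : k = n + 1
    · subst h₁
      refine ShortComplex.shortExact_of_iso (ShortComplex.isoMk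
        (HomologicalComplex.doubleXIso₁ (𝟙 T.X₁) (rel n) (ne n)).symm
        (HomologicalComplex.doubleXIso₁ (𝟙 T.X₂) (rel n) (ne n)).symm
        (HomologicalComplex.doubleXIso₁ (𝟙 T.X₃) (rel n) (ne n)).symm ?_ ?_) hT
      · simp only [diskSC, diskMap_f₁, ShortComplex.map_f, HomologicalComplex.eval_map,
          Iso.symm_hom]
        exact Iso.inv_hom_id_assoc _ _
      · simp only [diskSC, diskMap_f₁, ShortComplex.map_g, HomologicalComplex.eval_map,
          Iso.symm_hom]
        exact Iso.inv_hom_id_assoc _ _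
    · have hz : ∀ X : A, IsZero ((disk n X).X k) := fun X =>
        HomologicalComplex.isZero_double_X _ _ k h₀ h₁
      exact
        { exact := ShortComplex.exact_of_isZero_X₂ _ (hz T.X₂)
          mono_f := (hz T.X₁).mono _
          epi_g := (hz T.X₃).epi _ }

lemma disk_acyclic (X : A) : (disk n X).Acyclic := by
  intro k
  by_cases h₀ : k = n
  · subst h₀
    rw [HomologicalComplex.exactAt_iff' _ (k - 1) k (k + 1) (by simp) (by simp)]
    have hf : ((disk k X).sc' (k - 1) k (k + 1)).f = 0 :=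
      (HomologicalComplex.isZero_double_X (𝟙 X) (rel k) (k - 1) (by omega) (by omega)).eq_of_src _ _
    rw [ShortComplex.exact_iff_mono _ hf]
    change Mono ((disk k X).d k (k + 1))
    rw [HomologicalComplex.double_d _ _ (ne k)]
    infer_instance
  · by_cases h₁ : k = n + 1
    · subst h₁
      rw [HomologicalComplex.exactAt_iff' _ n (n + 1) (n + 1 + 1) (by simp) (by simp)]
      have hg : ((disk n X).sc' n (n + 1) (n + 1 + 1)).g = 0 :=
        HomologicalComplex.double_d_eq_zero₀ (𝟙 X) (rel n) _ _ (by omega)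
      rw [ShortComplex.exact_iff_epi _ hg]
      change Epi ((disk n X).d n (n + 1))
      rw [HomologicalComplex.double_d _ _ (ne n)]
      infer_instance
    · exact ShortComplex.exact_of_isZero_X₂ _
        (HomologicalComplex.isZero_double_X (𝟙 X) (rel n) k h₀ h₁)

end Disk

section Backward

variable (I : CochainComplex A ℤ)
  (H : ∀ (S : ShortComplex (CochainComplex A ℤ)), S.ShortExact → S.X₃.Acyclic →
        ∀ φ : S.X₁ ⟶ I, ∃ ψ : S.X₂ ⟶ I, S.f ≫ ψ = φ)

include H in
lemma isKInjective_of_lifting : I.IsKInjective := by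
  refine ⟨fun {K} f hK => ?_⟩
  let S := mappingCone.triangleRotateShortComplex (𝟙 K)
  have hS : S.ShortExact :=
    HomologicalComplex.shortExact_of_degreewise_shortExact _
      (fun n => (mappingCone.triangleRotateShortComplexSplitting (𝟙 K) n).shortExact)
  have hC : S.X₃.Acyclic := acyclic_shift K hK 1
  obtain ⟨ψ, hψ⟩ := H S hS hC f
  have hψ' : mappingCone.inr (𝟙 K) ≫ ψ = f := hψ
  let α : Cochain K I (-1) := (mappingCone.inl (𝟙 K)).comp (Cochain.ofHom ψ) (add_zero (-1))
  have hα : δ (-1) 0 α = Cochain.ofHom f := by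
    dsimp only [α]
    rw [δ_comp_ofHom, mappingCone.δ_inl, Category.id_comp, ← Cochain.ofHom_comp, hψ']
  exact ⟨(Cochain.equivHomotopy f 0).symm ⟨α, by simp [hα]⟩⟩

include H in
lemma injective_of_lifting (n : ℤ) : Injective (I.X n) := by
  refine ⟨fun {X Y} a i hi => ?_⟩
  let T : ShortComplex A := ShortComplex.mk i (cokernel.π i) (cokernel.condition i)
  have hT : T.ShortExact :=
    { exact := ShortComplex.exact_cokernel i
      mono_f := hi
      epi_g := by dsimp [T]; infer_instance }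
  obtain ⟨ψ, hψ⟩ := H (diskSC n T) (diskSC_shortExact n T hT) (disk_acyclic n _) (diskHom n a)
  refine ⟨(HomologicalComplex.doubleXIso₀ (𝟙 Y) (rel n)).inv ≫ ψ.f n, ?_⟩
  have h1 : (diskMap n i ≫ ψ).f n = (diskHom n a).f n := by
    have : diskMap n i ≫ ψ = diskHom n a := hψ
    rw [this]
  rw [HomologicalComplex.comp_f, diskMap_f₀, diskHom_f₀, Category.assoc, Category.assoc] at h1
  exact (cancel_epi _).1 h1

end Backward

theorem main (I : CochainComplex A ℤ) :
    (I.IsKInjective ∧ ∀ n : ℤ, Injective (I.X n)) ↔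
      ∀ (S : ShortComplex (CochainComplex A ℤ)), S.ShortExact → S.X₃.Acyclic →
        ∀ φ : S.X₁ ⟶ I, ∃ ψ : S.X₂ ⟶ I, S.f ≫ ψ = φ := by
  constructor
  · rintro ⟨h1, h2⟩ S hS hC φ
    exact exists_lift I h2 S hS hC φ
  · intro H
    exact ⟨isKInjective_of_lifting I H, fun n => injective_of_lifting I H n⟩

end Groth.Agent.H16.KInjLift
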