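import Mathlib
import Groth.Agent.H33.LocCoprod

/-!
# Verdier localization and products (dual of `Groth.Agent.H33.LocCoprod`) (helper16)

Let `T` be a triangulated category with products of shape `J`, `P` a triangulated subcategory
closed under these products and `L : T ⥤ D` a localization functor for `P.trW`. Then `L` sends
products to products.
-/

set_option autoImplicit false
universe w v u v' u'
open CategoryTheory CategoryTheory.Limits

namespace Groth.Agent.H16.LocProd

open CategoryTheory.Pretriangulated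

variable {T : Type u} [Category.{v} T] [Preadditive T] [HasZeroObject T] [HasShift T ℤ]
  [∀ n : ℤ, (shiftFunctor T n).Additive] [Pretriangulated T] [IsTriangulated T]
  (P : ObjectProperty T) [P.IsTriangulated]
  {D : Type u'} [Category.{v'} D] [Preadditive D] (L : T ⥤ D) [L.Additive] [L.IsLocalization P.trW]
  {J : Type w} [HasProductsOfShape J T]

/-- A product of morphisms in `P.trW` is in `P.trW`. -/
lemma trW_piMap (hP : ∀ (C : J → T), (∀ j, P (C j)) → P (∏ᶜ C))
    {X X' : J → T} (s : ∀ j, X j ⟶ X' j) (hs : ∀ j, P.trW (s j)) :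
    P.trW (Limits.Pi.map s) := by
  have h := fun j => (ObjectProperty.trW_iff P (s j)).1 (hs j)
  choose C v w hT hC using h
  have := productTriangle_distinguished (fun j => Triangle.mk (s j) (v j) (w j)) hT
  exact ObjectProperty.trW.mk (P := P) this (hP C hC)

section

variable (hP : ∀ (C : J → T), (∀ j, P (C j)) → P (∏ᶜ C))
include hP

lemma exists_lift (X : J → T) (Y₀ : T) (f : ∀ j, L.obj Y₀ ⟶ L.obj (X j)) :
    ∃ d : L.obj Y₀ ⟶ L.obj (∏ᶜ X), ∀ j, d ≫ L.map (Pi.π X j) = f j := by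
  have h := fun j => Localization.exists_leftFraction L P.trW (f j)
  choose φ hφ using h
  let X' : J → T := fun j => (φ j).Y'
  let s : ∀ j, X j ⟶ X' j := fun j => (φ j).s
  let g : ∀ j, Y₀ ⟶ X' j := fun j => (φ j).f
  have hσ : P.trW (Limits.Pi.map s) := trW_piMap P hP s (fun j => (φ j).hs)
  have : IsIso (L.map (Limits.Pi.map s)) := Localization.inverts L P.trW _ hσ
  refine ⟨L.map (Pi.lift g) ≫ inv (L.map (Limits.Pi.map s)), fun j => ?_⟩
  have : IsIso (L.map (s j)) := Localization.inverts L P.trW _ (φ j).hs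
  have h1 : f j ≫ L.map (s j) = L.map (g j) := by
    rw [hφ j]; exact (φ j).map_comp_map_s L (Localization.inverts L P.trW)
  rw [← cancel_mono (L.map (s j)), h1, Category.assoc, Category.assoc, ← L.map_comp]
  have h2 : Pi.π X j ≫ s j = Limits.Pi.map s ≫ Pi.π X' j :=
    (Limits.Pi.map_π s j).symm
  rw [h2, L.map_comp, IsIso.inv_hom_id_assoc, ← L.map_comp, Pi.lift_π]

lemma eq_zero_of_comp_eq_zero (X : J → T) (Y₀ : T) (d : L.obj Y₀ ⟶ L.obj (∏ᶜ X))
    (hd : ∀ j, d ≫ L.map (Pi.π X j) = 0) : d = 0 := by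
  obtain ⟨ψ, hψ⟩ := Localization.exists_rightFraction L P.trW d
  have : IsIso (L.map ψ.s) := Localization.inverts L P.trW _ ψ.hs
  have h1 : L.map ψ.s ≫ d = L.map ψ.f := by
    rw [hψ]; exact ψ.map_s_comp_map L (Localization.inverts L P.trW)
  suffices L.map ψ.f = 0 by
    rw [← cancel_epi (L.map ψ.s), h1, this, comp_zero]
  have h2 : ∀ j, L.map (ψ.f ≫ Pi.π X j) = L.map 0 := fun j => by
    rw [L.map_comp, ← h1, Category.assoc, hd j, comp_zero, L.map_zero]
  have h3 := fun j => (MorphismProperty.map_eq_iff_postcomp L P.trW _ _).1 (h2 j)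
  choose Z u hu hu' using h3
  have h4 := fun j => (ObjectProperty.trW_iff' P (u j)).1 (hu j)
  choose C v w hT hC using h4
  have h5 : ∀ j, ∃ b : ψ.X' ⟶ C j, ψ.f ≫ Pi.π X j = b ≫ v j := fun j =>
    Triangle.coyoneda_exact₂ _ (hT j) (ψ.f ≫ Pi.π X j) ((hu' j).trans zero_comp)
  choose b hb using h5
  have h6 : ψ.f = Pi.lift b ≫ Limits.Pi.map v := by
    apply Pi.hom_ext
    intro j
    rw [hb j, Category.assoc, Limits.Pi.map_π, ← Category.assoc, Pi.lift_π]
  rw [h6]
  exact Groth.Agent.H33.LocCoprod.map_eq_zero_of_factor P L (hP C hC) _ _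

/-- `L` sends products to products. -/
noncomputable def isLimitMap (X : J → T) :
    IsLimit (Fan.mk (L.obj (∏ᶜ X)) (fun j => L.map (Pi.π X j))) := by
  have := Localization.essSurj L P.trW
  apply IsLimit.ofExistsUnique
  intro s
  let Y₀ := L.objPreimage s.pt
  let e : L.obj Y₀ ≅ s.pt := L.objObjPreimageIso s.pt
  obtain ⟨d, hd⟩ := exists_lift P L hP X Y₀ (fun j => e.hom ≫ s.π.app ⟨j⟩)
  refine ⟨e.inv ≫ d, ?_, ?_⟩
  · rintro ⟨j⟩
    show (e.inv ≫ d) ≫ L.map (Pi.π X j) = _
    rw [Category.assoc, hd j, e.inv_hom_id_assoc]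
  · intro (m : s.pt ⟶ L.obj (∏ᶜ X)) hm
    have : (e.hom ≫ m - d) = 0 := by
      apply eq_zero_of_comp_eq_zero P L hP X Y₀
      intro j
      have h1 : m ≫ L.map (Pi.π X j) = s.π.app ⟨j⟩ := hm ⟨j⟩
      rw [Preadditive.sub_comp, hd j, Category.assoc, h1, sub_self]
    rw [sub_eq_zero] at this
    rw [← this, e.inv_hom_id_assoc]

end

end Groth.Agent.H16.LocProd
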