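import Mathlib
import Groth.Agent.S3194
import Groth.Agent.H16.K0Res1

/-!
# `K₀` of finitely generated modules over a ring with two principal branches

For a Noetherian ring `A` with elements `t₁ t₂` such that `t₁ * t₂ = 0`, both `A ⧸ (tᵢ)` principal
ideal domains and `t₂ ∉ (t₁)`, `t₁ ∉ (t₂)`, the classes `[A ⧸ (t₁)]`, `[A ⧸ (t₂)]` form a basis of
`K₀` of the finitely generated `A`-modules.
-/

set_option autoImplicit false
universe u
open TensorProduct CategoryTheory

namespace Groth.Agent.H16.NodeK0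

open Groth.Agent.H17.K0 KZero Groth.Agent.S3194

section Flat

variable {A : Type u} [CommRing A]

theorem isLocalization_fractionRing_quot (t s : A) (hts : t * s = 0)
    [hP : (Ideal.span {t}).IsPrime] (hs : s ∉ Ideal.span {t}) :
    IsLocalization (Ideal.span {t}).primeCompl (FractionRing (A ⧸ Ideal.span {t})) := by
  set P : Ideal A := Ideal.span {t} with hPdef
  have hinj : Function.Injective (algebraMap (A ⧸ P) (FractionRing (A ⧸ P))) :=
    IsFractionRing.injective _ _
  have hmap : ∀ a : A, algebraMap A (FractionRing (A ⧸ P)) a =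
      algebraMap (A ⧸ P) (FractionRing (A ⧸ P)) (Ideal.Quotient.mk P a) := fun a =>
    IsScalarTower.algebraMap_apply A (A ⧸ P) (FractionRing (A ⧸ P)) a
  refine ⟨?_, ?_, ?_⟩
  · rintro ⟨y, hy⟩
    rw [hmap]
    apply IsUnit.mk0
    intro h0
    rw [← map_zero (algebraMap (A ⧸ P) (FractionRing (A ⧸ P)))] at h0
    have := hinj h0
    rw [Ideal.Quotient.eq_zero_iff_mem] at this
    exact hy this
  · intro z
    obtain ⟨⟨d, e⟩, hde⟩ := IsLocalization.surj (nonZeroDivisors (A ⧸ P)) z
    obtain ⟨a, rfl⟩ := Ideal.Quotient.mk_surjective d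
    obtain ⟨b, hb⟩ := Ideal.Quotient.mk_surjective e.1
    have hbP : b ∈ P.primeCompl := by
      intro hbP
      have : (e : A ⧸ P) = 0 := by rw [← hb]; exact Ideal.Quotient.eq_zero_iff_mem.mpr hbP
      exact nonZeroDivisors.coe_ne_zero e this
    refine ⟨(a, ⟨b, hbP⟩), ?_⟩
    simp only
    rw [hmap, hmap, hb]
    exact hde
  · intro x y hxy
    rw [hmap, hmap] at hxy
    have h1 := hinj hxy
    rw [Ideal.Quotient.eq, hPdef, Ideal.mem_span_singleton] at h1
    obtain ⟨c, hc⟩ := h1
    refine ⟨⟨s, hs⟩, ?_⟩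
    simp only
    have : s * (x - y) = 0 := by rw [hc, ← mul_assoc, mul_comm s t, hts, zero_mul]
    rw [mul_sub, sub_eq_zero] at this
    exact this

theorem flat_fractionRing_quot (t s : A) (hts : t * s = 0)
    [hP : (Ideal.span {t}).IsPrime] (hs : s ∉ Ideal.span {t}) :
    Module.Flat A (FractionRing (A ⧸ Ideal.span {t})) := by
  have := isLocalization_fractionRing_quot t s hts hs
  exact IsLocalization.flat _ (Ideal.span {t}).primeCompl

end Flat

section Rank

variable {A : Type u} [CommRing A] (K : Type u) [Field K] [Algebra A K]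

theorem finrank_tensor_ses [Module.Flat A K] {N₁ N₂ N₃ : Type u} [AddCommGroup N₁] [Module A N₁]
    [AddCommGroup N₂] [Module A N₂] [AddCommGroup N₃] [Module A N₃]
    (f : N₁ →ₗ[A] N₂) (g : N₂ →ₗ[A] N₃) (hf : Function.Injective f) (hg : Function.Surjective g)
    (hfg : Function.Exact f g) [Module.Finite A N₂] :
    (Module.finrank K (K ⊗[A] N₂) : ℤ) =
      Module.finrank K (K ⊗[A] N₁) + Module.finrank K (K ⊗[A] N₃) := by
  let F : K ⊗[A] N₁ →ₗ[K] K ⊗[A] N₂ := f.baseChange K
  let G : K ⊗[A] N₂ →ₗ[K] K ⊗[A] N₃ := g.baseChange K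
  have hF : Function.Injective F := by
    have := Module.Flat.lTensor_preserves_injective_linearMap (M := K) f hf
    exact this
  have hG : Function.Surjective G := by
    have := LinearMap.lTensor_surjective K hg
    exact this
  have hFG : Function.Exact F G := by
    have := lTensor_exact K hfg hg
    exact this
  have h1 := LinearMap.finrank_range_add_finrank_ker G
  have h2 : Module.finrank K (LinearMap.range G) = Module.finrank K (K ⊗[A] N₃) := by
    rw [LinearMap.range_eq_top.mpr hG, finrank_top]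
  have h3 : Module.finrank K (LinearMap.ker G) = Module.finrank K (K ⊗[A] N₁) := by
    have hk : LinearMap.ker G = LinearMap.range F := (LinearMap.exact_iff.mp hFG)
    rw [hk]
    exact (LinearEquiv.ofInjective F hF).finrank_eq.symm
  rw [← h1, h2, h3]
  push_cast
  ring

/-- the rank homomorphism attached to a flat field-valued point -/
noncomputable def rkK [Module.Flat A K] : K0sub (Pf A) →+ ℤ :=
  lift (Pf A) (fun M : Subtype (Pf A) => (Module.finrank K (K ⊗[A] M.1) : ℤ))
    (fun S _ h₂ _ hS => by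
      have : Module.Finite A S.X₂ := h₂
      exact finrank_tensor_ses K S.f.hom S.g.hom hS.moduleCat_injective_f
        hS.moduleCat_surjective_g
        ((ShortComplex.ShortExact.moduleCat_exact_iff_function_exact S).mp hS.exact))

theorem rkK_cl [Module.Flat A K] (M : ModuleCat.{u} A) (h : Pf A M) :
    rkK K (clSub (Pf A) M) = Module.finrank K (K ⊗[A] M) := lift_clSub (Pf A) _ _ h

theorem finrank_tensor_quot_of_map_eq_bot (J : Ideal A) (h : J.map (algebraMap A K) = ⊥) :
    Module.finrank K (K ⊗[A] (A ⧸ J)) = 1 := by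
  rw [← (Algebra.TensorProduct.quotIdealMapEquivTensorQuot K J).toLinearEquiv.finrank_eq, h]
  rw [(Submodule.quotEquivOfEqBot (⊥ : Ideal K) rfl).finrank_eq]
  exact Module.finrank_self K

theorem finrank_tensor_quot_of_map_eq_top (J : Ideal A) (h : J.map (algebraMap A K) = ⊤) :
    Module.finrank K (K ⊗[A] (A ⧸ J)) = 0 := by
  rw [← (Algebra.TensorProduct.quotIdealMapEquivTensorQuot K J).toLinearEquiv.finrank_eq, h]
  have : Subsingleton (K ⧸ (⊤ : Ideal K)) := Ideal.Quotient.subsingleton_iff.mpr rfl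
  exact Module.finrank_zero_of_subsingleton

end Rank

section Res

variable {A : Type u} [CommRing A] (J : Ideal A)

theorem pf_restrict (N : ModuleCat.{u} (A ⧸ J)) (hN : Pf (A ⧸ J) N) :
    Pf A ((ModuleCat.restrictScalars (Ideal.Quotient.mk J)).obj N) := by
  have hN' : Module.Finite (A ⧸ J) N := hN
  change Module.Finite A ((ModuleCat.restrictScalars (Ideal.Quotient.mk J)).obj N)
  letI : Module (A ⧸ J) ((ModuleCat.restrictScalars (Ideal.Quotient.mk J)).obj N) :=
    inferInstanceAs (Module (A ⧸ J) N)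
  have : IsScalarTower A (A ⧸ J) ((ModuleCat.restrictScalars (Ideal.Quotient.mk J)).obj N) :=
    IsScalarTower.of_algebraMap_smul (fun r x => rfl)
  have : Module.Finite (A ⧸ J) ((ModuleCat.restrictScalars (Ideal.Quotient.mk J)).obj N) := hN'
  exact Module.Finite.trans (A ⧸ J) _

/-- restriction of scalars along `A → A ⧸ J` on `K₀` of finitely generated modules -/
noncomputable def resHom : K0sub (Pf (A ⧸ J)) →+ K0sub (Pf A) :=
  lift (Pf (A ⧸ J))
    (fun N => clSub (Pf A) ((ModuleCat.restrictScalars (Ideal.Quotient.mk J)).obj N.1))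
    (fun S h₁ h₂ h₃ hS => clSub_shortExact (Pf A)
      (S.map (ModuleCat.restrictScalars (Ideal.Quotient.mk J)))
      (hS.map_of_exact (ModuleCat.restrictScalars (Ideal.Quotient.mk J)))
      (pf_restrict J _ h₁) (pf_restrict J _ h₂) (pf_restrict J _ h₃))

theorem resHom_cl (N : ModuleCat.{u} (A ⧸ J)) (hN : Pf (A ⧸ J) N) :
    resHom J (clSub (Pf (A ⧸ J)) N) =
      clSub (Pf A) ((ModuleCat.restrictScalars (Ideal.Quotient.mk J)).obj N) :=
  lift_clSub (Pf (A ⧸ J)) _ _ hN

omit J in
theorem pf_punit' : Pf A (ModuleCat.of A PUnit.{u + 1}) := by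
  change Module.Finite A PUnit.{u + 1}
  infer_instance

omit J in
theorem isZero_punit : Limits.IsZero (ModuleCat.of A PUnit.{u + 1}) :=
  ModuleCat.isZero_of_subsingleton _

/-- a finitely generated module killed by `J`, where `A ⧸ J` is a principal ideal domain,
has class a multiple of `[A ⧸ J]` -/
theorem killed_mem [IsDomain (A ⧸ J)] [IsPrincipalIdealRing (A ⧸ J)]
    (M : Type u) [AddCommGroup M] [Module A M] [Module.Finite A M]
    (hM : ∀ a ∈ J, ∀ m : M, a • m = 0) :
    ∃ k : ℤ, clSub (Pf A) (ModuleCat.of A M) = k • clSub (Pf A) (ModuleCat.of A (A ⧸ J)) := by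
  have hT : Module.IsTorsionBySet A M J := fun m a => hM a.1 a.2 m
  letI : Module (A ⧸ J) M := hT.module
  have : IsScalarTower A (A ⧸ J) M := inferInstance
  have hfin : Module.Finite (A ⧸ J) M := Module.Finite.of_restrictScalars_finite A (A ⧸ J) M
  obtain ⟨n, s, hs⟩ := Module.Finite.exists_fin (R := A ⧸ J) (M := M)
  obtain ⟨k, hk⟩ := gen_mem (A ⧸ J) n M s hs
  refine ⟨k, ?_⟩
  have h1 := congrArg (resHom J) hk
  rw [map_zsmul, resHom_cl J _ hfin, resHom_cl J _ (pf_self (A ⧸ J))] at h1
  -- identify the restricted modules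
  have e1 : (ModuleCat.restrictScalars (Ideal.Quotient.mk J)).obj (ModuleCat.of (A ⧸ J) M) ≅
      ModuleCat.of A M :=
    LinearEquiv.toModuleIso
      { toFun := fun m => m
        invFun := fun m => m
        map_add' := fun _ _ => rfl
        map_smul' := fun a m => hT.mk_smul a m
        left_inv := fun _ => rfl
        right_inv := fun _ => rfl }
  have e2 : (ModuleCat.restrictScalars (Ideal.Quotient.mk J)).obj (ModuleCat.of (A ⧸ J) (A ⧸ J)) ≅
      ModuleCat.of A (A ⧸ J) :=
    LinearEquiv.toModuleIso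
      { toFun := fun m => m
        invFun := fun m => m
        map_add' := fun _ _ => rfl
        map_smul' := fun a m => rfl
        left_inv := fun _ => rfl
        right_inv := fun _ => rfl }
  have hM' : Pf A (ModuleCat.of A M) := ‹Module.Finite A M›
  have hQ : Pf A (ModuleCat.of A (A ⧸ J)) := by
    change Module.Finite A (A ⧸ J)
    infer_instance
  rw [Groth.Agent.H16.K0Res.clSub_iso (Pf A) e1 isZero_punit pf_punit' (pf_restrict J _ hfin) hM',
    Groth.Agent.H16.K0Res.clSub_iso (Pf A) e2 isZero_punit pf_punit'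
      (pf_restrict J _ (pf_self (A ⧸ J))) hQ] at h1
  exact h1

end Res

section Main

variable {A : Type u} [CommRing A] [IsNoetherianRing A] (t₁ t₂ : A)

theorem surj_aux [IsDomain (A ⧸ Ideal.span {t₁})] [IsPrincipalIdealRing (A ⧸ Ideal.span {t₁})]
    [IsDomain (A ⧸ Ideal.span {t₂})] [IsPrincipalIdealRing (A ⧸ Ideal.span {t₂})]
    (h12 : t₁ * t₂ = 0)
    (M : Type u) [AddCommGroup M] [Module A M] [Module.Finite A M] :
    ∃ a b : ℤ, clSub (Pf A) (ModuleCat.of A M) =
      a • clSub (Pf A) (ModuleCat.of A (A ⧸ Ideal.span {t₁})) +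
        b • clSub (Pf A) (ModuleCat.of A (A ⧸ Ideal.span {t₂})) := by
  let φ : M →ₗ[A] M := LinearMap.lsmul A M t₁
  let N : Submodule A M := LinearMap.range φ
  have hN : Module.Finite A N := inferInstance
  have hQ : Module.Finite A (M ⧸ N) := inferInstance
  have h1 := clSub_module_exact (Pf A) N.subtype N.mkQ (Submodule.injective_subtype _)
    (Submodule.mkQ_surjective N) (LinearMap.exact_subtype_mkQ N) hN ‹Module.Finite A M› hQ
  obtain ⟨b, hb⟩ := killed_mem (Ideal.span {t₂}) N (by
    intro a ha n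
    rw [Ideal.mem_span_singleton] at ha
    obtain ⟨c, rfl⟩ := ha
    obtain ⟨n, m, rfl⟩ := n
    apply Subtype.ext
    change (t₂ * c) • (t₁ • m) = 0
    rw [smul_smul, mul_comm t₂ c, mul_assoc, mul_comm t₂ t₁, h12, mul_zero, zero_smul])
  obtain ⟨a, ha⟩ := killed_mem (Ideal.span {t₁}) (M ⧸ N) (by
    intro a ha q
    rw [Ideal.mem_span_singleton] at ha
    obtain ⟨c, rfl⟩ := ha
    obtain ⟨m, rfl⟩ := Submodule.mkQ_surjective N q
    rw [← map_smul, Submodule.mkQ_apply, Submodule.Quotient.mk_eq_zero]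
    exact ⟨c • m, by change t₁ • c • m = _; rw [smul_smul]⟩)
  exact ⟨a, b, by rw [h1, ha, hb, add_comm]⟩

theorem bijective_of_branches
    [IsDomain (A ⧸ Ideal.span {t₁})] [IsPrincipalIdealRing (A ⧸ Ideal.span {t₁})]
    [IsDomain (A ⧸ Ideal.span {t₂})] [IsPrincipalIdealRing (A ⧸ Ideal.span {t₂})]
    (h12 : t₁ * t₂ = 0) (h2 : t₂ ∉ Ideal.span {t₁}) (h1 : t₁ ∉ Ideal.span {t₂}) :
    Function.Bijective (fun p : ℤ × ℤ =>
      p.1 • clSub (Pf A) (ModuleCat.of A (A ⧸ Ideal.span {t₁})) +
        p.2 • clSub (Pf A) (ModuleCat.of A (A ⧸ Ideal.span {t₂}))) := by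
  have hP₁ : (Ideal.span {t₁}).IsPrime := (Ideal.Quotient.isDomain_iff_prime _).mp inferInstance
  have hP₂ : (Ideal.span {t₂}).IsPrime := (Ideal.Quotient.isDomain_iff_prime _).mp inferInstance
  have hfl₁ := flat_fractionRing_quot t₁ t₂ h12 h2
  have hfl₂ := flat_fractionRing_quot t₂ t₁ (by rw [mul_comm]; exact h12) h1
  have hQ₁ : Pf A (ModuleCat.of A (A ⧸ Ideal.span {t₁})) := by
    change Module.Finite A (A ⧸ Ideal.span {t₁})
    infer_instance
  have hQ₂ : Pf A (ModuleCat.of A (A ⧸ Ideal.span {t₂})) := by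
    change Module.Finite A (A ⧸ Ideal.span {t₂})
    infer_instance
  -- values of the rank functions
  have key : ∀ (t s : A) [(Ideal.span {t}).IsPrime], s ∉ Ideal.span {t} →
      (Ideal.span {t}).map (algebraMap A (FractionRing (A ⧸ Ideal.span {t}))) = ⊥ ∧
      (Ideal.span {s}).map (algebraMap A (FractionRing (A ⧸ Ideal.span {t}))) = ⊤ := by
    intro t s _ hs
    have hmap : ∀ a : A, algebraMap A (FractionRing (A ⧸ Ideal.span {t})) a =
        algebraMap (A ⧸ Ideal.span {t}) (FractionRing (A ⧸ Ideal.span {t}))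
          (Ideal.Quotient.mk _ a) := fun a =>
      IsScalarTower.algebraMap_apply A (A ⧸ Ideal.span {t}) (FractionRing (A ⧸ Ideal.span {t})) a
    constructor
    · rw [Ideal.map_span, Set.image_singleton, hmap,
        Ideal.Quotient.eq_zero_iff_mem.mpr (Ideal.mem_span_singleton_self t), map_zero]
      simp
    · rw [Ideal.map_span, Set.image_singleton, hmap, Ideal.span_singleton_eq_top]
      apply IsUnit.mk0
      intro h0
      rw [← map_zero (algebraMap (A ⧸ Ideal.span {t}) (FractionRing (A ⧸ Ideal.span {t})))] at h0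
      have := IsFractionRing.injective _ _ h0
      rw [Ideal.Quotient.eq_zero_iff_mem] at this
      exact hs this
  constructor
  · rintro ⟨a, b⟩ ⟨a', b'⟩ h
    simp only at h
    have e₁ := congrArg (rkK (FractionRing (A ⧸ Ideal.span {t₁}))) h
    have e₂ := congrArg (rkK (FractionRing (A ⧸ Ideal.span {t₂}))) h
    simp only [map_add, map_zsmul] at e₁ e₂
    rw [rkK_cl _ _ hQ₁, rkK_cl _ _ hQ₂] at e₁ e₂
    change a • ((Module.finrank _ (_ ⊗[A] (A ⧸ Ideal.span {t₁})) : ℕ) : ℤ) +
      b • ((Module.finrank _ (_ ⊗[A] (A ⧸ Ideal.span {t₂})) : ℕ) : ℤ) =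
      a' • ((Module.finrank _ (_ ⊗[A] (A ⧸ Ideal.span {t₁})) : ℕ) : ℤ) +
      b' • ((Module.finrank _ (_ ⊗[A] (A ⧸ Ideal.span {t₂})) : ℕ) : ℤ) at e₁ e₂
    rw [finrank_tensor_quot_of_map_eq_bot _ _ (key t₁ t₂ h2).1,
      finrank_tensor_quot_of_map_eq_top _ _ (key t₁ t₂ h2).2] at e₁
    rw [finrank_tensor_quot_of_map_eq_bot _ _ (key t₂ t₁ h1).1,
      finrank_tensor_quot_of_map_eq_top _ _ (key t₂ t₁ h1).2] at e₂
    simp at e₁ e₂
    rw [e₁, e₂]
  · intro x
    induction x using induction_on (Pf A) with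
    | h0 => exact ⟨(0, 0), by simp⟩
    | hcl M hM =>
      have hM' : Module.Finite A M := hM
      obtain ⟨a, b, hab⟩ := surj_aux t₁ t₂ h12 M
      exact ⟨(a, b), hab.symm⟩
    | hneg x hx =>
      obtain ⟨⟨a, b⟩, hk⟩ := hx
      refine ⟨(-a, -b), ?_⟩
      simp only at hk ⊢
      rw [← hk, neg_smul, neg_smul, neg_add]
    | hadd x y hx hy =>
      obtain ⟨⟨a, b⟩, hk⟩ := hx
      obtain ⟨⟨a', b'⟩, hk'⟩ := hy
      refine ⟨(a + a', b + b'), ?_⟩
      simp only at hk hk' ⊢
      rw [← hk, ← hk', add_smul, add_smul]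
      abel

end Main

end Groth.Agent.H16.NodeK0
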