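import Groth.Prelude.Def_KZero
import Groth.Agent.H16.K0Res1
import Groth.Agent.H16.K0DerB
import Groth.Agent.H16.AcycSplit
import Mathlib.Algebra.Homology.HomotopyCategory.MappingCone
import Mathlib.Algebra.Homology.ShortComplex.ShortExact
import Mathlib.Tactic

/-!
# `K₀` of a class of projective objects vs `K₀` of perfect complexes (part A)

Euler characteristic `χ(E) = Σ (-1)^i [E^i]` of a bounded complex with terms in a class `P`
of projective objects; additivity on mapping cones and vanishing on contractible complexes.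
-/

set_option autoImplicit false
universe w v u
open CategoryTheory CategoryTheory.Limits KZero
open Groth.Agent.H16.K0Res

namespace Groth.Agent.H16.PerfK0

variable {C : Type u} [Category.{v} C] [Abelian C] (P : ObjectProperty C)

/-- the closure properties of the class of "finite projective" objects which are used -/
structure ProjClass : Prop where
  iso : ∀ {X Y : C} (_ : X ≅ Y), P X → P Y
  zero : ∀ X : C, IsZero X → P X
  biprod : ∀ X Y : C, P X → P Y → P (X ⊞ Y)
  retract : ∀ (X Y : C) (i : X ⟶ Y) (r : Y ⟶ X), i ≫ r = 𝟙 X → P Y → P X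
  proj : ∀ X : C, P X → Projective X

/-- the complex vanishes outside `[a, b]` -/
def Bdd (E : CochainComplex C ℤ) (a b : ℤ) : Prop := ∀ i : ℤ, (i < a ∨ b < i) → IsZero (E.X i)

/-- strictly perfect complexes: bounded with terms in `P` -/
def SPerf (E : CochainComplex C ℤ) : Prop := (∃ a b : ℤ, Bdd E a b) ∧ ∀ i : ℤ, P (E.X i)

/-- the `i`-th term of the Euler characteristic -/
noncomputable def chiTerm (E : CochainComplex C ℤ) (i : ℤ) : K0sub P :=
  ((i.negOnePow : ℤˣ) : ℤ) • clSub P (E.X i)

/-- Euler characteristic `Σ (-1)^i [E^i]` -/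
noncomputable def chiCx (E : CochainComplex C ℤ) : K0sub P := ∑ᶠ i : ℤ, chiTerm P E i

variable {P}

theorem ProjClass.clSub_isZero (hP : ProjClass P) {Z : C} (hZ : IsZero Z) : clSub P Z = 0 :=
  K0Res.clSub_isZero P hZ (hP.zero Z hZ)

theorem chiTerm_eq_zero (hP : ProjClass P) (E : CochainComplex C ℤ) (i : ℤ)
    (h : IsZero (E.X i)) : chiTerm P E i = 0 := by
  unfold chiTerm
  rw [hP.clSub_isZero h, smul_zero]

theorem chiTerm_hasFiniteSupport (hP : ProjClass P) (E : CochainComplex C ℤ) (a b : ℤ)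
    (hE : Bdd E a b) : Function.HasFiniteSupport (chiTerm P E) :=
  K0Der.hasFiniteSupport_of_bounded _ a b (fun i hi => chiTerm_eq_zero hP E i (hE i hi))

theorem chiCx_eq_sum (hP : ProjClass P) (E : CochainComplex C ℤ) (a b : ℤ) (hE : Bdd E a b) :
    chiCx P E = ∑ i ∈ Finset.Icc a b, ((i.negOnePow : ℤˣ) : ℤ) • clSub P (E.X i) := by
  unfold chiCx
  apply finsum_eq_sum_of_support_subset
  intro i hi
  rw [Function.mem_support] at hi
  rw [Finset.coe_Icc, Set.mem_Icc]
  by_contra hc
  apply hi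
  apply chiTerm_eq_zero hP
  apply hE
  by_cases h1 : i < a
  · exact Or.inl h1
  · right
    by_contra h2
    exact hc ⟨not_lt.mp h1, not_lt.mp h2⟩

/-- class of the middle term of a split short exact sequence -/
theorem clSub_of_splitting (S : ShortComplex C) (s : S.Splitting) (h₁ : P S.X₁) (h₂ : P S.X₂)
    (h₃ : P S.X₃) : clSub P S.X₂ = clSub P S.X₁ + clSub P S.X₃ :=
  K0Res.clSub_ses P S s.shortExact h₁ h₂ h₃

section Cone

open CochainComplex HomComplex

variable {F G : CochainComplex C ℤ} (φ : F ⟶ G)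

/-- the degreewise split short exact sequence `G^i → cone^i → F^{i+1}` -/
noncomputable def coneSC (i : ℤ) : ShortComplex C :=
  ShortComplex.mk ((mappingCone.inr φ).f i) ((mappingCone.fst φ).1.v i (i + 1) rfl)
    (mappingCone.inr_f_fst_v φ i (i + 1) rfl)

/-- the splitting of `coneSC` -/
noncomputable def coneSplitting (i : ℤ) : (coneSC φ i).Splitting where
  r := (mappingCone.snd φ).v i i (add_zero i)
  s := (mappingCone.inl φ).v (i + 1) i (by lia)
  f_r := mappingCone.inr_f_snd_v φ i
  s_g := mappingCone.inl_v_fst_v φ (i + 1) i rfl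
  id := by
    rw [add_comm]
    exact mappingCone.id_X φ i (i + 1) rfl

theorem prop_cone_X (hP : ProjClass P) (hF : ∀ i, P (F.X i)) (hG : ∀ i, P (G.X i)) (i : ℤ) :
    P ((mappingCone φ).X i) := by
  exact hP.iso (HomologicalComplex.homotopyCofiber.XIsoBiprod φ i (i + 1) rfl).symm
    (hP.biprod _ _ (hF (i + 1)) (hG i))

theorem bdd_cone {a b a' b' : ℤ} (hF : Bdd F a b) (hG : Bdd G a' b') :
    Bdd (mappingCone φ) (min (a - 1) a') (max b b') := by
  intro i hi
  rw [mappingCone.isZero_X_iff]
  constructor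
  · apply hF
    rcases hi with hi | hi
    · left
      have := lt_of_lt_of_le hi (min_le_left _ _)
      lia
    · right
      have := lt_of_le_of_lt (le_max_left b b') hi
      lia
  · apply hG
    rcases hi with hi | hi
    · left
      exact lt_of_lt_of_le hi (min_le_right _ _)
    · right
      exact lt_of_le_of_lt (le_max_right b b') hi

theorem sPerf_cone (hP : ProjClass P) (hF : SPerf P F) (hG : SPerf P G) :
    SPerf P (mappingCone φ) := by
  obtain ⟨⟨a, b, hab⟩, hF'⟩ := hF
  obtain ⟨⟨a', b', hab'⟩, hG'⟩ := hG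
  exact ⟨⟨_, _, bdd_cone φ hab hab'⟩, prop_cone_X φ hP hF' hG'⟩

theorem chiCx_cone (hP : ProjClass P) (hF : SPerf P F) (hG : SPerf P G) :
    chiCx P (mappingCone φ) = chiCx P G - chiCx P F := by
  obtain ⟨⟨a, b, hab⟩, hF'⟩ := hF
  obtain ⟨⟨a', b', hab'⟩, hG'⟩ := hG
  have key : ∀ i : ℤ, chiTerm P (mappingCone φ) i = chiTerm P G i - chiTerm P F (i + 1) := by
    intro i
    unfold chiTerm
    have h := clSub_of_splitting (coneSC φ i) (coneSplitting φ i) (hG' i)
      (prop_cone_X φ hP hF' hG' i) (hF' (i + 1))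
    change clSub P ((mappingCone φ).X i) = clSub P (G.X i) + clSub P (F.X (i + 1)) at h
    rw [h, Int.negOnePow_succ, Units.val_neg, neg_smul, smul_add]
    abel
  have hG0 := chiTerm_hasFiniteSupport hP G a' b' hab'
  have hF0 := chiTerm_hasFiniteSupport hP F a b hab
  have hF1 : Function.HasFiniteSupport (fun i => chiTerm P F (i + 1)) := by
    apply K0Der.hasFiniteSupport_of_bounded _ (a - 1) (b - 1)
    intro i hi
    apply chiTerm_eq_zero hP
    apply hab
    rcases hi with hi | hi
    · left; lia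
    · right; lia
  unfold chiCx
  have e1 : (∑ᶠ i : ℤ, chiTerm P (mappingCone φ) i) =
      ∑ᶠ i : ℤ, (chiTerm P G i - chiTerm P F (i + 1)) := by
    congr 1
    funext i
    exact key i
  have e2 : (∑ᶠ i : ℤ, chiTerm P F (i + 1)) = ∑ᶠ i : ℤ, chiTerm P F i :=
    finsum_comp_equiv (Equiv.addRight (1 : ℤ)) (f := chiTerm P F)
  rw [e1, finsum_sub_distrib hG0 hF1, e2]

end Cone

section Contractible

/-- a contractible strictly perfect complex has trivial Euler characteristic -/
theorem chiCx_of_homotopy_zero (hP : ProjClass P) (E : CochainComplex C ℤ) (hE : SPerf P E)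
    (s : Homotopy (𝟙 E) 0) : chiCx P E = 0 := by
  obtain ⟨⟨a, b, hab⟩, hE'⟩ := hE
  obtain ⟨Z, ι, p, q, t, h1, h2, h3, h4, h5, _⟩ := AcycSplit.exists_split_data E s
  have hZ : ∀ i, P (Z i) := fun i => hP.retract _ _ (ι i) (p i) (h1 i) (hE' i)
  have hZ0 : ∀ i, IsZero (E.X i) → IsZero (Z i) := by
    intro i hi
    rw [IsZero.iff_id_eq_zero, ← h1 i, hi.eq_of_tgt (ι i) 0, zero_comp]
  let S : ∀ i : ℤ, ShortComplex C := fun i => ShortComplex.mk (ι i) (q i) (h2 i)
  let sp : ∀ i : ℤ, (S i).Splitting := fun i =>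
    { r := p i
      s := t i
      f_r := h1 i
      s_g := h4 i
      id := h5 i }
  let g : ℤ → K0sub P := fun i => ((i.negOnePow : ℤˣ) : ℤ) • clSub P (Z i)
  have hg0 : ∀ i : ℤ, (i < a ∨ b < i) → g i = 0 := by
    intro i hi
    change ((i.negOnePow : ℤˣ) : ℤ) • clSub P (Z i) = 0
    rw [hP.clSub_isZero (hZ0 i (hab i hi)), smul_zero]
  have hg : Function.HasFiniteSupport g := K0Der.hasFiniteSupport_of_bounded g a b hg0
  have hg' : Function.HasFiniteSupport (fun n => g (n + 1)) := by
    apply K0Der.hasFiniteSupport_of_bounded _ (a - 1) (b - 1)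
    intro i hi
    apply hg0
    rcases hi with hi | hi
    · left; lia
    · right; lia
  have key : ∀ i : ℤ, chiTerm P E i = g i - g (i + 1) := by
    intro i
    have h := clSub_of_splitting (S i) (sp i) (hZ i) (hE' i) (hZ (i + 1))
    change clSub P (E.X i) = clSub P (Z i) + clSub P (Z (i + 1)) at h
    change ((i.negOnePow : ℤˣ) : ℤ) • clSub P (E.X i) =
      ((i.negOnePow : ℤˣ) : ℤ) • clSub P (Z i) -
        (((i + 1).negOnePow : ℤˣ) : ℤ) • clSub P (Z (i + 1))
    rw [h, Int.negOnePow_succ, Units.val_neg, neg_smul, smul_add]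
    abel
  unfold chiCx
  have e1 : (∑ᶠ i : ℤ, chiTerm P E i) = ∑ᶠ i : ℤ, (g i - g (i + 1)) := by
    congr 1
    funext i
    exact key i
  have e2 : (∑ᶠ n : ℤ, g (n + 1)) = ∑ᶠ n : ℤ, g n :=
    finsum_comp_equiv (Equiv.addRight (1 : ℤ)) (f := g)
  rw [e1, finsum_sub_distrib hg hg', e2, sub_self]

end Contractible

end Groth.Agent.H16.PerfK0
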