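import Groth.Agent.H16.PerfK0A
import Mathlib.Algebra.Homology.DerivedCategory.KProjective
import Mathlib.Algebra.Homology.DerivedCategory.ShortExact
import Mathlib.Algebra.Homology.DerivedCategory.HomologySequence

/-!
# `K₀` of a class of projective objects vs `K₀` of perfect complexes (part B)

Isomorphic (in the derived category) strictly perfect complexes have the same Euler
characteristic; the Euler characteristic of perfect objects and its additivity on triangles.
-/

set_option autoImplicit false
universe w v u
open CategoryTheory CategoryTheory.Limits CategoryTheory.Pretriangulated KZero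
open Groth.Agent.H16.K0Res

namespace Groth.Agent.H16.PerfK0

open DerivedCategory CochainComplex

variable {C : Type u} [Category.{v} C] [Abelian C] [HasDerivedCategory.{w} C]
  {P : ObjectProperty C}

theorem isKProjective_of_sPerf (hP : ProjClass P) (E : CochainComplex C ℤ) (hE : SPerf P E) :
    E.IsKProjective := by
  obtain ⟨⟨a, b, hab⟩, hE'⟩ := hE
  have : E.IsStrictlyLE b := by
    rw [CochainComplex.isStrictlyLE_iff]
    intro i hi
    exact hab i (Or.inr hi)
  have : ∀ n, Projective (E.X n) := fun n => hP.proj _ (hE' n)
  exact CochainComplex.isKProjective_of_projective E b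

/-- morphisms in the derived category out of a K-projective complex lift to chain maps -/
theorem exists_lift (E F : CochainComplex C ℤ) [E.IsKProjective] (φ : Q.obj E ⟶ Q.obj F) :
    ∃ f : E ⟶ F, Q.map f = φ := by
  let φ' : Qh.obj ((HomotopyCategory.quotient _ _).obj E) ⟶
      Qh.obj ((HomotopyCategory.quotient _ _).obj F) :=
    (quotientCompQhIso C).hom.app E ≫ φ ≫ (quotientCompQhIso C).inv.app F
  obtain ⟨g, hg⟩ := (CochainComplex.IsKProjective.Qh_map_bijective E
    ((HomotopyCategory.quotient _ _).obj F)).surjective φ'
  obtain ⟨f, rfl⟩ := (HomotopyCategory.quotient _ _).map_surjective g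
  refine ⟨f, ?_⟩
  have hn := (quotientCompQhIso C).hom.naturality f
  simp only [Functor.comp_map] at hn
  rw [hg] at hn
  -- hn : φ' ≫ iso.hom.app F = iso.hom.app E ≫ Q.map f
  have : (quotientCompQhIso C).hom.app E ≫ φ = (quotientCompQhIso C).hom.app E ≫ Q.map f := by
    rw [← hn]
    simp [φ']
  exact ((cancel_epi _).mp this).symm

theorem acyclic_of_isZero_Q (K : CochainComplex C ℤ) (h : IsZero (Q.obj K)) : K.Acyclic := by
  intro i
  rw [HomologicalComplex.exactAt_iff_isZero_homology]
  have h1 : IsZero ((homologyFunctor C i).obj (Q.obj K)) := (homologyFunctor C i).map_isZero h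
  exact IsZero.of_iso h1 ((homologyFunctorFactors C i).app K).symm

theorem chiCx_eq_of_iso (hP : ProjClass P) (E F : CochainComplex C ℤ) (hE : SPerf P E)
    (hF : SPerf P F) (e : Q.obj E ≅ Q.obj F) : chiCx P E = chiCx P F := by
  have := isKProjective_of_sPerf hP E hE
  obtain ⟨f, hf⟩ := exists_lift E F e.hom
  have hT := mappingCone_triangle_distinguished f
  have hiso : IsIso (Q.mapTriangle.obj (mappingCone.triangle f)).mor₁ := by
    change IsIso (Q.map f)
    rw [hf]
    infer_instance
  have hz : IsZero (Q.obj (mappingCone f)) :=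
    Triangle.isZero₃_of_isIso₁ _ hT hiso
  have hac := acyclic_of_isZero_Q _ hz
  have hcone := sPerf_cone f hP hE hF
  have := isKProjective_of_sPerf hP _ hcone
  obtain ⟨s⟩ := CochainComplex.IsKProjective.nonempty_homotopy_zero (𝟙 (mappingCone f)) hac
  have h0 := chiCx_of_homotopy_zero hP _ hcone s
  rw [chiCx_cone f hP hE hF] at h0
  exact (sub_eq_zero.mp h0).symm

end Groth.Agent.H16.PerfK0
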