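import Groth.Agent.H16.PerfK0B
import Groth.Agent.H16.K0DerA
import Mathlib.Algebra.Homology.HomologicalComplexLimits

/-!
# `K₀` of a class of projective objects vs `K₀` of perfect complexes (part C)

Perfect objects of the derived category, the Euler characteristic homomorphism
`ψ : K₀(Perf) → K₀(P)`, the homomorphism `φ : K₀(P) → K₀(Perf)` and `ψ ∘ φ = id`.
-/

set_option autoImplicit false
universe w v u
open CategoryTheory CategoryTheory.Limits CategoryTheory.Pretriangulated KZero ZeroObject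
open Groth.Agent.H16.K0Res

namespace Groth.Agent.H16.PerfK0

open DerivedCategory CochainComplex

variable {C : Type u} [Category.{v} C] [Abelian C] [HasDerivedCategory.{w} C]
  (P : ObjectProperty C)

/-- perfect objects: isomorphic to the image of a strictly perfect complex -/
def Perf : ObjectProperty (DerivedCategory C) := fun K =>
  ∃ E : CochainComplex C ℤ, SPerf P E ∧ Nonempty (Q.obj E ≅ K)

variable {P}

theorem perf_Q (E : CochainComplex C ℤ) (hE : SPerf P E) : Perf P (Q.obj E) :=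
  ⟨E, hE, ⟨Iso.refl _⟩⟩

theorem perf_of_iso {K L : DerivedCategory C} (e : K ≅ L) (hK : Perf P K) : Perf P L := by
  obtain ⟨E, hE, ⟨e'⟩⟩ := hK
  exact ⟨E, hE, ⟨e' ≪≫ e⟩⟩

theorem sPerf_of_isZero_X (hP : ProjClass P) (E : CochainComplex C ℤ) (h : ∀ i, IsZero (E.X i)) :
    SPerf P E :=
  ⟨⟨0, 0, fun i _ => h i⟩, fun i => hP.zero _ (h i)⟩

theorem isZero_of_isZero_X (E : CochainComplex C ℤ) (h : ∀ i, IsZero (E.X i)) : IsZero E := by
  rw [IsZero.iff_id_eq_zero]
  ext i
  exact (h i).eq_of_src _ _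

theorem perf_of_isZero (hP : ProjClass P) (K : DerivedCategory C) (hK : IsZero K) : Perf P K := by
  refine ⟨0, sPerf_of_isZero_X hP 0 (fun i => ?_), ⟨?_⟩⟩
  · exact (HomologicalComplex.eval C (ComplexShape.up ℤ) i).map_isZero (isZero_zero _)
  · exact (Q.map_isZero (isZero_zero _)).iso hK

theorem perf_zero (hP : ProjClass P) : Perf P (0 : DerivedCategory C) :=
  perf_of_isZero hP _ (isZero_zero _)

theorem sPerf_single (hP : ProjClass P) (n : ℤ) (M : C) (hM : P M) :
    SPerf P ((CochainComplex.singleFunctor C n).obj M) := by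
  refine ⟨⟨n, n, fun i hi => ?_⟩, fun i => ?_⟩
  · apply HomologicalComplex.isZero_single_obj_X
    rcases hi with hi | hi <;> lia
  · by_cases hi : i = n
    · subst hi
      exact hP.iso (HomologicalComplex.singleObjXSelf (ComplexShape.up ℤ) i M).symm hM
    · exact hP.zero _ (HomologicalComplex.isZero_single_obj_X _ _ _ _ hi)

theorem perf_single (hP : ProjClass P) (n : ℤ) (M : C) (hM : P M) :
    Perf P ((DerivedCategory.singleFunctor C n).obj M) :=
  perf_Q _ (sPerf_single hP n M hM)

/-- a chosen strictly perfect representative -/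
noncomputable def rep (K : DerivedCategory C) (hK : Perf P K) : CochainComplex C ℤ := hK.choose

theorem rep_sPerf (K : DerivedCategory C) (hK : Perf P K) : SPerf P (rep K hK) :=
  hK.choose_spec.1

/-- the chosen representative represents -/
noncomputable def repIso (K : DerivedCategory C) (hK : Perf P K) : Q.obj (rep K hK) ≅ K :=
  hK.choose_spec.2.some

/-- Euler characteristic of a perfect object -/
noncomputable def chiD (K : Subtype (Perf P)) : K0sub P := chiCx P (rep K.1 K.2)

theorem chiD_eq (hP : ProjClass P) (K : DerivedCategory C) (hK : Perf P K)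
    (E : CochainComplex C ℤ) (hE : SPerf P E) (e : Q.obj E ≅ K) :
    chiD ⟨K, hK⟩ = chiCx P E :=
  chiCx_eq_of_iso hP _ _ (rep_sPerf K hK) hE (repIso K hK ≪≫ e.symm)

theorem chiD_rel (hP : ProjClass P) (T : Triangle (DerivedCategory C))
    (hT : T ∈ distTriang (DerivedCategory C)) (h₁ : Perf P T.obj₁) (h₂ : Perf P T.obj₂)
    (h₃ : Perf P T.obj₃) : chiD ⟨T.obj₂, h₂⟩ = chiD ⟨T.obj₁, h₁⟩ + chiD ⟨T.obj₃, h₃⟩ := by
  let E₁ := rep T.obj₁ h₁
  let E₂ := rep T.obj₂ h₂
  have hE₁ : SPerf P E₁ := rep_sPerf _ _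
  have hE₂ : SPerf P E₂ := rep_sPerf _ _
  let e₁ : Q.obj E₁ ≅ T.obj₁ := repIso _ _
  let e₂ : Q.obj E₂ ≅ T.obj₂ := repIso _ _
  have := isKProjective_of_sPerf hP E₁ hE₁
  obtain ⟨f, hf⟩ := exists_lift E₁ E₂ (e₁.hom ≫ T.mor₁ ≫ e₂.inv)
  have hT' := mappingCone_triangle_distinguished f
  have comm : (Q.mapTriangle.obj (mappingCone.triangle f)).mor₁ ≫ e₂.hom = e₁.hom ≫ T.mor₁ := by
    change Q.map f ≫ e₂.hom = _
    rw [hf]
    simp
  let eT := isoTriangleOfIso₁₂ _ _ hT' hT e₁ e₂ comm
  let e₃ : Q.obj (mappingCone f) ≅ T.obj₃ := Triangle.π₃.mapIso eT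
  rw [chiD_eq hP T.obj₁ h₁ E₁ hE₁ e₁, chiD_eq hP T.obj₂ h₂ E₂ hE₂ e₂,
    chiD_eq hP T.obj₃ h₃ _ (sPerf_cone f hP hE₁ hE₂) e₃, chiCx_cone f hP hE₁ hE₂]
  abel

/-- the Euler characteristic homomorphism `K₀(Perf) → K₀(P)` -/
noncomputable def psi (hP : ProjClass P) : K0tr (Perf P) →+ K0sub P :=
  QuotientAddGroup.lift (relTr (Perf P))
    (FreeAbelianGroup.lift (fun K : Subtype (Perf P) => chiD K)) (by
      unfold relTr
      rw [AddSubgroup.closure_le]
      rintro x ⟨T, h₁, h₂, h₃, hT, rfl⟩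
      rw [SetLike.mem_coe, AddMonoidHom.mem_ker]
      simp only [map_sub, FreeAbelianGroup.lift_apply_of]
      rw [chiD_rel hP T hT h₁ h₂ h₃]
      abel)

theorem psi_clTr (hP : ProjClass P) (K : DerivedCategory C) (hK : Perf P K) :
    psi hP (clTr (Perf P) K) = chiD ⟨K, hK⟩ := by
  rw [K0Der.clTr_eq (Perf P) hK]
  unfold psi
  rw [QuotientAddGroup.lift_mk, FreeAbelianGroup.lift_apply_of]

theorem psi_clTr_Q (hP : ProjClass P) (E : CochainComplex C ℤ) (hE : SPerf P E) :
    psi hP (clTr (Perf P) (Q.obj E)) = chiCx P E := by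
  rw [psi_clTr hP _ (perf_Q E hE), chiD_eq hP _ _ E hE (Iso.refl _)]

/-- the homomorphism `K₀(P) → K₀(Perf)`, `[X] ↦ [X[0]]` -/
noncomputable def phi (hP : ProjClass P) : K0sub P →+ K0tr (Perf P) :=
  QuotientAddGroup.lift (relSub P)
    (FreeAbelianGroup.lift
      (fun X : Subtype P => clTr (Perf P) ((DerivedCategory.singleFunctor C 0).obj X.1))) (by
      unfold relSub
      rw [AddSubgroup.closure_le]
      rintro x ⟨S, h₁, h₂, h₃, hS, rfl⟩
      rw [SetLike.mem_coe, AddMonoidHom.mem_ker]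
      simp only [map_sub, FreeAbelianGroup.lift_apply_of]
      have := K0Der.clTr_rel (Perf P) _ hS.singleTriangle_distinguished (perf_single hP 0 _ h₁)
        (perf_single hP 0 _ h₂) (perf_single hP 0 _ h₃)
      simp only [ShortComplex.ShortExact.singleTriangle_obj₁,
        ShortComplex.ShortExact.singleTriangle_obj₂,
        ShortComplex.ShortExact.singleTriangle_obj₃] at this
      rw [this]
      abel)

theorem phi_clSub (hP : ProjClass P) {X : C} (hX : P X) :
    phi hP (clSub P X) = clTr (Perf P) ((DerivedCategory.singleFunctor C 0).obj X) := by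
  rw [K0Res.clSub_eq P hX]
  unfold phi
  rw [QuotientAddGroup.lift_mk, FreeAbelianGroup.lift_apply_of]

theorem chiCx_single (hP : ProjClass P) (M : C) (hM : P M) :
    chiCx P ((CochainComplex.singleFunctor C 0).obj M) = clSub P M := by
  rw [chiCx_eq_sum hP _ 0 0 (fun i hi => by
    apply HomologicalComplex.isZero_single_obj_X
    rcases hi with hi | hi <;> lia)]
  rw [Finset.Icc_self, Finset.sum_singleton, Int.negOnePow_zero, Units.val_one, one_smul]
  have hz : IsZero (0 : C) := isZero_zero C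
  exact K0Res.clSub_iso P (HomologicalComplex.singleObjXSelf (ComplexShape.up ℤ) 0 M) hz
    (hP.zero _ hz) (hP.iso (HomologicalComplex.singleObjXSelf (ComplexShape.up ℤ) 0 M).symm hM) hM

omit [HasDerivedCategory.{w} C] in
/-- homomorphisms out of `K0sub` agreeing on classes are equal -/
theorem k0sub_hom_ext {G : Type*} [AddCommGroup G] (f g : K0sub P →+ G)
    (h : ∀ (X : C) (_ : P X), f (clSub P X) = g (clSub P X)) : f = g := by
  apply QuotientAddGroup.addMonoidHom_ext
  apply FreeAbelianGroup.lift_ext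
  rintro ⟨X, hX⟩
  have := h X hX
  rw [K0Res.clSub_eq P hX] at this
  exact this

theorem psi_phi (hP : ProjClass P) (x : K0sub P) : psi hP (phi hP x) = x := by
  have : (psi hP).comp (phi hP) = AddMonoidHom.id _ := by
    apply k0sub_hom_ext
    intro X hX
    rw [AddMonoidHom.comp_apply, phi_clSub hP hX, AddMonoidHom.id_apply]
    exact (psi_clTr_Q hP _ (sPerf_single hP 0 X hX)).trans (chiCx_single hP X hX)
  exact DFunLike.congr_fun this x

end Groth.Agent.H16.PerfK0
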