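import Groth.Agent.H16.PerfK0C

/-!
# `K₀` of a class of projective objects vs `K₀` of perfect complexes (part D)

Surjectivity of `φ : K₀(P) → K₀(Perf)` by peeling off the top term of a strictly perfect complex,
and the resulting isomorphism.
-/

set_option autoImplicit false
universe w v u
open CategoryTheory CategoryTheory.Limits CategoryTheory.Pretriangulated KZero ZeroObject
open Groth.Agent.H16.K0Res

namespace Groth.Agent.H16.PerfK0

open DerivedCategory CochainComplex

variable {C : Type u} [Category.{v} C] [Abelian C] [HasDerivedCategory.{w} C]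
  {P : ObjectProperty C}

/-- `[Y[-m-1]] = -[Y[-m]]` -/
theorem clTr_single_succ (hP : ProjClass P) (m : ℤ) (Y : C) (hY : P Y) :
    clTr (Perf P) ((DerivedCategory.singleFunctor C (m + 1)).obj Y) =
      - clTr (Perf P) ((DerivedCategory.singleFunctor C m).obj Y) := by
  have e : ((DerivedCategory.singleFunctor C (m + 1)).obj Y)⟦(1 : ℤ)⟧ ≅
      (DerivedCategory.singleFunctor C m).obj Y :=
    ((DerivedCategory.singleFunctors C).shiftIso 1 m (m + 1) (by lia)).app Y
  have hQ1 : Perf P (((DerivedCategory.singleFunctor C (m + 1)).obj Y)⟦(1 : ℤ)⟧) :=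
    perf_of_iso e.symm (perf_single hP m Y hY)
  have h1 := K0Der.clTr_shift_one (Perf P) (perf_zero hP) _ (perf_single hP (m + 1) Y hY) hQ1
  have h2 := K0Der.clTr_iso (Perf P) (perf_zero hP) e hQ1 (perf_single hP m Y hY)
  rw [← h2, h1, neg_neg]

theorem clTr_single (hP : ProjClass P) (m : ℤ) (Y : C) (hY : P Y) :
    clTr (Perf P) ((DerivedCategory.singleFunctor C m).obj Y) =
      ((m.negOnePow : ℤˣ) : ℤ) • clTr (Perf P) ((DerivedCategory.singleFunctor C 0).obj Y) := by
  induction m using Int.induction_on with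
  | zero => rw [Int.negOnePow_zero, Units.val_one, one_smul]
  | succ i ih =>
    rw [clTr_single_succ hP _ Y hY, ih, Int.negOnePow_succ, Units.val_neg, neg_smul]
  | pred i ih =>
    have h := clTr_single_succ hP (-(i : ℤ) - 1) Y hY
    rw [sub_add_cancel] at h
    rw [h] at ih
    have h3 : ((-(i : ℤ) - 1).negOnePow : ℤˣ) = - (-(i : ℤ)).negOnePow := by
      have := Int.negOnePow_succ (-(i : ℤ) - 1)
      rw [sub_add_cancel] at this
      rw [this, neg_neg]
    rw [h3, Units.val_neg, neg_smul, ← ih, neg_neg]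

theorem clTr_of_isZero (hP : ProjClass P) (K : DerivedCategory C) (hK : IsZero K) :
    clTr (Perf P) K = 0 := by
  rw [K0Der.clTr_iso (Perf P) (perf_zero hP) hK.isoZero (perf_of_isZero hP K hK) (perf_zero hP),
    K0Der.clTr_zero (Perf P) (perf_zero hP)]

/-- peeling off the top term -/
theorem clTr_Q_step (hP : ProjClass P) (E : CochainComplex C ℤ) (a b : ℤ) (hab : Bdd E a b)
    (hE : ∀ i, P (E.X i)) :
    ∃ T : CochainComplex C ℤ, Bdd T a (b - 1) ∧ (∀ i, P (T.X i)) ∧
      clTr (Perf P) (Q.obj E) =
        clTr (Perf P) ((DerivedCategory.singleFunctor C b).obj (E.X b)) +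
          clTr (Perf P) (Q.obj T) := by
  let ι : (HomologicalComplex.single C (ComplexShape.up ℤ) b).obj (E.X b) ⟶ E :=
    HomologicalComplex.mkHomFromSingle (𝟙 (E.X b)) (fun k hk => by
      have hk' : b + 1 = k := hk
      exact (hab k (Or.inr (by lia))).eq_of_tgt _ _)
  have hιb : IsIso (ι.f b) := by
    have : ι.f b = (HomologicalComplex.singleObjXSelf (ComplexShape.up ℤ) b (E.X b)).hom ≫ 𝟙 _ :=
      HomologicalComplex.mkHomFromSingle_f _ _
    rw [this]
    infer_instance
  have hsrc : ∀ i, i ≠ b →
      IsZero (((HomologicalComplex.single C (ComplexShape.up ℤ) b).obj (E.X b)).X i) :=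
    fun i hi => HomologicalComplex.isZero_single_obj_X _ _ _ _ hi
  have hmono : Mono ι := by
    apply HomologicalComplex.mono_of_mono_f
    intro i
    by_cases hi : i = b
    · subst hi
      infer_instance
    · exact ⟨fun g h _ => (hsrc i hi).eq_of_tgt g h⟩
  let S : ShortComplex (CochainComplex C ℤ) :=
    ShortComplex.mk ι (cokernel.π ι) (cokernel.condition ι)
  have hS : S.ShortExact := by
    have : Mono S.f := hmono
    have : Epi S.g := by change Epi (cokernel.π ι); infer_instance
    exact ShortComplex.ShortExact.mk' (ShortComplex.exact_cokernel ι) inferInstance inferInstance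
  have hSi : ∀ i : ℤ, (S.map (HomologicalComplex.eval C (ComplexShape.up ℤ) i)).ShortExact :=
    fun i => hS.map_of_exact _
  -- the terms of the cokernel
  have hT1 : ∀ i, i ≠ b → IsIso ((cokernel.π ι).f i) := by
    intro i hi
    have hm : Mono ((cokernel.π ι).f i) :=
      (hSi i).exact.mono_g ((hsrc i hi).eq_of_src _ _)
    have he : Epi ((cokernel.π ι).f i) := (hSi i).epi_g
    exact isIso_of_mono_of_epi _
  have hT2 : IsZero ((cokernel ι).X b) := by
    have he : Epi ((cokernel.π ι).f b) := (hSi b).epi_g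
    have h0 : (cokernel.π ι).f b = 0 := by
      have hz : ι.f b ≫ (cokernel.π ι).f b = 0 := by
        rw [← HomologicalComplex.comp_f, cokernel.condition, HomologicalComplex.zero_f]
      exact (cancel_epi (ι.f b)).mp (hz.trans comp_zero.symm)
    exact IsZero.of_epi_eq_zero _ h0
  refine ⟨cokernel ι, ?_, ?_, ?_⟩
  · intro i hi
    by_cases hib : i = b
    · subst hib
      exact hT2
    · have := hT1 i hib
      refine IsZero.of_iso (hab i ?_) (asIso ((cokernel.π ι).f i)).symm
      rcases hi with hi | hi
      · exact Or.inl hi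
      · right
        lia
  · intro i
    by_cases hib : i = b
    · subst hib
      exact hP.zero _ hT2
    · have := hT1 i hib
      exact hP.iso (asIso ((cokernel.π ι).f i)) (hE i)
  · have hPT : SPerf P (cokernel ι) := by
      refine ⟨⟨a, b, ?_⟩, ?_⟩
      · intro i hi
        by_cases hib : i = b
        · subst hib
          exact hT2
        · have := hT1 i hib
          exact IsZero.of_iso (hab i hi) (asIso ((cokernel.π ι).f i)).symm
      · intro i
        by_cases hib : i = b
        · subst hib
          exact hP.zero _ hT2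
        · have := hT1 i hib
          exact hP.iso (asIso ((cokernel.π ι).f i)) (hE i)
    have hrel := K0Der.clTr_rel (Perf P) _ (triangleOfSES_distinguished hS)
      (perf_single hP b (E.X b) (hE b)) (perf_Q E ⟨⟨a, b, hab⟩, hE⟩) (perf_Q _ hPT)
    exact hrel

theorem clTr_Q_mem_range (hP : ProjClass P) (n : ℕ) : ∀ (E : CochainComplex C ℤ) (a b : ℤ),
    Bdd E a b → (∀ i, P (E.X i)) → b - a < n → clTr (Perf P) (Q.obj E) ∈ (phi hP).range := by
  induction n with
  | zero =>
    intro E a b hab hE hn
    have hz : IsZero E := isZero_of_isZero_X E (fun i => hab i (by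
      have : b - a < 0 := by exact_mod_cast hn
      lia))
    rw [clTr_of_isZero hP _ (Q.map_isZero hz)]
    exact zero_mem _
  | succ n ih =>
    intro E a b hab hE hn
    obtain ⟨T, hT, hTP, hrel⟩ := clTr_Q_step hP E a b hab hE
    rw [hrel]
    apply add_mem
    · rw [clTr_single hP b _ (hE b), ← phi_clSub hP (hE b)]
      exact zsmul_mem (AddMonoidHom.mem_range.mpr ⟨_, rfl⟩) _
    · exact ih T a (b - 1) hT hTP (by push_cast at hn; lia)

theorem phi_surjective (hP : ProjClass P) : Function.Surjective (phi hP) := by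
  intro x
  induction x using QuotientAddGroup.induction_on with
  | H z =>
    induction z using FreeAbelianGroup.induction_on with
    | zero => exact ⟨0, map_zero _⟩
    | of K =>
      obtain ⟨E, ⟨⟨a, b, hab⟩, hE⟩, ⟨e⟩⟩ := K.2
      have h1 : ((FreeAbelianGroup.of K : FreeAbelianGroup (Subtype (Perf P))) : K0tr (Perf P)) =
          clTr (Perf P) K.1 := (K0Der.clTr_eq (Perf P) K.2).symm
      rw [h1, ← K0Der.clTr_iso (Perf P) (perf_zero hP) e (perf_Q E ⟨⟨a, b, hab⟩, hE⟩) K.2]
      exact clTr_Q_mem_range hP (b - a).toNat.succ E a b hab hE (by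
        push_cast
        have := Int.self_le_toNat (b - a)
        lia)
    | neg K ih =>
      obtain ⟨y, hy⟩ := ih
      exact ⟨-y, by rw [map_neg, hy, QuotientAddGroup.mk_neg]⟩
    | add x y hx hy =>
      obtain ⟨x', hx'⟩ := hx
      obtain ⟨y', hy'⟩ := hy
      exact ⟨x' + y', by rw [map_add, hx', hy', QuotientAddGroup.mk_add]⟩

theorem phi_psi (hP : ProjClass P) (y : K0tr (Perf P)) : phi hP (psi hP y) = y := by
  obtain ⟨x, rfl⟩ := phi_surjective hP y
  rw [psi_phi]

/-- the isomorphism `K₀(P) ≃ K₀(Perf)` -/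
noncomputable def equiv (hP : ProjClass P) : K0sub P ≃+ K0tr (Perf P) where
  toFun := phi hP
  invFun := psi hP
  left_inv := psi_phi hP
  right_inv := phi_psi hP
  map_add' := map_add _

theorem equiv_clSub (hP : ProjClass P) {X : C} (hX : P X) :
    equiv hP (clSub P X) = clTr (Perf P) ((DerivedCategory.singleFunctor C 0).obj X) :=
  phi_clSub hP hX

theorem equiv_symm_clTr_Q (hP : ProjClass P) (E : CochainComplex C ℤ) (a b : ℤ) (hab : Bdd E a b)
    (hE : ∀ i, P (E.X i)) :
    (equiv hP).symm (clTr (Perf P) (Q.obj E)) =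
      ∑ i ∈ Finset.Icc a b, ((i.negOnePow : ℤˣ) : ℤ) • clSub P (E.X i) := by
  change psi hP _ = _
  rw [psi_clTr_Q hP E ⟨⟨a, b, hab⟩, hE⟩, chiCx_eq_sum hP E a b hab]

end Groth.Agent.H16.PerfK0
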