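import Groth.Agent.H16.RlimMilnor

/-!
# Injectivity of `Hom(A, L[m]) → Hom(A, K_n[m])` for a derived limit (helper16)

If `L` is a derived limit of `(K n, t n)` through `a n`, the `R¹lim` of `Hom(A, K_n[m-1])` vanishes and the transition
maps `Hom(A, K_{N+k}[m]) → Hom(A, K_N[m])` are injective, then `Hom(A, L[m]) → Hom(A, K_N[m])` is injective.
-/

set_option autoImplicit false
set_option linter.unusedSectionVars false
universe v' u'
open CategoryTheory CategoryTheory.Limits Opposite Pretriangulated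

namespace Groth.Agent.H16.RlimInjA

variable {T : Type u'} [Category.{v'} T] [Preadditive T] [HasZeroObject T] [HasShift T ℤ]
  [∀ n : ℤ, (shiftFunctor T n).Additive] [Pretriangulated T]
  {K : ℕ → T} {t : ∀ n, K (n + 1) ⟶ K n} [HasProduct K] {L : T} {a : ∀ n, L ⟶ K n}

/-- the maps `a n` are compatible with the transition maps. -/
lemma a_comp_t (hL : CohCx.IsRlimVia K t L a) (n : ℕ) : a (n + 1) ≫ t n = a n := by
  obtain ⟨c, hc⟩ := hL
  have h0 : Pi.lift a ≫ (Pi.lift fun n => Pi.π K n - Pi.π K (n + 1) ≫ t n) = 0 :=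
    comp_distTriang_mor_zero₁₂ _ hc
  have h1 : (Pi.lift a ≫ (Pi.lift fun n => Pi.π K n - Pi.π K (n + 1) ≫ t n)) ≫ Pi.π K n =
      0 ≫ Pi.π K n := by rw [h0]
  rw [Category.assoc, Pi.lift_π, zero_comp, Preadditive.comp_sub, ← Category.assoc, Pi.lift_π,
    Pi.lift_π] at h1
  exact (sub_eq_zero.1 h1).symm

lemma a_comp_transition (hL : CohCx.IsRlimVia K t L a) (n k : ℕ) :
    a (n + k) ≫ CohCx.transition K t n k = a n := by
  induction k with
  | zero => exact Category.comp_id _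
  | succ k ih =>
    change a (n + k + 1) ≫ t (n + k) ≫ CohCx.transition K t n k = a n
    rw [← Category.assoc, a_comp_t hL, ih]

/-- Injectivity of `Hom(A, L[m]) → Hom(A, K_N[m])`. -/
theorem eq_zero_of_comp_eq_zero (hL : CohCx.IsRlimVia K t L a) (A : T) (m : ℤ) (N : ℕ)
    (hsurj : Function.Surjective
      (fun (w : ∀ n, A ⟶ (K n)⟦m - 1⟧) (n : ℕ) => w n - w (n + 1) ≫ (t n)⟦m - 1⟧'))
    (hinj : ∀ k : ℕ, Function.Injective
      (fun x : A ⟶ (K (N + k))⟦m⟧ => x ≫ (CohCx.transition K t N k)⟦m⟧'))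
    (y : A ⟶ L⟦m⟧) (hy : y ≫ (a N)⟦m⟧' = 0) : y = 0 := by
  refine RlimMilnor.eq_zero_of_limOne hL A m hsurj y ?_
  have hge : ∀ k, y ≫ (a (N + k))⟦m⟧' = 0 := by
    intro k
    apply hinj k
    change (y ≫ (a (N + k))⟦m⟧') ≫ (CohCx.transition K t N k)⟦m⟧' =
      0 ≫ (CohCx.transition K t N k)⟦m⟧'
    rw [Category.assoc, ← Functor.map_comp, a_comp_transition hL, hy, zero_comp]
  have hdown : ∀ (j n : ℕ), y ≫ (a (n + j))⟦m⟧' = 0 → y ≫ (a n)⟦m⟧' = 0 := by
    intro j
    induction j with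
    | zero => intro n h; exact h
    | succ j ih =>
      intro n h
      apply ih n
      have : a (n + j) = a (n + (j + 1)) ≫ t (n + j) := (a_comp_t hL (n + j)).symm
      rw [this, Functor.map_comp, ← Category.assoc, h, zero_comp]
  intro n
  apply hdown N n
  rw [Nat.add_comm n N]
  exact hge n

end Groth.Agent.H16.RlimInjA
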