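import Mathlib

/-!
# Local descriptions of sections of homology sheaves (helper16)
-/

set_option autoImplicit false
open CategoryTheory CategoryTheory.Limits Opposite
universe u

namespace Groth.Agent.H16.RlimInjB

variable {C : Type u} [SmallCategory C] (J : GrothendieckTopology C)

lemma res_comm {F G : Sheaf J AddCommGrpCat.{u}} (p : F ⟶ G) {W W' : C} (g : W' ⟶ W)
    (x : F.obj.obj (op W)) :
    (p.hom.app (op W')).hom ((F.obj.map g.op).hom x) =
      (G.obj.map g.op).hom ((p.hom.app (op W)).hom x) :=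
  ConcreteCategory.congr_hom (p.hom.naturality g.op) x

lemma comp_apply' {F G H : Sheaf J AddCommGrpCat.{u}} (p : F ⟶ G) (q : G ⟶ H) (W : C)
    (x : F.obj.obj (op W)) :
    ((p ≫ q).hom.app (op W)).hom x = (q.hom.app (op W)).hom ((p.hom.app (op W)).hom x) := rfl

lemma apply_of_eq_zero {F G : Sheaf J AddCommGrpCat.{u}} (p : F ⟶ G) (hp : p = 0) (W : C)
    (x : F.obj.obj (op W)) : (p.hom.app (op W)).hom x = 0 := by
  subst hp
  rfl

lemma injective_of_mono {F G : Sheaf J AddCommGrpCat.{u}} (p : F ⟶ G) [Mono p] (W : C) :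
    Function.Injective ((p.hom.app (op W)).hom) := by
  have h4 := (Sheaf.Hom.mono_iff_presheaf_mono J AddCommGrpCat.{u} p).1 inferInstance
  have h5 : Mono (p.hom.app (op W)) := by
    rw [NatTrans.mono_iff_mono_app] at h4
    exact h4 (op W)
  exact (AddCommGrpCat.mono_iff_injective _).1 h5

lemma bijective_of_isIso {F G : Sheaf J AddCommGrpCat.{u}} (p : F ⟶ G) [IsIso p] (W : C) :
    Function.Bijective ((p.hom.app (op W)).hom) := by
  have : IsIso (((sheafToPresheaf J AddCommGrpCat.{u} ⋙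
    (evaluation Cᵒᵖ AddCommGrpCat.{u}).obj (op W)).map p)) := inferInstance
  exact ConcreteCategory.bijective_of_isIso
    ((sheafToPresheaf J AddCommGrpCat.{u} ⋙ (evaluation Cᵒᵖ AddCommGrpCat.{u}).obj (op W)).map p)

lemma exists_local_lift_of_epi {F G : Sheaf J AddCommGrpCat.{u}} (p : F ⟶ G) [Epi p] (V : C)
    (s : G.obj.obj (op V)) :
    ∃ T : Sieve V, T ∈ J V ∧ ∀ ⦃W : C⦄ (f : W ⟶ V), T.arrows f →
      ∃ c : F.obj.obj (op W), (p.hom.app (op W)).hom c = (G.obj.map f.op).hom s := by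
  haveI : Sheaf.IsLocallySurjective p := (Sheaf.isLocallySurjective_iff_epi' (φ := p)).2 inferInstance
  refine ⟨Presheaf.imageSieve p.hom s, Presheaf.imageSieve_mem J p.hom s, ?_⟩
  intro W f hf
  obtain ⟨t, ht⟩ := hf
  exact ⟨t, ht⟩

lemma eq_zero_of_cover (F : Sheaf J AddCommGrpCat.{u}) (V : C) (s : F.obj.obj (op V))
    (T : Sieve V) (hT : T ∈ J V)
    (h : ∀ ⦃W : C⦄ (f : W ⟶ V), T.arrows f → (F.obj.map f.op).hom s = 0) : s = 0 := by
  have hsep := (Presheaf.isSheaf_iff_isSheaf_forget J F.obj (forget AddCommGrpCat.{u})).1 F.property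
  have := (hsep.isSheafFor T hT).isSeparatedFor
  refine this (fun W f _ => (0 : F.obj.obj (op W))) s 0 ?_ ?_
  · intro W f hf
    exact h f hf
  · intro W f hf
    exact map_zero (F.obj.map f.op).hom

section
variable {J}
variable (S : ShortComplex (Sheaf J AddCommGrpCat.{u}))

lemma exists_local_lift_of_exact (hS : S.Exact) (W : C) (x : S.X₂.obj.obj (op W))
    (hx : (S.g.hom.app (op W)).hom x = 0) :
    ∃ T : Sieve W, T ∈ J W ∧ ∀ ⦃W' : C⦄ (g : W' ⟶ W), T.arrows g →
      ∃ b : S.X₁.obj.obj (op W'), (S.f.hom.app (op W')).hom b = (S.X₂.obj.map g.op).hom x := by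
  -- lift `x` to a section of the cycles
  let Γ := sheafToPresheaf J AddCommGrpCat.{u} ⋙ (evaluation Cᵒᵖ AddCommGrpCat.{u}).obj (op W)
  have hex : ((ShortComplex.mk S.iCycles S.g S.iCycles_g).map Γ).Exact :=
    (ShortComplex.exact_of_f_is_kernel _ S.cyclesIsKernel).map_of_mono_of_preservesKernel Γ
      (inferInstanceAs (Mono S.iCycles)) inferInstance
  obtain ⟨z, hz⟩ := (ShortComplex.ab_exact_iff _).1 hex x hx
  have hz' : (S.iCycles.hom.app (op W)).hom z = x := hz
  haveI : Epi S.toCycles := hS.epi_toCycles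
  obtain ⟨T, hT, hT'⟩ := exists_local_lift_of_epi J S.toCycles W z
  refine ⟨T, hT, fun W' g hg => ?_⟩
  obtain ⟨b, hb⟩ := hT' g hg
  refine ⟨b, ?_⟩
  have h1 : (S.f.hom.app (op W')).hom b =
      (S.iCycles.hom.app (op W')).hom ((S.toCycles.hom.app (op W')).hom b) := by
    rw [← comp_apply', S.toCycles_i]
  rw [h1, hb, res_comm, hz']

/-- sections of the homology sheaf are locally classes of cycles. -/
lemma homology_local_cycles (V : C) (s : S.homology.obj.obj (op V)) :
    ∃ T : Sieve V, T ∈ J V ∧ ∀ ⦃W : C⦄ (f : W ⟶ V), T.arrows f →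
      ∃ c : S.cycles.obj.obj (op W),
        (S.homologyπ.hom.app (op W)).hom c = (S.homology.obj.map f.op).hom s :=
  exists_local_lift_of_epi J S.homologyπ V s

/-- a cycle with zero class is locally a boundary. -/
lemma cycles_local_boundary (W : C) (c : S.cycles.obj.obj (op W))
    (hc : (S.homologyπ.hom.app (op W)).hom c = 0) :
    ∃ T : Sieve W, T ∈ J W ∧ ∀ ⦃W' : C⦄ (g : W' ⟶ W), T.arrows g →
      ∃ b : S.X₁.obj.obj (op W'), (S.f.hom.app (op W')).hom b =
        (S.X₂.obj.map g.op).hom ((S.iCycles.hom.app (op W)).hom c) := by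
  let S' : ShortComplex (Sheaf J AddCommGrpCat.{u}) :=
    ShortComplex.mk S.toCycles S.homologyπ S.toCycles_comp_homologyπ
  have hS' : S'.Exact := ShortComplex.exact_of_g_is_cokernel _ S.homologyIsCokernel
  obtain ⟨T, hT, hT'⟩ := exists_local_lift_of_exact S' hS' W c hc
  refine ⟨T, hT, fun W' g hg => ?_⟩
  obtain ⟨b, hb⟩ := hT' g hg
  refine ⟨b, ?_⟩
  have hb' : (S.toCycles.hom.app (op W')).hom b = (S.cycles.obj.map g.op).hom c := hb
  have h1 : (S.f.hom.app (op W')).hom b =
      (S.iCycles.hom.app (op W')).hom ((S.toCycles.hom.app (op W')).hom b) := by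
    rw [← comp_apply', S.toCycles_i]
  rw [h1, hb', res_comm]

/-- the class of a boundary vanishes. -/
lemma homologyπ_eq_zero_of_boundary (W : C) (c : S.cycles.obj.obj (op W))
    (b : S.X₁.obj.obj (op W))
    (h : (S.f.hom.app (op W)).hom b = (S.iCycles.hom.app (op W)).hom c) :
    (S.homologyπ.hom.app (op W)).hom c = 0 := by
  have h1 : (S.f.hom.app (op W)).hom b =
      (S.iCycles.hom.app (op W)).hom ((S.toCycles.hom.app (op W)).hom b) := by
    rw [← comp_apply', S.toCycles_i]
  have h2 : (S.toCycles.hom.app (op W)).hom b = c :=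
    injective_of_mono J S.iCycles W (h1.symm.trans h)
  rw [← h2, ← comp_apply']
  exact apply_of_eq_zero J _ S.toCycles_comp_homologyπ W b

lemma iCycles_g_apply (W : C) (c : S.cycles.obj.obj (op W)) :
    (S.g.hom.app (op W)).hom ((S.iCycles.hom.app (op W)).hom c) = 0 := by
  rw [← comp_apply']
  exact apply_of_eq_zero J _ S.iCycles_g W c

end

end Groth.Agent.H16.RlimInjB
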