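import Groth.Agent.H30.HDSheafify
import Groth.Agent.H16.RlimInjA
import Groth.Agent.H16.RlimInjB

/-!
# Classes of cycles in K-injective complexes: functoriality in the complex (helper16)
-/

set_option autoImplicit false
universe w v u
open CategoryTheory CategoryTheory.Limits Opposite CochainComplex HomComplex DerivedCategory

namespace Groth.Agent.H16.RlimInjC

open Groth.Agent.H30

section general

variable {C : Type u} [Category.{v} C] [Abelian C] [HasDerivedCategory.{w} C]

lemma toD_postcomp (K L L' : CochainComplex C ℤ) (n : ℤ) (x : Cocycle K L n) (g : L ⟶ L') :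
    KInjCls.toD K L' n (x.postcomp g) = KInjCls.toD K L n x ≫ (Q.map g)⟦n⟧' := by
  dsimp only [KInjCls.toD, ShiftedHom.map]
  rw [Cocycle.equivHomShift_symm_postcomp, Functor.map_comp, Category.assoc, Category.assoc]
  congr 1
  exact (Q.commShiftIso n).hom.naturality g

lemma cls_postcomp {L L' : CochainComplex C ℤ} {X : C} {q : ℤ} (q' : ℤ) (hq' : q + 1 = q')
    (φ : X ⟶ L.X q) (hφ : φ ≫ L.d q q' = 0) (g : L ⟶ L') :
    KInjCls.cls q' hq' (φ ≫ g.f q) (by rw [Category.assoc, g.comm, ← Category.assoc, hφ, zero_comp]) =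
      KInjCls.cls q' hq' φ hφ ≫ (Q.map g)⟦q⟧' := by
  dsimp only [KInjCls.cls]
  rw [Cocycle.fromSingleMk_postcomp φ (zero_add q) q' hq' hφ g, toD_postcomp]

/-- every morphism in the derived category to a K-injective complex is represented by a chain map. -/
lemma exists_Q_map_eq (K L : CochainComplex C ℤ) [L.IsKInjective] (ψ : Q.obj K ⟶ Q.obj L) :
    ∃ g : K ⟶ L, Q.map g = ψ := by
  obtain ⟨g, hg⟩ := (CochainComplex.IsKInjective.Qh_map_bijective
    ((HomotopyCategory.quotient _ _).obj K) L).surjective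
    ((quotientCompQhIso C).hom.app K ≫ ψ ≫ (quotientCompQhIso C).inv.app L)
  obtain ⟨g', rfl⟩ := (HomotopyCategory.quotient _ _).map_surjective g
  refine ⟨g', ?_⟩
  have h := (quotientCompQhIso C).hom.naturality g'
  dsimp only [Functor.comp_map] at h
  rw [hg] at h
  simp only [Category.assoc, Iso.inv_hom_id_app, Category.comp_id] at h
  dsimp at h
  exact ((cancel_epi ((quotientCompQhIso C).hom.app K)).1 h).symm

end general

section site

open HDSheafify

variable {C : Type u} [SmallCategory C] {J : GrothendieckTopology C}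
  [HasDerivedCategory.{u} (Sheaf J AddCommGrpCat.{u})]
  {I I' : CochainComplex (Sheaf J AddCommGrpCat.{u}) ℤ} (g : I ⟶ I') (q : ℤ)

lemma mapKer_aux (X : Cᵒᵖ) (x : ((T I q).g.app X).hom.ker) :
    ((T I' q).g.app X).hom (((g.f q).hom.app X).hom x.1) = 0 := by
  have h1 : (g.f q).hom.app X ≫ (I'.d q ((ComplexShape.up ℤ).next q)).hom.app X =
      (I.d q ((ComplexShape.up ℤ).next q)).hom.app X ≫
        (g.f ((ComplexShape.up ℤ).next q)).hom.app X := by
    rw [← NatTrans.comp_app, ← NatTrans.comp_app, ← ObjectProperty.FullSubcategory.comp_hom,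
      ← ObjectProperty.FullSubcategory.comp_hom, g.comm]
  have h2 := ConcreteCategory.congr_hom h1 x.1
  refine h2.trans ?_
  have h3 : ((I.d q ((ComplexShape.up ℤ).next q)).hom.app X).hom x.1 = 0 := x.2
  change ((g.f ((ComplexShape.up ℤ).next q)).hom.app X).hom
    (((I.d q ((ComplexShape.up ℤ).next q)).hom.app X).hom x.1) = 0
  rw [h3, map_zero]

/-- the image of a cycle under a chain map. -/
noncomputable def mapKer (X : Cᵒᵖ) (x : ((T I q).g.app X).hom.ker) : ((T I' q).g.app X).hom.ker :=
  ⟨((g.f q).hom.app X).hom x.1, mapKer_aux g q X x⟩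

lemma c_postcomp (X : Cᵒᵖ) (x : ((T I q).g.app X).hom.ker) :
    c I' q X (mapKer g q X x) = c I q X x ≫ (Q.map g)⟦q⟧' := by
  rw [c_apply, c_apply]
  dsimp only [cFun]
  have h1 : homOf I' q X (mapKer g q X x) = homOf I q X x ≫ g.f q :=
    (ofSect_comp X.unop (sec I q X x) (g.f q)).symm
  refine (KInjCls.cls_congr _ (next_eq q) h1 _ (by
    rw [Category.assoc, g.comm, ← Category.assoc, homOf_comp_d, zero_comp])).trans ?_
  exact cls_postcomp _ (next_eq q) (homOf I q X x) (homOf_comp_d I q X x) g

end site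

end Groth.Agent.H16.RlimInjC
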