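import Groth.Agent.H16.RFKInj
import Groth.Agent.H16.RlimInjC

/-!
# The total right derived functor sends distinguished triangles to exact sequences of cohomology (helper16)
-/

set_option autoImplicit false
universe w' w v' u' v u
open CategoryTheory CategoryTheory.Limits DerivedCategory Pretriangulated

namespace Groth.Agent.H16.RFExact

variable {A : Type u} [Category.{v} A] [Abelian A] [IsGrothendieckAbelian.{v} A]
  [HasDerivedCategory.{w} A]
  {B : Type u'} [Category.{v'} B] [Abelian B] [HasDerivedCategory.{w'} B]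
  (F : A ⥤ B) [F.Additive]
  [(F.mapHomotopyCategory (ComplexShape.up ℤ) ⋙ DerivedCategory.Qh).HasRightDerivedFunctor
    (HomotopyCategory.quasiIso A (ComplexShape.up ℤ))]

/-- the functor to be derived. -/
noncomputable abbrev Φ : HomotopyCategory A (ComplexShape.up ℤ) ⥤ DerivedCategory B :=
  F.mapHomotopyCategory (ComplexShape.up ℤ) ⋙ DerivedCategory.Qh

/-- the total right derived functor. -/
noncomputable abbrev RF : DerivedCategory A ⥤ DerivedCategory B :=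
  (Φ F).totalRightDerived DerivedCategory.Qh (HomotopyCategory.quasiIso A (ComplexShape.up ℤ))

/-- its unit. -/
noncomputable abbrev α : Φ F ⟶ DerivedCategory.Qh ⋙ RF F :=
  (Φ F).totalRightDerivedUnit DerivedCategory.Qh (HomotopyCategory.quasiIso A (ComplexShape.up ℤ))

omit [IsGrothendieckAbelian.{v} A] [HasDerivedCategory.{w} A] in
lemma isKInjective_mappingCone {I₁ I₂ : CochainComplex A ℤ} (h₁ : I₁.IsKInjective)
    (h₂ : I₂.IsKInjective) (u : I₁ ⟶ I₂) : (CochainComplex.mappingCone u).IsKInjective := by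
  rw [CochainComplex.isKInjective_iff_rightOrthogonal]
  exact (HomotopyCategory.subcategoryAcyclic A).rightOrthogonal.ext_of_isTriangulatedClosed₃ _
    (HomotopyCategory.mappingCone_triangleh_distinguished u)
    ((CochainComplex.isKInjective_iff_rightOrthogonal I₁).1 h₁)
    ((CochainComplex.isKInjective_iff_rightOrthogonal I₂).1 h₂)

/-- exactness of `H^m(RF(-))` at the middle term of a distinguished triangle. -/
theorem exact₂ (T : Triangle (DerivedCategory A)) (hT : T ∈ distTriang _) (m : ℤ)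
    (w : (homologyFunctor B m).map ((RF F).map T.mor₁) ≫
      (homologyFunctor B m).map ((RF F).map T.mor₂) = 0) :
    (ShortComplex.mk _ _ w).Exact := by
  obtain ⟨I₁, hI₁, ⟨e₁⟩⟩ := RFKInj.exists_kInjective_iso T.obj₁
  obtain ⟨I₂, hI₂, ⟨e₂⟩⟩ := RFKInj.exists_kInjective_iso T.obj₂
  obtain ⟨u, hu⟩ := RlimInjC.exists_Q_map_eq I₁ I₂ (e₁.inv ≫ T.mor₁ ≫ e₂.hom)
  let qA := HomotopyCategory.quotient A (ComplexShape.up ℤ)
  let Th := CochainComplex.mappingCone.triangleh u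
  have hTh : Th ∈ distTriang _ := HomotopyCategory.mappingCone_triangleh_distinguished u
  have hI₃ : (CochainComplex.mappingCone u).IsKInjective := isKInjective_mappingCone hI₁ hI₂ u
  have hQ := Qh.map_distinguished _ hTh
  let ε₁ : Qh.obj (qA.obj I₁) ≅ T.obj₁ := (quotientCompQhIso A).app I₁ ≪≫ e₁.symm
  let ε₂ : Qh.obj (qA.obj I₂) ≅ T.obj₂ := (quotientCompQhIso A).app I₂ ≪≫ e₂.symm
  have comm : Qh.map (qA.map u) ≫ ε₂.hom = ε₁.hom ≫ T.mor₁ := by
    change Qh.map (qA.map u) ≫ (quotientCompQhIso A).hom.app I₂ ≫ e₂.inv =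
      ((quotientCompQhIso A).hom.app I₁ ≫ e₁.inv) ≫ T.mor₁
    rw [quotientCompQhIso_hom_naturality_assoc, hu]
    simp
  let θ := isoTriangleOfIso₁₂ (Qh.mapTriangle.obj Th) T hQ hT ε₁ ε₂ comm
  have hΦ := (Φ F).map_distinguished _ hTh
  have hex := DerivedCategory.HomologySequence.exact₂ _ hΦ m
  have hα₁ : IsIso ((α F).app (qA.obj I₁)) :=
    Groth.Agent.H5.KInjDeriv.isIso_totalRightDerivedUnit_app RFKInj.hKinj (Φ F) I₁ hI₁
  have hα₂ : IsIso ((α F).app (qA.obj I₂)) :=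
    Groth.Agent.H5.KInjDeriv.isIso_totalRightDerivedUnit_app RFKInj.hKinj (Φ F) I₂ hI₂
  have hα₃ : IsIso ((α F).app (qA.obj (CochainComplex.mappingCone u))) :=
    Groth.Agent.H5.KInjDeriv.isIso_totalRightDerivedUnit_app RFKInj.hKinj (Φ F) _ hI₃
  let v₁ : (Φ F).obj (qA.obj I₁) ≅ (RF F).obj T.obj₁ :=
    asIso ((α F).app (qA.obj I₁)) ≪≫ (RF F).mapIso (Triangle.π₁.mapIso θ)
  let v₂ : (Φ F).obj (qA.obj I₂) ≅ (RF F).obj T.obj₂ :=
    asIso ((α F).app (qA.obj I₂)) ≪≫ (RF F).mapIso (Triangle.π₂.mapIso θ)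
  let v₃ : (Φ F).obj (qA.obj (CochainComplex.mappingCone u)) ≅ (RF F).obj T.obj₃ :=
    asIso ((α F).app (qA.obj (CochainComplex.mappingCone u))) ≪≫
      (RF F).mapIso (Triangle.π₃.mapIso θ)
  have c₁ : (Φ F).map Th.mor₁ ≫ v₂.hom = v₁.hom ≫ (RF F).map T.mor₁ := by
    change (Φ F).map Th.mor₁ ≫ (α F).app _ ≫ (RF F).map θ.hom.hom₂ =
      ((α F).app _ ≫ (RF F).map θ.hom.hom₁) ≫ (RF F).map T.mor₁
    have hnat := (α F).naturality Th.mor₁
    rw [← Category.assoc, hnat, Category.assoc, Category.assoc, ← Functor.map_comp]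
    change _ ≫ (RF F).map (Qh.map Th.mor₁) ≫ _ = _
    have h3 : Qh.map Th.mor₁ ≫ θ.hom.hom₂ = θ.hom.hom₁ ≫ T.mor₁ := θ.hom.comm₁
    rw [← Functor.map_comp, h3]
    rfl
  have c₂ : (Φ F).map Th.mor₂ ≫ v₃.hom = v₂.hom ≫ (RF F).map T.mor₂ := by
    change (Φ F).map Th.mor₂ ≫ (α F).app _ ≫ (RF F).map θ.hom.hom₃ =
      ((α F).app _ ≫ (RF F).map θ.hom.hom₂) ≫ (RF F).map T.mor₂
    have hnat := (α F).naturality Th.mor₂
    rw [← Category.assoc, hnat, Category.assoc, Category.assoc, ← Functor.map_comp]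
    change _ ≫ (RF F).map (Qh.map Th.mor₂) ≫ _ = _
    have h3 : Qh.map Th.mor₂ ≫ θ.hom.hom₃ = θ.hom.hom₂ ≫ T.mor₂ := θ.hom.comm₂
    rw [← Functor.map_comp, h3]
    rfl
  refine (ShortComplex.exact_iff_of_iso (ShortComplex.isoMk
    ((homologyFunctor B m).mapIso v₁) ((homologyFunctor B m).mapIso v₂)
    ((homologyFunctor B m).mapIso v₃) ?_ ?_)).1 hex
  · change (homologyFunctor B m).map v₁.hom ≫ (homologyFunctor B m).map ((RF F).map T.mor₁) =
      (homologyFunctor B m).map ((Φ F).map Th.mor₁) ≫ (homologyFunctor B m).map v₂.hom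
    rw [← Functor.map_comp, ← Functor.map_comp, c₁]
    rfl
  · change (homologyFunctor B m).map v₂.hom ≫ (homologyFunctor B m).map ((RF F).map T.mor₂) =
      (homologyFunctor B m).map ((Φ F).map Th.mor₂) ≫ (homologyFunctor B m).map v₃.hom
    rw [← Functor.map_comp, ← Functor.map_comp, c₂]
    rfl

/-- the composite is zero. -/
theorem comp_zero₁₂ (T : Triangle (DerivedCategory A)) (hT : T ∈ distTriang _) :
    (RF F).map T.mor₁ ≫ (RF F).map T.mor₂ = 0 := by
  obtain ⟨I₁, hI₁, ⟨e₁⟩⟩ := RFKInj.exists_kInjective_iso T.obj₁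
  have hα₁ : IsIso ((α F).app ((HomotopyCategory.quotient A (ComplexShape.up ℤ)).obj I₁)) :=
    Groth.Agent.H5.KInjDeriv.isIso_totalRightDerivedUnit_app RFKInj.hKinj (Φ F) I₁ hI₁
  have h0 : T.mor₁ ≫ T.mor₂ = 0 := comp_distTriang_mor_zero₁₂ _ hT
  rw [← Functor.map_comp, h0]
  -- `RF` sends zero maps out of `T.obj₁` to zero
  let ε₁ : Qh.obj ((HomotopyCategory.quotient A (ComplexShape.up ℤ)).obj I₁) ≅ T.obj₁ :=
    (quotientCompQhIso A).app I₁ ≪≫ e₁.symm
  obtain ⟨X₃, ⟨e₃⟩⟩ : ∃ X₃ : HomotopyCategory A (ComplexShape.up ℤ), Nonempty (Qh.obj X₃ ≅ T.obj₃) :=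
    ⟨_, ⟨Qh.objObjPreimageIso T.obj₃⟩⟩
  have hz : (0 : T.obj₁ ⟶ T.obj₃) = ε₁.inv ≫ Qh.map (0 : _ ⟶ X₃) ≫ e₃.hom := by simp
  rw [hz, Functor.map_comp, Functor.map_comp]
  have hnat := (α F).naturality (0 : (HomotopyCategory.quotient A (ComplexShape.up ℤ)).obj I₁ ⟶ X₃)
  have h1 : (RF F).map (Qh.map (0 : (HomotopyCategory.quotient A (ComplexShape.up ℤ)).obj I₁ ⟶ X₃)) = 0 := by
    have h2 : (α F).app _ ≫ (RF F).map (Qh.map (0 : (HomotopyCategory.quotient A (ComplexShape.up ℤ)).obj I₁ ⟶ X₃)) = 0 := by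
      have : (α F).app _ ≫ (Qh ⋙ RF F).map (0 : (HomotopyCategory.quotient A (ComplexShape.up ℤ)).obj I₁ ⟶ X₃) = 0 := by
        rw [← hnat, Functor.map_zero, zero_comp]
      exact this
    exact (cancel_epi ((α F).app _)).1 (h2.trans comp_zero.symm)
  rw [h1, zero_comp, comp_zero]

end Groth.Agent.H16.RFExact
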