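import Groth.Agent.H5.KInjDeriv
import Groth.Agent.H33.KInj.Main
import Mathlib.Algebra.Homology.DerivedCategory.HomologySequence

/-!
# The total right derived functor on a K-injective complex (helper16)
-/

set_option autoImplicit false
universe w' w v' u' v u
open CategoryTheory CategoryTheory.Limits DerivedCategory

namespace Groth.Agent.H16.RFKInj

variable {A : Type u} [Category.{v} A] [Abelian A] [IsGrothendieckAbelian.{v} A]
  [HasDerivedCategory.{w} A]
  {B : Type u'} [Category.{v'} B] [Abelian B] [HasDerivedCategory.{w'} B]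
  (F : A ⥤ B) [F.Additive]

omit [HasDerivedCategory.{w} A] in
lemma hKinj : ∀ K : CochainComplex A ℤ, ∃ (I : CochainComplex A ℤ) (f : K ⟶ I),
    I.IsKInjective ∧ QuasiIso f := fun K => by
  obtain ⟨I, f, h1, h2, -, -⟩ := Groth.Agent.H33.KInj.exists_kInjective_resolution K
  exact ⟨I, f, h1, h2⟩

/-- every object of the derived category is represented by a K-injective complex. -/
lemma exists_kInjective_iso (E : DerivedCategory A) :
    ∃ (I : CochainComplex A ℤ), I.IsKInjective ∧ Nonempty (E ≅ Q.obj I) := by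
  obtain ⟨I, f, hI, hf⟩ := hKinj (Q.objPreimage E)
  exact ⟨I, hI, ⟨(Q.objObjPreimageIso E).symm ≪≫ asIso (Q.map f)⟩⟩

lemma hasRightDerivedFunctor :
    (F.mapHomotopyCategory (ComplexShape.up ℤ) ⋙ DerivedCategory.Qh (C := B)).HasRightDerivedFunctor
      (HomotopyCategory.quasiIso A (ComplexShape.up ℤ)) :=
  Groth.Agent.H5.KInjDeriv.hasRightDerivedFunctor hKinj _

variable [(F.mapHomotopyCategory (ComplexShape.up ℤ) ⋙ DerivedCategory.Qh).HasRightDerivedFunctor
    (HomotopyCategory.quasiIso A (ComplexShape.up ℤ))]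

/-- `RF(E) ≅ F(I)` for a K-injective complex `I` representing `E`. -/
noncomputable def isoOfKInj (I : CochainComplex A ℤ) (hI : I.IsKInjective) (E : DerivedCategory A)
    (e : E ≅ Q.obj I) :
    ((F.mapHomotopyCategory (ComplexShape.up ℤ) ⋙ DerivedCategory.Qh).totalRightDerived
      DerivedCategory.Qh (HomotopyCategory.quasiIso A (ComplexShape.up ℤ))).obj E ≅
      Q.obj ((F.mapHomologicalComplex (ComplexShape.up ℤ)).obj I) :=
  let Φ := F.mapHomotopyCategory (ComplexShape.up ℤ) ⋙ DerivedCategory.Qh (C := B)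
  let RF := Φ.totalRightDerived DerivedCategory.Qh (HomotopyCategory.quasiIso A (ComplexShape.up ℤ))
  let α := Φ.totalRightDerivedUnit DerivedCategory.Qh
    (HomotopyCategory.quasiIso A (ComplexShape.up ℤ))
  haveI : IsIso (α.app ((HomotopyCategory.quotient A (ComplexShape.up ℤ)).obj I)) :=
    Groth.Agent.H5.KInjDeriv.isIso_totalRightDerivedUnit_app hKinj Φ I hI
  RF.mapIso (e ≪≫ ((quotientCompQhIso A).app I).symm) ≪≫
    (asIso (α.app ((HomotopyCategory.quotient A (ComplexShape.up ℤ)).obj I))).symm ≪≫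
    Qh.mapIso ((F.mapHomotopyCategoryFactors (ComplexShape.up ℤ)).app I) ≪≫
    (quotientCompQhIso B).app ((F.mapHomologicalComplex (ComplexShape.up ℤ)).obj I)

/-- `H^i(RF(E)) ≅ H^i(F(I))`. -/
noncomputable def homologyIsoOfKInj (I : CochainComplex A ℤ) (hI : I.IsKInjective)
    (E : DerivedCategory A) (e : E ≅ Q.obj I) (i : ℤ) :
    (DerivedCategory.homologyFunctor B i).obj
      (((F.mapHomotopyCategory (ComplexShape.up ℤ) ⋙ DerivedCategory.Qh).totalRightDerived
        DerivedCategory.Qh (HomotopyCategory.quasiIso A (ComplexShape.up ℤ))).obj E) ≅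
      ((F.mapHomologicalComplex (ComplexShape.up ℤ)).obj I).homology i :=
  (DerivedCategory.homologyFunctor B i).mapIso (isoOfKInj F I hI E e) ≪≫
    (homologyFunctorFactors B i).app _

end Groth.Agent.H16.RFKInj
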