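import Groth.Agent.H16.CyclesSerreB
import Groth.Agent.H16.RFKInj
import Groth.Agent.H6.InjHorseshoe
import Groth.Agent.H12.QCohAbelian
import Groth.Agent.H71.QCoh.PushOpen
import Groth.Agent.H33.SheafMod.Grothendieck
import Groth.Agent.S0030
import Groth.Agent.S2384

/-!
# `Rf_*` preserves quasi-coherent cohomology on bounded below objects (helper16)
-/

set_option autoImplicit false
universe u
open CategoryTheory CategoryTheory.Limits AlgebraicGeometry DerivedCategory

attribute [local instance] HasDerivedCategory.standard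

namespace Groth.Agent.H16.RpushQCohPlus

variable {X S : Scheme.{u}} (f : X ⟶ S)

theorem isQCoh_HD_Rpush_of_isGE [QuasiCompact f] [QuasiSeparated f] [DCoh.HasRpush f]
    (L : DCoh.D X) (hL : DCoh.IsQCohD L) (a : ℤ) (hGE : L.IsGE a) (m : ℤ) :
    Coh.IsQCoh (DCoh.HD ((DCoh.Rpush f).obj L) m) := by
  haveI : IsGrothendieckAbelian.{u} X.Modules :=
    Groth.Agent.H33.SheafMod.isGrothendieckAbelian _ X.ringCatSheaf
  haveI : HasInjectiveResolutions X.Modules := inferInstance
  obtain ⟨K, hK, ⟨e⟩⟩ := L.exists_iso_Q_obj_of_isGE a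
  obtain ⟨I, ι, -, hι, hIinj, hIa⟩ := Groth.Agent.H6.exists_mono_quasiIso_injective_ge K a
  have : IsIso (Q.map ι) := inferInstance
  let e' : L ≅ Q.obj I := e ≪≫ asIso (Q.map ι)
  have hIK : I.IsKInjective := CochainComplex.isKInjective_of_injective I a
  let P : ObjectProperty S.Modules := SheafOfModules.isQuasicoherent S.ringCatSheaf
  haveI : P.IsClosedUnderIsomorphisms :=
    inferInstanceAs (SheafOfModules.isQuasicoherent S.ringCatSheaf).IsClosedUnderIsomorphisms
  have eH : ∀ k : ℤ, (DerivedCategory.homologyFunctor X.Modules k).obj L ≅ I.homology k :=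
    fun k => (DerivedCategory.homologyFunctor X.Modules k).mapIso e' ≪≫
      (homologyFunctorFactors X.Modules k).app I
  have hres : P (((Scheme.Modules.pushforward f).mapHomologicalComplex
      (ComplexShape.up ℤ)).obj I |>.homology m) := by
    refine Groth.Agent.H16.CyclesSerre.prop_homology_map (Scheme.Modules.pushforward f) P
      (fun M hM => Groth.Agent.H71.QCoh.isQuasicoherent_of_isZero M hM)
      (fun {M N} φ hM hN => by
        haveI : M.IsQuasicoherent := hM
        haveI : N.IsQuasicoherent := hN
        exact Groth.Agent.H12.QCohAbelian.isQuasicoherent_kernel φ)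
      (fun {M N} φ hM hN => by
        haveI : M.IsQuasicoherent := hM
        haveI : N.IsQuasicoherent := hN
        exact Groth.Agent.H12.QCohAbelian.isQuasicoherent_cokernel φ)
      (fun Sc hSc h1 h3 => Groth.Agent.S2384.result Sc hSc h1 h3)
      I hIinj a (fun k hk => I.isZero_of_isStrictlyGE a k hk) ?_ m
    intro k p
    haveI : Coh.IsQCoh (I.homology k) :=
      (SheafOfModules.isQuasicoherent X.ringCatSheaf).prop_of_iso (eH k) (hL k)
    exact Groth.Agent.S0030.result f (I.homology k) p
  exact P.prop_of_iso
    (RFKInj.homologyIsoOfKInj (Scheme.Modules.pushforward f) I hIK L e' m).symm hres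

end Groth.Agent.H16.RpushQCohPlus
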