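import Groth.Agent.H16.RpushQCohLocal
import Groth.Agent.H16.RpushQCohPlus
import Groth.Agent.H16.RFExact
import Groth.Agent.H18.QCohLocal
import Groth.Agent.H45.Derived.TruncHomology

/-!
# `Rf_*` preserves `D_QCoh` for quasi-compact quasi-separated `f` (helper16)
-/

set_option autoImplicit false
universe u
open CategoryTheory CategoryTheory.Limits AlgebraicGeometry TopologicalSpace Opposite DerivedCategory
  Pretriangulated

attribute [local instance] HasDerivedCategory.standard

namespace Groth.Agent.H16.RpushQCoh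

variable {X : Scheme.{u}}

local notation "t" => DerivedCategory.TStructure.t (C := X.Modules)

lemma isQCohD_truncLT (K : DCoh.D X) (hK : DCoh.IsQCohD K) (a : ℤ) :
    DCoh.IsQCohD ((TStructure.t.truncLT a).obj K) := by
  intro i
  by_cases hi : i < a
  · haveI := Groth.Agent.H45.isIso_homologyMap_truncLTι K a i hi
    exact (SheafOfModules.isQuasicoherent X.ringCatSheaf).prop_of_iso
      (asIso ((homologyFunctor X.Modules i).map ((TStructure.t.truncLTι a).app K))).symm (hK i)
  · have h1 : ((TStructure.t.truncLT a).obj K).IsLE (a - 1) := inferInstance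
    exact Groth.Agent.H71.QCoh.isQuasicoherent_of_isZero _
      ((DerivedCategory.isLE_iff _ (a - 1)).1 h1 i (by omega))

lemma isZero_HD_truncLT (K : DCoh.D X) (a i : ℤ) (hi : a - 1 < i) :
    IsZero (DCoh.HD ((TStructure.t.truncLT a).obj K) i) := by
  have h1 : ((TStructure.t.truncLT a).obj K).IsLE (a - 1) := inferInstance
  exact (DerivedCategory.isLE_iff _ (a - 1)).1 h1 i hi

lemma isQCohD_truncGE (K : DCoh.D X) (hK : DCoh.IsQCohD K) (a : ℤ) :
    DCoh.IsQCohD ((TStructure.t.truncGE a).obj K) := by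
  intro i
  by_cases hi : a ≤ i
  · have h := Groth.Agent.H45.isIso_homologyMap_truncGEπ K a i hi
    exact (SheafOfModules.isQuasicoherent X.ringCatSheaf).prop_of_iso
      (@asIso _ _ _ _ ((homologyFunctor X.Modules i).map ((TStructure.t.truncGEπ a).app K)) h)
      (hK i)
  · have h1 : ((TStructure.t.truncGE a).obj K).IsGE a := inferInstance
    exact Groth.Agent.H71.QCoh.isQuasicoherent_of_isZero _
      ((DerivedCategory.isGE_iff _ a).1 h1 i (by omega))

/-- `H^i(E[1]) ≅ H^{i+1}(E)`. -/
noncomputable def HDShiftIso (E : DCoh.D X) (i : ℤ) :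
    DCoh.HD (E⟦(1 : ℤ)⟧) i ≅ DCoh.HD E (i + 1) :=
  ((homologyFunctor X.Modules 0).shiftIso 1 i (i + 1) (by omega)).app E

lemma isQCohD_shift_one (E : DCoh.D X) (hE : DCoh.IsQCohD E) : DCoh.IsQCohD (E⟦(1 : ℤ)⟧) :=
  fun i => (SheafOfModules.isQuasicoherent X.ringCatSheaf).prop_of_iso (HDShiftIso E i).symm
    (hE (i + 1))

variable {S : Scheme.{u}} (f : X ⟶ S)

theorem isQCohD_Rpush [QuasiCompact f] [QuasiSeparated f] [DCoh.HasRpush f]
    (K : DCoh.D X) (hK : DCoh.IsQCohD K) : DCoh.IsQCohD ((DCoh.Rpush f).obj K) := by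
  haveI : IsGrothendieckAbelian.{u} X.Modules :=
    Groth.Agent.H33.SheafMod.isGrothendieckAbelian _ X.ringCatSheaf
  intro m
  refine Groth.Agent.H18.isQuasicoherent_of_isOpenCover _ (fun V : S.affineOpens => V.1)
    (iSup_affineOpens_eq_top S) (fun V => ?_)
  obtain ⟨N₀, hN₀, hvan⟩ := RpushQCohLocal.exists_uniform_bound_affine f V.1 V.2
  let a : ℤ := m - N₀
  let T := (TStructure.t.triangleLTGE a).obj K
  have hT : T ∈ distTriang _ := TStructure.t.triangleLTGE_distinguished a K
  have hT' : T.rotate ∈ distTriang _ := rot_of_distTriang _ hT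
  let F := Scheme.Modules.pushforward f
  let R := Scheme.Modules.restrictFunctor V.1.ι
  haveI : R.Additive := (Scheme.Modules.restrictAdjunction V.1.ι).left_adjoint_additive
  let φ := (homologyFunctor S.Modules m).map ((RFExact.RF F).map T.mor₂)
  have w₁ : (homologyFunctor S.Modules m).map ((RFExact.RF F).map T.mor₁) ≫ φ = 0 := by
    rw [← Functor.map_comp, RFExact.comp_zero₁₂ F T hT, Functor.map_zero]
  have w₂ : φ ≫ (homologyFunctor S.Modules m).map ((RFExact.RF F).map T.rotate.mor₂) = 0 := by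
    rw [← Functor.map_comp]
    have h0 : (RFExact.RF F).map T.mor₂ ≫ (RFExact.RF F).map T.rotate.mor₂ = 0 :=
      RFExact.comp_zero₁₂ F T.rotate hT'
    rw [h0, Functor.map_zero]
  have e₁ := (RFExact.exact₂ F T hT m w₁).map R
  have e₂ := (RFExact.exact₂ F T.rotate hT' m w₂).map R
  -- the outer terms vanish over `V`
  have hz₁ : IsZero (R.obj ((homologyFunctor S.Modules m).obj ((RFExact.RF F).obj T.obj₁))) :=
    RpushQCohLocal.isZero_restrict_HD_Rpush f V.1 V.2 N₀ hN₀ hvan _ (isQCohD_truncLT K hK a)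
      (a - 1) (fun i hi => isZero_HD_truncLT K a i hi) m (by simp only [a]; omega)
  have hz₃ : IsZero (R.obj ((homologyFunctor S.Modules m).obj
      ((RFExact.RF F).obj T.rotate.obj₃))) :=
    RpushQCohLocal.isZero_restrict_HD_Rpush f V.1 V.2 N₀ hN₀ hvan _
      (isQCohD_shift_one _ (isQCohD_truncLT K hK a))
      (a - 2) (fun i hi => IsZero.of_iso (isZero_HD_truncLT K a (i + 1) (by omega))
        (HDShiftIso _ i)) m (by simp only [a]; omega)
  have hm : Mono (R.map φ) := e₁.mono_g (hz₁.eq_of_src _ _)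
  have he : Epi (R.map φ) := e₂.epi_f (hz₃.eq_of_tgt _ _)
  haveI := isIso_of_mono_of_epi (R.map φ)
  -- the bounded below part
  have hq : Coh.IsQCoh ((homologyFunctor S.Modules m).obj
      ((RFExact.RF F).obj ((TStructure.t.truncGE a).obj K))) :=
    RpushQCohPlus.isQCoh_HD_Rpush_of_isGE f _ (isQCohD_truncGE K hK a) a inferInstance m
  haveI : ((homologyFunctor S.Modules m).obj
      ((RFExact.RF F).obj ((TStructure.t.truncGE a).obj K))).IsQuasicoherent := hq
  have hq' : (R.obj ((homologyFunctor S.Modules m).obj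
      ((RFExact.RF F).obj ((TStructure.t.truncGE a).obj K)))).IsQuasicoherent := inferInstance
  exact (SheafOfModules.isQuasicoherent (↑V.1 : Scheme.{u}).ringCatSheaf).prop_of_iso
    (asIso (R.map φ)).symm hq'

end Groth.Agent.H16.RpushQCoh
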