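import Groth.Agent.H16.UnitAcyclic
import Groth.Agent.H16.RpushQCoh
import Groth.Agent.H45.KFlat.StupidFiltration
import Groth.Agent.H33.PC.QCohHD
import Groth.Agent.H67.UnitIso

/-!
# `f_* F ⟶ Rf_* F` is an isomorphism for complexes of `f_*`-acyclic quasi-coherent modules (helper16)
-/

set_option autoImplicit false
universe u
open CategoryTheory CategoryTheory.Limits AlgebraicGeometry TopologicalSpace Opposite DerivedCategory
  Pretriangulated

attribute [local instance] HasDerivedCategory.standard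

namespace Groth.Agent.H16.PushAcyclic

section Generic

universe v' u'

variable {𝒜 : Type u'} [Category.{v'} 𝒜] [Abelian 𝒜]

open Groth.Agent.H45

lemma epi_πStupidLE (K : CochainComplex 𝒜 ℤ) (m : ℤ) : Epi (πStupidLE K m) := by
  haveI : ∀ q, Epi ((πStupidLE K m).f q) := fun q => by
    by_cases hq : q ≤ m
    · haveI := isIso_πStupidLE_f K m q hq
      infer_instance
    · exact ⟨fun _ _ _ => (isZero_stupidTruncLE_X K m q (by lia)).eq_of_src _ _⟩
  exact HomologicalComplex.epi_of_epi_f _ inferInstance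

/-- the short exact sequence `0 ⟶ σ_{≥ a} K ⟶ K ⟶ σ_{≤ a - 1} K ⟶ 0`. -/
noncomputable def sigmaSES (K : CochainComplex 𝒜 ℤ) (a : ℤ) :
    ShortComplex (CochainComplex 𝒜 ℤ) :=
  ShortComplex.mk (ιSigmaGE K a) (πStupidLE K (a - 1)) (kernel.condition _)

lemma sigmaSES_shortExact (K : CochainComplex 𝒜 ℤ) (a : ℤ) : (sigmaSES K a).ShortExact where
  exact := ShortComplex.exact_of_f_is_kernel _ (kernelIsKernel (πStupidLE K (a - 1)))
  mono_f := inferInstanceAs (Mono (ιSigmaGE K a))
  epi_g := epi_πStupidLE K (a - 1)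

instance (K : CochainComplex 𝒜 ℤ) (a : ℤ) : (sigmaGE K a).IsStrictlyGE a := by
  rw [CochainComplex.isStrictlyGE_iff]
  exact fun i hi => isZero_sigmaGE_X K a i hi

lemma isIso_homologyMap_of_isIso_f {K L : CochainComplex 𝒜 ℤ} (φ : K ⟶ L) (m : ℤ)
    (h : ∀ q, m - 1 ≤ q → q ≤ m + 1 → IsIso (φ.f q)) :
    IsIso (HomologicalComplex.homologyMap φ m) := by
  let ψ := (HomologicalComplex.shortComplexFunctor 𝒜 (ComplexShape.up ℤ) m).map φ
  have h₁ : IsIso ψ.τ₁ := by
    change IsIso (φ.f ((ComplexShape.up ℤ).prev m))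
    exact h _ (by simp) (by simp; lia)
  have h₂ : IsIso ψ.τ₂ := by
    change IsIso (φ.f m)
    exact h _ (by lia) (by lia)
  have h₃ : IsIso ψ.τ₃ := by
    change IsIso (φ.f ((ComplexShape.up ℤ).next m))
    exact h _ (by simp; lia) (by simp)
  exact ShortComplex.isIso_homologyMap_of_epi_of_isIso_of_mono' ψ inferInstance h₂ inferInstance

end Generic

open Groth.Agent.H45 RFExact

variable {X S : Scheme.{u}} (f : X ⟶ S)

/-- `H^i(E[-1]) ≅ H^{i-1}(E)`. -/
noncomputable def HDShiftNegIso (E : DCoh.D X) (i : ℤ) :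
    DCoh.HD (E⟦(-1 : ℤ)⟧) i ≅ DCoh.HD E (i - 1) :=
  ((homologyFunctor X.Modules 0).shiftIso (-1) i (i - 1) (by omega)).app E

lemma isQCohD_shift_neg_one (E : DCoh.D X) (hE : DCoh.IsQCohD E) :
    DCoh.IsQCohD (E⟦(-1 : ℤ)⟧) :=
  fun i => (SheafOfModules.isQuasicoherent X.ringCatSheaf).prop_of_iso (HDShiftNegIso E i).symm
    (hE (i - 1))

/-- the stupid truncation `σ_{≤ b}` of a complex with quasi-coherent terms lies in `D_QCoh`. -/
lemma isQCohD_stupidTruncLE (F : CochainComplex X.Modules ℤ) (hq : ∀ n : ℤ, Coh.IsQCoh (F.X n))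
    (b : ℤ) : DCoh.IsQCohD (Q.obj (F.stupidTrunc (ComplexShape.embeddingUpIntLE b))) := by
  intro i
  refine (SheafOfModules.isQuasicoherent X.ringCatSheaf).prop_of_iso
    ((homologyFunctorFactors X.Modules i).app _).symm ?_
  refine Groth.Agent.H33.PC.isQuasicoherent_homology _ (fun q => ?_) i
  by_cases hqb : q ≤ b
  · have h := isIso_πStupidLE_f F b q hqb
    exact (SheafOfModules.isQuasicoherent X.ringCatSheaf).prop_of_iso
      (@asIso _ _ _ _ ((πStupidLE F b).f q) h) (hq q)
  · exact Groth.Agent.H71.QCoh.isQuasicoherent_of_isZero _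
      (isZero_stupidTruncLE_X F b q (by lia))

lemma isZero_HD_stupidTruncLE (F : CochainComplex X.Modules ℤ) (b i : ℤ) (hi : b < i) :
    IsZero (DCoh.HD (Q.obj (F.stupidTrunc (ComplexShape.embeddingUpIntLE b))) i) := by
  refine IsZero.of_iso ?_ ((homologyFunctorFactors X.Modules i).app _)
  exact (HomologicalComplex.exactAt_iff_isZero_homology _ _).1
    (HomologicalComplex.ExactAt.of_isZero (isZero_stupidTruncLE_X F b i hi))

/-- over an affine open of the base, `H^m` of the unit `Q(f_* F) ⟶ Rf_*(Q F)` is an isomorphism. -/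
theorem isIso_restrict_homology_unit [QuasiCompact f] [QuasiSeparated f]
    [HasInjectiveResolutions X.Modules] [DCoh.HasRpush f]
    (F : CochainComplex X.Modules ℤ) (hq : ∀ n : ℤ, Coh.IsQCoh (F.X n))
    (hac : ∀ (n : ℤ) (i : ℕ), 0 < i → IsZero ((Coh.Rpush f i).obj (F.X n)))
    (m : ℤ) (V₀ : S.Opens) (hV₀ : IsAffineOpen V₀) :
    IsIso ((Scheme.Modules.restrictFunctor V₀.ι).map ((homologyFunctor S.Modules m).map
      ((α (Scheme.Modules.pushforward f)).app
        ((HomotopyCategory.quotient X.Modules (ComplexShape.up ℤ)).obj F)))) := by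
  haveI : IsGrothendieckAbelian.{u} X.Modules :=
    Groth.Agent.H33.SheafMod.isGrothendieckAbelian _ X.ringCatSheaf
  obtain ⟨N₀, hN₀, hvan⟩ := RpushQCohLocal.exists_uniform_bound_affine f V₀ hV₀
  let Φf := Scheme.Modules.pushforward f
  let qA := HomotopyCategory.quotient X.Modules (ComplexShape.up ℤ)
  let H := homologyFunctor S.Modules m
  let R := Scheme.Modules.restrictFunctor V₀.ι
  haveI : R.Additive := (Scheme.Modules.restrictAdjunction V₀.ι).left_adjoint_additive
  let a : ℤ := m - N₀ - 1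
  let ι := ιSigmaGE F a
  have hSc := sigmaSES_shortExact F a
  let T := triangleOfSES hSc
  have hT : T ∈ distTriang _ := triangleOfSES_distinguished hSc
  have hT' : T.invRotate ∈ distTriang _ := inv_rot_of_distTriang _ hT
  -- (1) the unit is an isomorphism on the bounded below part
  have i2 : IsIso ((α Φf).app (qA.obj (sigmaGE F a))) := by
    refine UnitAcyclic.isIso_α_of_acyclic Φf (sigmaGE F a) a (fun n => ?_)
    by_cases hn : a ≤ n
    · have hiso := isIso_ιSigmaGE_f F a n hn
      intro i hi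
      exact IsZero.of_iso (hac n i hi)
        ((Φf.rightDerived i).mapIso (@asIso _ _ _ _ ((ιSigmaGE F a).f n) hiso))
    · exact Groth.Agent.H30.Leray.acyclic_of_isZero Φf (isZero_sigmaGE_X F a n (by lia))
  -- (3) the map on `H^m(f_* -)` is an isomorphism
  have i1 : IsIso (H.map ((Φ Φf).map (qA.map ι))) := by
    rw [UnitAcyclic.isIso_homology_Φ_map_quotient_iff]
    refine isIso_homologyMap_of_isIso_f _ m (fun q h1 h2 => ?_)
    have hiso := isIso_ιSigmaGE_f F a q (by simp only [a]; lia)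
    change IsIso (Φf.map ((ιSigmaGE F a).f q))
    infer_instance
  -- (2) the map on `H^m(Rf_* -)` is an isomorphism over `V₀`
  have i3 : IsIso (R.map (H.map ((RF Φf).map T.mor₁))) := by
    have w₁ : H.map ((RF Φf).map T.mor₁) ≫ H.map ((RF Φf).map T.mor₂) = 0 := by
      rw [← Functor.map_comp, RFExact.comp_zero₁₂ Φf T hT, Functor.map_zero]
    have w₂ : H.map ((RF Φf).map T.invRotate.mor₁) ≫ H.map ((RF Φf).map T.invRotate.mor₂) = 0 := by
      rw [← Functor.map_comp, RFExact.comp_zero₁₂ Φf T.invRotate hT', Functor.map_zero]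
    have e₁ := (RFExact.exact₂ Φf T hT m w₁).map R
    have e₂ := (RFExact.exact₂ Φf T.invRotate hT' m w₂).map R
    have hz₃ : IsZero (R.obj (H.obj ((RF Φf).obj T.obj₃))) :=
      RpushQCohLocal.isZero_restrict_HD_Rpush f V₀ hV₀ N₀ hN₀ hvan _
        (isQCohD_stupidTruncLE F hq (a - 1)) (a - 1)
        (fun i hi => isZero_HD_stupidTruncLE F (a - 1) i hi) m (by simp only [a]; omega)
    have hz₁ : IsZero (R.obj (H.obj ((RF Φf).obj T.invRotate.obj₁))) :=
      RpushQCohLocal.isZero_restrict_HD_Rpush f V₀ hV₀ N₀ hN₀ hvan _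
        (isQCohD_shift_neg_one _ (isQCohD_stupidTruncLE F hq (a - 1))) a
        (fun i hi => IsZero.of_iso (isZero_HD_stupidTruncLE F (a - 1) (i - 1) (by omega))
          (HDShiftNegIso _ i)) m (by simp only [a]; omega)
    have he : Epi (R.map (H.map ((RF Φf).map T.mor₁))) := e₁.epi_f (hz₃.eq_of_tgt _ _)
    have hm : Mono (R.map (H.map ((RF Φf).map T.mor₁))) := e₂.mono_g (hz₁.eq_of_src _ _)
    exact isIso_of_mono_of_epi _
  -- naturality of the unit
  have nat := (α Φf).naturality (qA.map ι)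
  have nat' : R.map (H.map ((Φ Φf).map (qA.map ι))) ≫ R.map (H.map ((α Φf).app (qA.obj F))) =
      R.map (H.map ((α Φf).app (qA.obj (sigmaGE F a)))) ≫ R.map (H.map ((RF Φf).map T.mor₁)) := by
    rw [← Functor.map_comp, ← Functor.map_comp, ← Functor.map_comp, ← Functor.map_comp, nat]
    rfl
  have i4 : IsIso (R.map (H.map ((Φ Φf).map (qA.map ι))) ≫
      R.map (H.map ((α Φf).app (qA.obj F)))) := by
    rw [nat']
    have j1 : IsIso (H.map ((α Φf).app (qA.obj (sigmaGE F a)))) := Functor.map_isIso H _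
    have j2 : IsIso (R.map (H.map ((α Φf).app (qA.obj (sigmaGE F a))))) := Functor.map_isIso R _
    exact @IsIso.comp_isIso _ _ _ _ _ _ _ j2 i3
  have j3 : IsIso (R.map (H.map ((Φ Φf).map (qA.map ι)))) := Functor.map_isIso R _
  exact IsIso.of_isIso_comp_left (R.map (H.map ((Φ Φf).map (qA.map ι)))) _

end Groth.Agent.H16.PushAcyclic
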