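import Groth.Agent.H18.QCohCriterion
import Groth.Agent.H18.QCohLocal
import Groth.Agent.H47.QCohAffine

/-!
# Arbitrary (small) coproducts of quasi-coherent modules on a scheme are quasi-coherent (helper16)
-/

set_option autoImplicit false
universe u
open CategoryTheory CategoryTheory.Limits AlgebraicGeometry TopologicalSpace Opposite

namespace Groth.Agent.H16.QCohSigma

theorem isQuasicoherent_sigma {X : Scheme.{u}} {ι : Type u} (M : ι → X.Modules)
    (hM : ∀ i, (M i).IsQuasicoherent) : (∐ M).IsQuasicoherent := by
  refine Groth.Agent.H18.isQuasicoherent_of_isOpenCover (∐ M)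
    (fun U : X.affineOpens => (U : X.Opens)) (AlgebraicGeometry.iSup_affineOpens_eq_top X) (fun U => ?_)
  refine Groth.Agent.H18.isQuasicoherent_restrict_ι_of_fromSpec _ U.2 ?_
  let f := U.2.fromSpec
  haveI : PreservesColimitsOfShape (Discrete ι) (Scheme.Modules.restrictFunctor f) :=
    (Scheme.Modules.restrictAdjunction f).leftAdjoint_preservesColimits.preservesColimitsOfShape
  let e : (Scheme.Modules.restrictFunctor f).obj (∐ M) ≅
      ∐ fun i => (Scheme.Modules.restrictFunctor f).obj (M i) :=
    PreservesCoproduct.iso (Scheme.Modules.restrictFunctor f) M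
  have h1 : (∐ fun i => (Scheme.Modules.restrictFunctor f).obj (M i)).IsQuasicoherent := by
    refine Groth.Agent.H47.isQuasicoherent_colimit
      (Discrete.functor fun i => (Scheme.Modules.restrictFunctor f).obj (M i)) ?_
    intro j
    haveI := hM j.as
    change ((M j.as).restrict f).IsQuasicoherent
    infer_instance
  exact (SheafOfModules.isQuasicoherent (Spec Γ(X, (U : X.Opens))).ringCatSheaf).prop_of_iso e.symm h1

end Groth.Agent.H16.QCohSigma
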