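import Mathlib
import Groth.Agent.H16.LocProd
import Groth.Agent.H16.HoProd
import Groth.Agent.H16.AcyclicProd

/-!
# `Q : CochainComplex B ℤ ⥤ D(B)` preserves products of shape `J` when these are exact in `B` (helper16)

Dual of `Groth.Agent.H33.BrownGA.isColimitQ`.
-/

set_option autoImplicit false
universe w w' v u
open CategoryTheory CategoryTheory.Limits

namespace Groth.Agent.H16.QProd

variable {B : Type u} [Category.{v} B] [Abelian B] [HasDerivedCategory.{w} B]
  {J : Type w'} [HasProductsOfShape J B] [(lim : (Discrete J ⥤ B) ⥤ B).PreservesEpimorphisms]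

lemma acyclic_prod_closed (C : J → HomotopyCategory B (ComplexShape.up ℤ)) [HasProduct C]
    (hC : ∀ j, HomotopyCategory.subcategoryAcyclic B (C j)) :
    HomotopyCategory.subcategoryAcyclic B (∏ᶜ C) := by
  have hF := fun j : J => HomotopyCategory.quotient_obj_surjective (C j)
  choose K hK' using hF
  obtain rfl : C = fun j => (HomotopyCategory.quotient B (ComplexShape.up ℤ)).obj (K j) :=
    funext (fun j => (hK' j).symm)
  have e : (∏ᶜ fun j => (HomotopyCategory.quotient B (ComplexShape.up ℤ)).obj (K j)) ≅
      (HomotopyCategory.quotient B (ComplexShape.up ℤ)).obj (∏ᶜ K) :=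
    IsLimit.conePointUniqueUpToIso (productIsProduct _)
      (Groth.Agent.H16.HoProd.isLimitQuotient K)
  refine (HomotopyCategory.subcategoryAcyclic B).prop_of_iso e.symm ?_
  rw [HomotopyCategory.quotient_obj_mem_subcategoryAcyclic_iff_exactAt]
  intro n
  apply Groth.Agent.H16.AcyclicProd.exactAt_pi
  intro j n
  exact (HomotopyCategory.quotient_obj_mem_subcategoryAcyclic_iff_exactAt (K j)).1 (hC j) n

omit [HasDerivedCategory.{w} B] [(lim : (Discrete J ⥤ B) ⥤ B).PreservesEpimorphisms] in
lemma hasProductsOfShape_homotopyCategory :
    HasProductsOfShape J (HomotopyCategory B (ComplexShape.up ℤ)) := by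
  constructor
  intro F
  have hF := fun j : J => HomotopyCategory.quotient_obj_surjective (F.obj ⟨j⟩)
  choose K hK using hF
  let e : Discrete.functor (fun j => (HomotopyCategory.quotient B (ComplexShape.up ℤ)).obj (K j)) ≅ F :=
    Discrete.natIso (fun j => eqToIso (hK j.as))
  have : HasLimit (Discrete.functor
      (fun j => (HomotopyCategory.quotient B (ComplexShape.up ℤ)).obj (K j))) :=
    ⟨⟨⟨_, Groth.Agent.H16.HoProd.isLimitQuotient K⟩⟩⟩
  exact hasLimit_of_iso e

/-- `Q` preserves products of complexes. -/
lemma preservesLimitQ (K : J → CochainComplex B ℤ) :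
    PreservesLimit (Discrete.functor K) (DerivedCategory.Q (C := B)) := by
  have := hasProductsOfShape_homotopyCategory (B := B) (J := J)
  have h1 : PreservesLimit (Discrete.functor K)
      (HomotopyCategory.quotient B (ComplexShape.up ℤ)) :=
    preservesLimit_of_preserves_limit_cone (productIsProduct K)
      ((isLimitMapConeFanMkEquiv _ _ _).symm
        (Groth.Agent.H16.HoProd.isLimitQuotient K))
  let X : J → HomotopyCategory B (ComplexShape.up ℤ) :=
    fun j => (HomotopyCategory.quotient B (ComplexShape.up ℤ)).obj (K j)
  have h2 : PreservesLimit (Discrete.functor X) (DerivedCategory.Qh (C := B)) :=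
    preservesLimit_of_preserves_limit_cone (productIsProduct X)
      ((isLimitMapConeFanMkEquiv _ _ _).symm
        (Groth.Agent.H16.LocProd.isLimitMap
          (HomotopyCategory.subcategoryAcyclic B) DerivedCategory.Qh
          (fun C hC => acyclic_prod_closed C hC) X))
  have h2' : PreservesLimit (Discrete.functor K ⋙
      HomotopyCategory.quotient B (ComplexShape.up ℤ)) (DerivedCategory.Qh (C := B)) :=
    preservesLimit_of_iso_diagram _ (Discrete.natIso (fun _ => Iso.refl _) :
      Discrete.functor X ≅ Discrete.functor K ⋙ HomotopyCategory.quotient B (ComplexShape.up ℤ))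
  have h3 : PreservesLimit (Discrete.functor K)
      (HomotopyCategory.quotient B (ComplexShape.up ℤ) ⋙ DerivedCategory.Qh) :=
    inferInstance
  exact preservesLimit_of_natIso _ (DerivedCategory.quotientCompQhIso B)

/-- `Q` sends the product of complexes to a product in the derived category. -/
noncomputable def isLimitQ (K : J → CochainComplex B ℤ) :
    IsLimit (Fan.mk (DerivedCategory.Q.obj (∏ᶜ K))
      (fun j => DerivedCategory.Q.map (Pi.π K j))) := by
  have h4 := preservesLimitQ (B := B) K
  exact (isLimitMapConeFanMkEquiv _ _ _)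
    (isLimitOfPreserves (DerivedCategory.Q (C := B)) (productIsProduct K))

end Groth.Agent.H16.QProd
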