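import Groth.Agent.H16.CyclesShiftD
import Groth.Agent.H5.KInjDeriv
import Groth.Agent.H6.InjHorseshoe
import Groth.Agent.H33.KInj.Main

/-!
# Cohomological bounds for the total right derived functor on bounded objects (helper16)
-/

set_option autoImplicit false
universe w' w v' u' v u
open CategoryTheory CategoryTheory.Limits DerivedCategory

namespace Groth.Agent.H16.RFBounds

variable {A : Type u} [Category.{v} A] [Abelian A] [IsGrothendieckAbelian.{v} A]
  [HasDerivedCategory.{w} A]
  {B : Type u'} [Category.{v'} B] [Abelian B] [HasDerivedCategory.{w'} B]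
  (F : A ⥤ B) [F.Additive] [HasInjectiveResolutions A]
  [(F.mapHomotopyCategory (ComplexShape.up ℤ) ⋙ DerivedCategory.Qh).HasRightDerivedFunctor
    (HomotopyCategory.quasiIso A (ComplexShape.up ℤ))]

theorem isZero_homology_totalRightDerived (N : ℕ) (E : DerivedCategory A) (a b : ℤ)
    (hEF : ∀ (k : ℤ) (p : ℕ), N ≤ p →
      IsZero ((F.rightDerived p).obj ((DerivedCategory.homologyFunctor A k).obj E)))
    (hab : ∀ i : ℤ, i < a ∨ b < i → IsZero ((DerivedCategory.homologyFunctor A i).obj E))
    (i : ℤ) (hi : i < a ∨ b + N - 1 < i) :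
    IsZero ((DerivedCategory.homologyFunctor B i).obj
      (((F.mapHomotopyCategory (ComplexShape.up ℤ) ⋙ DerivedCategory.Qh).totalRightDerived
        DerivedCategory.Qh (HomotopyCategory.quasiIso A (ComplexShape.up ℤ))).obj E)) := by
  have hKinj : ∀ K : CochainComplex A ℤ, ∃ (I : CochainComplex A ℤ) (f : K ⟶ I),
      I.IsKInjective ∧ QuasiIso f := fun K => by
    obtain ⟨I, f, h1, h2, -, -⟩ := Groth.Agent.H33.KInj.exists_kInjective_resolution K
    exact ⟨I, f, h1, h2⟩
  have hGE : E.IsGE a := (DerivedCategory.isGE_iff E a).2 (fun i hi => hab i (Or.inl hi))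
  obtain ⟨K, hK, ⟨e⟩⟩ := E.exists_iso_Q_obj_of_isGE a
  obtain ⟨I, ι, -, hι, hIinj, hIa⟩ := Groth.Agent.H6.exists_mono_quasiIso_injective_ge K a
  have : IsIso (Q.map ι) := inferInstance
  let e' : E ≅ Q.obj I := e ≪≫ asIso (Q.map ι)
  have hIK : I.IsKInjective := CochainComplex.isKInjective_of_injective I a
  let Φ := F.mapHomotopyCategory (ComplexShape.up ℤ) ⋙ DerivedCategory.Qh (C := B)
  let RF := Φ.totalRightDerived DerivedCategory.Qh (HomotopyCategory.quasiIso A (ComplexShape.up ℤ))
  let α := Φ.totalRightDerivedUnit DerivedCategory.Qh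
    (HomotopyCategory.quasiIso A (ComplexShape.up ℤ))
  have : IsIso (α.app ((HomotopyCategory.quotient A (ComplexShape.up ℤ)).obj I)) :=
    Groth.Agent.H5.KInjDeriv.isIso_totalRightDerivedUnit_app hKinj Φ I hIK
  let FI := (F.mapHomologicalComplex (ComplexShape.up ℤ)).obj I
  let e₁ : RF.obj E ≅ Q.obj FI :=
    RF.mapIso (e' ≪≫ ((quotientCompQhIso A).app I).symm) ≪≫
      (asIso (α.app ((HomotopyCategory.quotient A (ComplexShape.up ℤ)).obj I))).symm ≪≫
      Qh.mapIso ((F.mapHomotopyCategoryFactors (ComplexShape.up ℤ)).app I) ≪≫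
      (quotientCompQhIso B).app FI
  let e₂ : (DerivedCategory.homologyFunctor B i).obj (RF.obj E) ≅ FI.homology i :=
    (DerivedCategory.homologyFunctor B i).mapIso e₁ ≪≫ (homologyFunctorFactors B i).app FI
  refine IsZero.of_iso ?_ e₂
  have eH : ∀ k : ℤ, (DerivedCategory.homologyFunctor A k).obj E ≅ I.homology k := fun k =>
    (DerivedCategory.homologyFunctor A k).mapIso e' ≪≫ (homologyFunctorFactors A k).app I
  have ha : ∀ k, k < a → IsZero (I.X k) := fun k hk => I.isZero_of_isStrictlyGE a k hk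
  have hb : ∀ k, b < k → IsZero (I.homology k) := fun k hk =>
    IsZero.of_iso (hab k (Or.inr hk)) (eH k).symm
  have hH : ∀ (k : ℤ) (p : ℕ), N ≤ p → IsZero ((F.rightDerived p).obj (I.homology k)) :=
    fun k p hp => IsZero.of_iso (hEF k p hp) ((F.rightDerived p).mapIso (eH k).symm)
  apply HomologicalComplex.ExactAt.isZero_homology
  rcases hi with hi | hi
  · exact Groth.Agent.H16.CyclesShift.exactAt_map_of_lt F I a ha i hi
  · exact Groth.Agent.H16.CyclesShift.exactAt_map F I hIinj a b N ha hb hH i hi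

end Groth.Agent.H16.RFBounds
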