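import Mathlib.CategoryTheory.Triangulated.Pretriangulated
import Groth.Prelude.Def_DCoh2

/-!
# Derived limits computed through an arbitrary model of the product (helper16)
-/

set_option autoImplicit false
universe v' u'
open CategoryTheory CategoryTheory.Limits Pretriangulated

namespace Groth.Agent.H16.RlimTransport

variable {T : Type u'} [Category.{v'} T] [Preadditive T] [HasZeroObject T] [HasShift T ℤ]
  [∀ n : ℤ, (shiftFunctor T n).Additive] [Pretriangulated T]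
  (K : ℕ → T) (t : ∀ n, K (n + 1) ⟶ K n) [HasProduct K]

/-- the standard map "identity minus shift". -/
noncomputable abbrev g : ∏ᶜ K ⟶ ∏ᶜ K := Pi.lift fun n => Pi.π K n - Pi.π K (n + 1) ≫ t n

section

variable {K t} {Pp : T} (p : ∀ n, Pp ⟶ K n) (hp : IsLimit (Fan.mk Pp p)) (gp : Pp ⟶ Pp)
  (hgp : ∀ n, gp ≫ p n = p n - p (n + 1) ≫ t n)

/-- the comparison isomorphism with the chosen product. -/
noncomputable def θ : Pp ≅ ∏ᶜ K :=
  IsLimit.conePointUniqueUpToIso hp (productIsProduct K)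

lemma θ_hom_π (n : ℕ) : (θ p hp).hom ≫ Pi.π K n = p n :=
  IsLimit.conePointUniqueUpToIso_hom_comp hp (productIsProduct K) ⟨n⟩

include hgp in
lemma θ_comm : gp ≫ (θ p hp).hom = (θ p hp).hom ≫ g K t := by
  apply Pi.hom_ext
  intro n
  rw [Category.assoc, Category.assoc, θ_hom_π, Pi.lift_π, Preadditive.comp_sub, ← Category.assoc,
    θ_hom_π, θ_hom_π, hgp]

include hp hgp in
/-- a distinguished triangle on a model of the product exhibits a derived limit. -/
theorem isRlim_of_triangle {M : T} (u : M ⟶ Pp) (v : Pp ⟶ M⟦(1 : ℤ)⟧)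
    (h : Triangle.mk u gp v ∈ distTriang T) : DCoh.IsRlim K t M := by
  refine ⟨u ≫ (θ p hp).hom, (θ p hp).inv ≫ v, ?_⟩
  refine isomorphic_distinguished _ h _ ?_
  refine Triangle.isoMk _ _ (Iso.refl _) (θ p hp).symm (θ p hp).symm ?_ ?_ ?_
  · change (u ≫ (θ p hp).hom) ≫ (θ p hp).inv = 𝟙 _ ≫ u
    rw [Category.assoc, Iso.hom_inv_id, Category.comp_id, Category.id_comp]
  · change g K t ≫ (θ p hp).inv = (θ p hp).inv ≫ gp
    rw [← cancel_mono (θ p hp).hom, Category.assoc, Category.assoc, Iso.inv_hom_id,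
      Category.comp_id, θ_comm p hp gp hgp, Iso.inv_hom_id_assoc]
  · change ((θ p hp).inv ≫ v) ≫ (𝟙 M)⟦(1 : ℤ)⟧' = (θ p hp).inv ≫ v
    rw [CategoryTheory.Functor.map_id, Category.comp_id]

include hp hgp in
/-- any derived limit is isomorphic to the cocone of a model. -/
theorem nonempty_iso_of_isRlim {L : T} (hL : DCoh.IsRlim K t L) {M : T} (u : M ⟶ Pp)
    (v : Pp ⟶ M⟦(1 : ℤ)⟧) (h : Triangle.mk u gp v ∈ distTriang T) : Nonempty (L ≅ M) := by
  obtain ⟨a, c, hc⟩ := hL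
  have h1 := rot_of_distTriang _ hc
  have h2 := rot_of_distTriang _ h
  obtain ⟨e', -, -⟩ := exists_iso_of_arrow_iso _ _ h1 h2
    (Arrow.isoMk (θ p hp).symm (θ p hp).symm (by
      symm
      change g K t ≫ (θ p hp).inv = (θ p hp).inv ≫ gp
      rw [← cancel_mono (θ p hp).hom, Category.assoc, Category.assoc, Iso.inv_hom_id,
        Category.comp_id, θ_comm p hp gp hgp, Iso.inv_hom_id_assoc]))
  let e3 : L⟦(1 : ℤ)⟧ ≅ M⟦(1 : ℤ)⟧ := Triangle.π₃.mapIso e'
  exact ⟨(shiftFunctor T (1 : ℤ)).preimageIso e3⟩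

end

variable {K t} in
/-- transport of a derived limit along an isomorphism. -/
theorem isRlim_of_iso {L L' : T} (e : L ≅ L') (h : DCoh.IsRlim K t L) : DCoh.IsRlim K t L' := by
  obtain ⟨a, c, hc⟩ := h
  refine ⟨e.inv ≫ a, c ≫ e.hom⟦(1 : ℤ)⟧', ?_⟩
  refine isomorphic_distinguished _ hc _ ?_
  refine Triangle.isoMk _ _ e.symm (Iso.refl _) (Iso.refl _) ?_ ?_ ?_
  · change (e.inv ≫ a) ≫ 𝟙 _ = e.inv ≫ a
    exact Category.comp_id _
  · exact (Category.comp_id _).trans (Category.id_comp _).symm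
  · change (c ≫ e.hom⟦(1 : ℤ)⟧') ≫ e.inv⟦(1 : ℤ)⟧' = 𝟙 _ ≫ c
    rw [Category.assoc, ← Functor.map_comp, Iso.hom_inv_id, CategoryTheory.Functor.map_id,
      Category.comp_id, Category.id_comp]

end Groth.Agent.H16.RlimTransport
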