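import Groth.Agent.H16.QProd
import Groth.Agent.H16.RlimTransport
import Groth.Agent.H16.RlimInjC
import Groth.Agent.H5.KInjDeriv
import Groth.Agent.H6.DerivedProd
import Groth.Agent.H33.KInj.Main

/-!
# Total right derived functors commute with derived limits (helper16)
-/

set_option autoImplicit false
universe w t v u
open CategoryTheory CategoryTheory.Limits Pretriangulated

namespace Groth.Agent.H16.RFRlim

section fan

variable {C : Type*} [Category C] {J : Type*} {Z Z' : J → C} {X : C}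

/-- transport of a limit fan along isomorphisms of the components. -/
def isLimitFanOfIso (π : ∀ j, X ⟶ Z j) (h : IsLimit (Fan.mk X π)) (b : ∀ j, Z j ≅ Z' j) :
    IsLimit (Fan.mk X (fun j => π j ≫ (b j).hom)) :=
  Fan.IsLimit.mk _ (fun s => Fan.IsLimit.lift h (fun j => s.proj j ≫ (b j).inv))
    (fun s j => by
      have h1 : Fan.IsLimit.lift h (fun j => s.proj j ≫ (b j).inv) ≫ π j =
          s.proj j ≫ (b j).inv := Fan.IsLimit.fac h (fun j => s.proj j ≫ (b j).inv) j
      change Fan.IsLimit.lift h (fun j => s.proj j ≫ (b j).inv) ≫ π j ≫ (b j).hom = s.proj j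
      rw [← Category.assoc, h1, Category.assoc, Iso.inv_hom_id, Category.comp_id])
    (fun s m hm => by
      apply Fan.IsLimit.hom_ext h
      intro j
      have h1 : Fan.IsLimit.lift h (fun j => s.proj j ≫ (b j).inv) ≫ π j =
          s.proj j ≫ (b j).inv := Fan.IsLimit.fac h (fun j => s.proj j ≫ (b j).inv) j
      have h2 : m ≫ π j ≫ (b j).hom = s.proj j := hm j
      change m ≫ π j = _ ≫ π j
      rw [h1, ← h2, Category.assoc, Category.assoc, Iso.hom_inv_id, Category.comp_id])

/-- a functor preserving the product sends the product fan to a limit fan. -/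
noncomputable def isLimitFanMap {D : Type*} [Category D] (G : C ⥤ D) (K : J → C) [HasProduct K]
    [PreservesLimit (Discrete.functor K) G] :
    IsLimit (Fan.mk (G.obj (∏ᶜ K)) (fun j => G.map (Pi.π K j))) :=
  (isLimitMapConeFanMkEquiv _ _ _) (isLimitOfPreserves G (productIsProduct K))

end fan

section A

open DerivedCategory

variable {A : Type u} [Category.{v} A] [Abelian A] [HasDerivedCategory.{w} A]
  {ι : Type t} [HasLimitsOfShape (Discrete ι) A] (I : ι → CochainComplex A ℤ)

/-- `Q` preserves products of K-injective complexes. -/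
lemma preservesLimit_Q_of_isKInjective (hI : ∀ n, (I n).IsKInjective) :
    PreservesLimit (Discrete.functor I) (DerivedCategory.Q (C := A)) := by
  apply preservesLimit_of_preserves_limit_cone (productIsProduct I)
  refine (isLimitMapConeFanMkEquiv _ _ _).symm ?_
  have hbij : ∀ (T : DerivedCategory A), Function.Bijective
      (fun (φ : T ⟶ Q.obj (∏ᶜ I)) => fun n => φ ≫ Q.map (Pi.π I n)) := by
    intro T
    let Y := (Q : _ ⥤ DerivedCategory A).objPreimage T
    let eT : Q.obj Y ≅ T := (Q : _ ⥤ DerivedCategory A).objObjPreimageIso T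
    have hb := Groth.Agent.H6.DerivedProd.bijective_Q (Fan.mk (∏ᶜ I) (Pi.π I))
      (productIsProduct I) hI Y
    constructor
    · intro φ φ' h
      have : eT.hom ≫ φ = eT.hom ≫ φ' := by
        apply hb.injective
        funext n
        have hn : φ ≫ Q.map (Pi.π I n) = φ' ≫ Q.map (Pi.π I n) := congrFun h n
        change (eT.hom ≫ φ) ≫ Q.map (Pi.π I n) = (eT.hom ≫ φ') ≫ Q.map (Pi.π I n)
        rw [Category.assoc, Category.assoc, hn]
      exact (cancel_epi _).mp this
    · intro ψ
      obtain ⟨φ, hφ⟩ := hb.surjective (fun n => eT.hom ≫ ψ n)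
      refine ⟨eT.inv ≫ φ, ?_⟩
      funext n
      have hn : φ ≫ Q.map (Pi.π I n) = eT.hom ≫ ψ n := congrFun hφ n
      change (eT.inv ≫ φ) ≫ Q.map (Pi.π I n) = ψ n
      rw [Category.assoc, hn, Iso.inv_hom_id_assoc]
  exact Fan.IsLimit.mk _ (fun s => ((hbij s.pt).surjective s.proj).choose)
    (fun s n => congrFun ((hbij s.pt).surjective s.proj).choose_spec n)
    (fun s m hm => (hbij s.pt).injective (by
      funext n
      exact (hm n).trans (congrFun ((hbij s.pt).surjective s.proj).choose_spec n).symm))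

end A

section main

open DerivedCategory

variable {A : Type u} [Category.{v} A] [Abelian A] [IsGrothendieckAbelian.{v} A]
    [HasDerivedCategory.{v} A] {B : Type u} [Category.{v} B] [Abelian B] [HasDerivedCategory.{v} B]
    [HasProductsOfShape ℕ B] [(lim : (Discrete ℕ ⥤ B) ⥤ B).PreservesEpimorphisms]
    (F : A ⥤ B) [F.Additive] [PreservesLimitsOfShape (Discrete ℕ) F]

/-- the functor to be derived. -/
noncomputable abbrev Φ : HomotopyCategory A (ComplexShape.up ℤ) ⥤ DerivedCategory B :=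
  F.mapHomotopyCategory (ComplexShape.up ℤ) ⋙ DerivedCategory.Qh

omit [IsGrothendieckAbelian.{v} A] [HasDerivedCategory.{v} A] in
lemma preservesLimit_quotient_comp_Φ [HasProductsOfShape ℕ A] (I : ℕ → CochainComplex A ℤ) :
    PreservesLimit (Discrete.functor I)
      (HomotopyCategory.quotient A (ComplexShape.up ℤ) ⋙ Φ F) := by
  have h1 : PreservesLimit (Discrete.functor I)
      (F.mapHomologicalComplex (ComplexShape.up ℤ)) := inferInstance
  have h2 : PreservesLimit (Discrete.functor I ⋙ F.mapHomologicalComplex (ComplexShape.up ℤ))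
      (DerivedCategory.Q (C := B)) := by
    have := QProd.preservesLimitQ (B := B)
      (fun n => (F.mapHomologicalComplex (ComplexShape.up ℤ)).obj (I n))
    exact preservesLimit_of_iso_diagram _ (Discrete.natIso (fun _ => Iso.refl _) :
      Discrete.functor (fun n => (F.mapHomologicalComplex (ComplexShape.up ℤ)).obj (I n)) ≅
        Discrete.functor I ⋙ F.mapHomologicalComplex (ComplexShape.up ℤ))
  have h3 : PreservesLimit (Discrete.functor I)
      (F.mapHomologicalComplex (ComplexShape.up ℤ) ⋙ DerivedCategory.Q (C := B)) := inferInstance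
  let e : F.mapHomologicalComplex (ComplexShape.up ℤ) ⋙ DerivedCategory.Q (C := B) ≅
      HomotopyCategory.quotient A (ComplexShape.up ℤ) ⋙ Φ F :=
    Functor.isoWhiskerLeft _ (quotientCompQhIso B).symm ≪≫ (Functor.associator _ _ _).symm ≪≫
      Functor.isoWhiskerRight (F.mapHomotopyCategoryFactors _).symm Qh ≪≫
      Functor.associator _ _ _
  exact preservesLimit_of_natIso _ e

variable [(Φ F).HasRightDerivedFunctor (HomotopyCategory.quasiIso A (ComplexShape.up ℤ))]

/-- the total right derived functor. -/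
noncomputable abbrev RF : DerivedCategory A ⥤ DerivedCategory B :=
  (Φ F).totalRightDerived DerivedCategory.Qh (HomotopyCategory.quasiIso A (ComplexShape.up ℤ))

/-- its unit. -/
noncomputable abbrev α : Φ F ⟶ DerivedCategory.Qh ⋙ RF F :=
  (Φ F).totalRightDerivedUnit DerivedCategory.Qh (HomotopyCategory.quasiIso A (ComplexShape.up ℤ))

omit [HasDerivedCategory.{v} A] in
lemma hKinj : ∀ K : CochainComplex A ℤ, ∃ (I : CochainComplex A ℤ) (f : K ⟶ I),
    I.IsKInjective ∧ QuasiIso f := fun K => by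
  obtain ⟨I, f, h1, h2, -, -⟩ := Groth.Agent.H33.KInj.exists_kInjective_resolution K
  exact ⟨I, f, h1, h2⟩

theorem isRlim_RF (K : ℕ → DerivedCategory A) (t : ∀ n, K (n + 1) ⟶ K n)
    (L : DerivedCategory A) [HasProduct K] [HasProduct fun n => (RF F).obj (K n)]
    (hL : DCoh.IsRlim K t L) :
    DCoh.IsRlim (fun n => (RF F).obj (K n)) (fun n => (RF F).map (t n)) ((RF F).obj L) := by
  have h1 : ∀ n, ∃ (I : CochainComplex A ℤ), I.IsKInjective ∧ Nonempty (Q.obj I ≅ K n) := by
    intro n
    obtain ⟨I, f, hI, hf⟩ := hKinj (Q.objPreimage (K n))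
    exact ⟨I, hI, ⟨(asIso (Q.map f)).symm ≪≫ Q.objObjPreimageIso (K n)⟩⟩
  choose I hI e' using h1
  let e : ∀ n, Q.obj (I n) ≅ K n := fun n => (e' n).some
  have h2 : ∀ n, ∃ τ : I (n + 1) ⟶ I n, Q.map τ = (e (n + 1)).hom ≫ t n ≫ (e n).inv := fun n => by
    have := hI n
    exact RlimInjC.exists_Q_map_eq _ _ _
  choose τ hτ using h2
  let qA := HomotopyCategory.quotient A (ComplexShape.up ℤ)
  let P : CochainComplex A ℤ := ∏ᶜ I
  let gP : P ⟶ P := Pi.lift (fun n => Pi.π I n - Pi.π I (n + 1) ≫ τ n)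
  have hgP : ∀ n, gP ≫ Pi.π I n = Pi.π I n - Pi.π I (n + 1) ≫ τ n := fun n => Pi.lift_π _ _
  have hP : P.IsKInjective := Groth.Agent.H6.DerivedProd.isKInjective_of_isLimit
    (Fan.mk P (Pi.π I)) (productIsProduct I) hI
  have hPo : (HomotopyCategory.subcategoryAcyclic A).rightOrthogonal (qA.obj P) :=
    (CochainComplex.isKInjective_iff_rightOrthogonal P).1 hP
  obtain ⟨Lh, hLh, u, v, hT⟩ :=
    (HomotopyCategory.subcategoryAcyclic A).rightOrthogonal.distinguished_cocone_triangle₁
      (qA.map gP) hPo hPo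
  obtain ⟨Lc, rfl⟩ := HomotopyCategory.quotient_obj_surjective Lh
  have hLc : CochainComplex.IsKInjective Lc :=
    (CochainComplex.isKInjective_iff_rightOrthogonal Lc).2 hLh
  -- the side of `A`
  let ε : ∀ n, Qh.obj (qA.obj (I n)) ≅ K n := fun n => (quotientCompQhIso A).app (I n) ≪≫ e n
  have hε : ∀ n, Qh.map (qA.map (τ n)) ≫ (ε n).hom = (ε (n + 1)).hom ≫ t n := by
    intro n
    change Qh.map (qA.map (τ n)) ≫ (quotientCompQhIso A).hom.app (I n) ≫ (e n).hom =
      ((quotientCompQhIso A).hom.app (I (n + 1)) ≫ (e (n + 1)).hom) ≫ t n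
    rw [quotientCompQhIso_hom_naturality_assoc, hτ]
    simp
  have hpresA : PreservesLimit (Discrete.functor I) (qA ⋙ Qh) := by
    have := preservesLimit_Q_of_isKInjective I hI
    exact preservesLimit_of_natIso _ (quotientCompQhIso A).symm
  have hlimA := isLimitFanOfIso _ (isLimitFanMap (qA ⋙ Qh) I) ε
  have hgpA : ∀ n, Qh.map (qA.map gP) ≫ (qA ⋙ Qh).map (Pi.π I n) ≫ (ε n).hom =
      (qA ⋙ Qh).map (Pi.π I n) ≫ (ε n).hom -
        ((qA ⋙ Qh).map (Pi.π I (n + 1)) ≫ (ε (n + 1)).hom) ≫ t n := by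
    intro n
    change Qh.map (qA.map gP) ≫ Qh.map (qA.map (Pi.π I n)) ≫ (ε n).hom =
      Qh.map (qA.map (Pi.π I n)) ≫ (ε n).hom -
        (Qh.map (qA.map (Pi.π I (n + 1))) ≫ (ε (n + 1)).hom) ≫ t n
    rw [← Category.assoc, ← Functor.map_comp, ← Functor.map_comp, hgP, Functor.map_sub,
      Functor.map_sub, Functor.map_comp, Functor.map_comp, Preadditive.sub_comp, Category.assoc,
      Category.assoc, hε]
  have hTA := Qh.map_distinguished _ hT
  obtain ⟨eL⟩ := RlimTransport.nonempty_iso_of_isRlim _ hlimA (Qh.map (qA.map gP)) hgpA hL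
    (Qh.map u) (Qh.map v ≫ (Qh.commShiftIso (1 : ℤ)).hom.app _) hTA
  -- the side of `B`
  have hαiso : ∀ n, IsIso ((α F).app (qA.obj (I n))) := fun n =>
    Groth.Agent.H5.KInjDeriv.isIso_totalRightDerivedUnit_app hKinj (Φ F) (I n) (hI n)
  let β : ∀ n, (Φ F).obj (qA.obj (I n)) ≅ (RF F).obj (K n) := fun n =>
    asIso ((α F).app (qA.obj (I n))) ≪≫ (RF F).mapIso (ε n)
  have hβ : ∀ n, (Φ F).map (qA.map (τ n)) ≫ (β n).hom = (β (n + 1)).hom ≫ (RF F).map (t n) := by
    intro n
    change (Φ F).map (qA.map (τ n)) ≫ (α F).app (qA.obj (I n)) ≫ (RF F).map (ε n).hom =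
      ((α F).app (qA.obj (I (n + 1))) ≫ (RF F).map (ε (n + 1)).hom) ≫ (RF F).map (t n)
    have hnat := (α F).naturality (qA.map (τ n))
    rw [← Category.assoc, hnat, Category.assoc, Category.assoc, ← Functor.map_comp]
    change _ ≫ (RF F).map (Qh.map (qA.map (τ n))) ≫ _ = _
    rw [← Functor.map_comp, hε]
  have hpresB := preservesLimit_quotient_comp_Φ F I
  have hlimB := isLimitFanOfIso _ (isLimitFanMap (qA ⋙ Φ F) I) β
  have hgpB : ∀ n, (Φ F).map (qA.map gP) ≫ (qA ⋙ Φ F).map (Pi.π I n) ≫ (β n).hom =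
      (qA ⋙ Φ F).map (Pi.π I n) ≫ (β n).hom -
        ((qA ⋙ Φ F).map (Pi.π I (n + 1)) ≫ (β (n + 1)).hom) ≫ (RF F).map (t n) := by
    intro n
    change (Φ F).map (qA.map gP) ≫ (Φ F).map (qA.map (Pi.π I n)) ≫ (β n).hom =
      (Φ F).map (qA.map (Pi.π I n)) ≫ (β n).hom -
        ((Φ F).map (qA.map (Pi.π I (n + 1))) ≫ (β (n + 1)).hom) ≫ (RF F).map (t n)
    rw [← Category.assoc, ← Functor.map_comp, ← Functor.map_comp, hgP, Functor.map_sub,
      Functor.map_sub, Functor.map_comp, Functor.map_comp, Preadditive.sub_comp, Category.assoc,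
      Category.assoc, hβ]
  have hTB := (Φ F).map_distinguished _ hT
  have hR : DCoh.IsRlim (fun n => (RF F).obj (K n)) (fun n => (RF F).map (t n))
      ((Φ F).obj (qA.obj Lc)) :=
    RlimTransport.isRlim_of_triangle _ hlimB ((Φ F).map (qA.map gP)) hgpB
      ((Φ F).map u) ((Φ F).map v ≫ ((Φ F).commShiftIso (1 : ℤ)).hom.app _) hTB
  have : IsIso ((α F).app (qA.obj Lc)) :=
    Groth.Agent.H5.KInjDeriv.isIso_totalRightDerivedUnit_app hKinj (Φ F) Lc hLc
  exact RlimTransport.isRlim_of_iso
    (asIso ((α F).app (qA.obj Lc)) ≪≫ (RF F).mapIso eL.symm) hR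

end main

end Groth.Agent.H16.RFRlim
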