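import Groth.Agent.H16.RFRlim

/-!
# Total right derived functors commute with derived limits, universe-general version (helper16)
-/

set_option autoImplicit false
universe w w' v v' u u'
open CategoryTheory CategoryTheory.Limits Pretriangulated

namespace Groth.Agent.H16.RFRlimW

section main

open DerivedCategory

variable {A : Type u} [Category.{v} A] [Abelian A] [IsGrothendieckAbelian.{v} A]
    [HasDerivedCategory.{w} A] {B : Type u'} [Category.{v'} B] [Abelian B] [HasDerivedCategory.{w'} B]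
    [HasProductsOfShape ℕ B] [(lim : (Discrete ℕ ⥤ B) ⥤ B).PreservesEpimorphisms]
    (F : A ⥤ B) [F.Additive] [PreservesLimitsOfShape (Discrete ℕ) F]

/-- the functor to be derived. -/
noncomputable abbrev Φ : HomotopyCategory A (ComplexShape.up ℤ) ⥤ DerivedCategory B :=
  F.mapHomotopyCategory (ComplexShape.up ℤ) ⋙ DerivedCategory.Qh

omit [IsGrothendieckAbelian.{v} A] [HasDerivedCategory.{w} A] in
lemma preservesLimit_quotient_comp_Φ [HasProductsOfShape ℕ A] (I : ℕ → CochainComplex A ℤ) :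
    PreservesLimit (Discrete.functor I)
      (HomotopyCategory.quotient A (ComplexShape.up ℤ) ⋙ Φ F) := by
  have h1 : PreservesLimit (Discrete.functor I)
      (F.mapHomologicalComplex (ComplexShape.up ℤ)) := inferInstance
  have h2 : PreservesLimit (Discrete.functor I ⋙ F.mapHomologicalComplex (ComplexShape.up ℤ))
      (DerivedCategory.Q (C := B)) := by
    have := QProd.preservesLimitQ (B := B)
      (fun n => (F.mapHomologicalComplex (ComplexShape.up ℤ)).obj (I n))
    exact preservesLimit_of_iso_diagram _ (Discrete.natIso (fun _ => Iso.refl _) :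
      Discrete.functor (fun n => (F.mapHomologicalComplex (ComplexShape.up ℤ)).obj (I n)) ≅
        Discrete.functor I ⋙ F.mapHomologicalComplex (ComplexShape.up ℤ))
  have h3 : PreservesLimit (Discrete.functor I)
      (F.mapHomologicalComplex (ComplexShape.up ℤ) ⋙ DerivedCategory.Q (C := B)) := inferInstance
  let e : F.mapHomologicalComplex (ComplexShape.up ℤ) ⋙ DerivedCategory.Q (C := B) ≅
      HomotopyCategory.quotient A (ComplexShape.up ℤ) ⋙ Φ F :=
    Functor.isoWhiskerLeft _ (quotientCompQhIso B).symm ≪≫ (Functor.associator _ _ _).symm ≪≫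
      Functor.isoWhiskerRight (F.mapHomotopyCategoryFactors _).symm Qh ≪≫
      Functor.associator _ _ _
  exact preservesLimit_of_natIso _ e

variable [(Φ F).HasRightDerivedFunctor (HomotopyCategory.quasiIso A (ComplexShape.up ℤ))]

/-- the total right derived functor. -/
noncomputable abbrev RF : DerivedCategory A ⥤ DerivedCategory B :=
  (Φ F).totalRightDerived DerivedCategory.Qh (HomotopyCategory.quasiIso A (ComplexShape.up ℤ))

/-- its unit. -/
noncomputable abbrev α : Φ F ⟶ DerivedCategory.Qh ⋙ RF F :=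
  (Φ F).totalRightDerivedUnit DerivedCategory.Qh (HomotopyCategory.quasiIso A (ComplexShape.up ℤ))

omit [HasDerivedCategory.{w} A] in
lemma hKinj : ∀ K : CochainComplex A ℤ, ∃ (I : CochainComplex A ℤ) (f : K ⟶ I),
    I.IsKInjective ∧ QuasiIso f := fun K => by
  obtain ⟨I, f, h1, h2, -, -⟩ := Groth.Agent.H33.KInj.exists_kInjective_resolution K
  exact ⟨I, f, h1, h2⟩

theorem isRlim_RF (K : ℕ → DerivedCategory A) (t : ∀ n, K (n + 1) ⟶ K n)
    (L : DerivedCategory A) [HasProduct K] [HasProduct fun n => (RF F).obj (K n)]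
    (hL : DCoh.IsRlim K t L) :
    DCoh.IsRlim (fun n => (RF F).obj (K n)) (fun n => (RF F).map (t n)) ((RF F).obj L) := by
  have h1 : ∀ n, ∃ (I : CochainComplex A ℤ), I.IsKInjective ∧ Nonempty (Q.obj I ≅ K n) := by
    intro n
    obtain ⟨I, f, hI, hf⟩ := hKinj (Q.objPreimage (K n))
    exact ⟨I, hI, ⟨(asIso (Q.map f)).symm ≪≫ Q.objObjPreimageIso (K n)⟩⟩
  choose I hI e' using h1
  let e : ∀ n, Q.obj (I n) ≅ K n := fun n => (e' n).some
  have h2 : ∀ n, ∃ τ : I (n + 1) ⟶ I n, Q.map τ = (e (n + 1)).hom ≫ t n ≫ (e n).inv := fun n => by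
    have := hI n
    exact RlimInjC.exists_Q_map_eq _ _ _
  choose τ hτ using h2
  let qA := HomotopyCategory.quotient A (ComplexShape.up ℤ)
  let P : CochainComplex A ℤ := ∏ᶜ I
  let gP : P ⟶ P := Pi.lift (fun n => Pi.π I n - Pi.π I (n + 1) ≫ τ n)
  have hgP : ∀ n, gP ≫ Pi.π I n = Pi.π I n - Pi.π I (n + 1) ≫ τ n := fun n => Pi.lift_π _ _
  have hP : P.IsKInjective := Groth.Agent.H6.DerivedProd.isKInjective_of_isLimit
    (Fan.mk P (Pi.π I)) (productIsProduct I) hI
  have hPo : (HomotopyCategory.subcategoryAcyclic A).rightOrthogonal (qA.obj P) :=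
    (CochainComplex.isKInjective_iff_rightOrthogonal P).1 hP
  obtain ⟨Lh, hLh, u, v, hT⟩ :=
    (HomotopyCategory.subcategoryAcyclic A).rightOrthogonal.distinguished_cocone_triangle₁
      (qA.map gP) hPo hPo
  obtain ⟨Lc, rfl⟩ := HomotopyCategory.quotient_obj_surjective Lh
  have hLc : CochainComplex.IsKInjective Lc :=
    (CochainComplex.isKInjective_iff_rightOrthogonal Lc).2 hLh
  -- the side of `A`
  let ε : ∀ n, Qh.obj (qA.obj (I n)) ≅ K n := fun n => (quotientCompQhIso A).app (I n) ≪≫ e n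
  have hε : ∀ n, Qh.map (qA.map (τ n)) ≫ (ε n).hom = (ε (n + 1)).hom ≫ t n := by
    intro n
    change Qh.map (qA.map (τ n)) ≫ (quotientCompQhIso A).hom.app (I n) ≫ (e n).hom =
      ((quotientCompQhIso A).hom.app (I (n + 1)) ≫ (e (n + 1)).hom) ≫ t n
    rw [quotientCompQhIso_hom_naturality_assoc, hτ]
    simp
  have hpresA : PreservesLimit (Discrete.functor I) (qA ⋙ Qh) := by
    have := RFRlim.preservesLimit_Q_of_isKInjective I hI
    exact preservesLimit_of_natIso _ (quotientCompQhIso A).symm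
  have hlimA := RFRlim.isLimitFanOfIso _ (RFRlim.isLimitFanMap (qA ⋙ Qh) I) ε
  have hgpA : ∀ n, Qh.map (qA.map gP) ≫ (qA ⋙ Qh).map (Pi.π I n) ≫ (ε n).hom =
      (qA ⋙ Qh).map (Pi.π I n) ≫ (ε n).hom -
        ((qA ⋙ Qh).map (Pi.π I (n + 1)) ≫ (ε (n + 1)).hom) ≫ t n := by
    intro n
    change Qh.map (qA.map gP) ≫ Qh.map (qA.map (Pi.π I n)) ≫ (ε n).hom =
      Qh.map (qA.map (Pi.π I n)) ≫ (ε n).hom -
        (Qh.map (qA.map (Pi.π I (n + 1))) ≫ (ε (n + 1)).hom) ≫ t n
    rw [← Category.assoc, ← Functor.map_comp, ← Functor.map_comp, hgP, Functor.map_sub,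
      Functor.map_sub, Functor.map_comp, Functor.map_comp, Preadditive.sub_comp, Category.assoc,
      Category.assoc, hε]
  have hTA := Qh.map_distinguished _ hT
  obtain ⟨eL⟩ := RlimTransport.nonempty_iso_of_isRlim _ hlimA (Qh.map (qA.map gP)) hgpA hL
    (Qh.map u) (Qh.map v ≫ (Qh.commShiftIso (1 : ℤ)).hom.app _) hTA
  -- the side of `B`
  have hαiso : ∀ n, IsIso ((α F).app (qA.obj (I n))) := fun n =>
    Groth.Agent.H5.KInjDeriv.isIso_totalRightDerivedUnit_app hKinj (Φ F) (I n) (hI n)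
  let β : ∀ n, (Φ F).obj (qA.obj (I n)) ≅ (RF F).obj (K n) := fun n =>
    asIso ((α F).app (qA.obj (I n))) ≪≫ (RF F).mapIso (ε n)
  have hβ : ∀ n, (Φ F).map (qA.map (τ n)) ≫ (β n).hom = (β (n + 1)).hom ≫ (RF F).map (t n) := by
    intro n
    change (Φ F).map (qA.map (τ n)) ≫ (α F).app (qA.obj (I n)) ≫ (RF F).map (ε n).hom =
      ((α F).app (qA.obj (I (n + 1))) ≫ (RF F).map (ε (n + 1)).hom) ≫ (RF F).map (t n)
    have hnat := (α F).naturality (qA.map (τ n))
    rw [← Category.assoc, hnat, Category.assoc, Category.assoc, ← Functor.map_comp]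
    change _ ≫ (RF F).map (Qh.map (qA.map (τ n))) ≫ _ = _
    rw [← Functor.map_comp, hε]
  have hpresB := preservesLimit_quotient_comp_Φ F I
  have hlimB := RFRlim.isLimitFanOfIso _ (RFRlim.isLimitFanMap (qA ⋙ Φ F) I) β
  have hgpB : ∀ n, (Φ F).map (qA.map gP) ≫ (qA ⋙ Φ F).map (Pi.π I n) ≫ (β n).hom =
      (qA ⋙ Φ F).map (Pi.π I n) ≫ (β n).hom -
        ((qA ⋙ Φ F).map (Pi.π I (n + 1)) ≫ (β (n + 1)).hom) ≫ (RF F).map (t n) := by
    intro n
    change (Φ F).map (qA.map gP) ≫ (Φ F).map (qA.map (Pi.π I n)) ≫ (β n).hom =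
      (Φ F).map (qA.map (Pi.π I n)) ≫ (β n).hom -
        ((Φ F).map (qA.map (Pi.π I (n + 1))) ≫ (β (n + 1)).hom) ≫ (RF F).map (t n)
    rw [← Category.assoc, ← Functor.map_comp, ← Functor.map_comp, hgP, Functor.map_sub,
      Functor.map_sub, Functor.map_comp, Functor.map_comp, Preadditive.sub_comp, Category.assoc,
      Category.assoc, hβ]
  have hTB := (Φ F).map_distinguished _ hT
  have hR : DCoh.IsRlim (fun n => (RF F).obj (K n)) (fun n => (RF F).map (t n))
      ((Φ F).obj (qA.obj Lc)) :=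
    RlimTransport.isRlim_of_triangle _ hlimB ((Φ F).map (qA.map gP)) hgpB
      ((Φ F).map u) ((Φ F).map v ≫ ((Φ F).commShiftIso (1 : ℤ)).hom.app _) hTB
  have : IsIso ((α F).app (qA.obj Lc)) :=
    Groth.Agent.H5.KInjDeriv.isIso_totalRightDerivedUnit_app hKinj (Φ F) Lc hLc
  exact RlimTransport.isRlim_of_iso
    (asIso ((α F).app (qA.obj Lc)) ≪≫ (RF F).mapIso eL.symm) hR

end main

end Groth.Agent.H16.RFRlimW
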