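import Groth.Prelude.Def_CohCx
import Groth.Agent.H45.Derived.TruncHomology

/-!
# The tower of truncations `τ_{≥ -n} E` in a derived category (helper16)
-/

set_option autoImplicit false
universe w u
open CategoryTheory CategoryTheory.Limits Pretriangulated DerivedCategory

namespace Groth.Agent.H16.RlimTruncA

variable {A : Type (u + 1)} [Category.{u} A] [Abelian A] [HasDerivedCategory.{w} A]

local notation "t" => DerivedCategory.TStructure.t (C := A)

lemma toTruncTower_comp (E : DerivedCategory A) (n : ℕ) :
    CohCx.toTruncTower E (n + 1) ≫ CohCx.truncTowerMap E n = CohCx.toTruncTower E n :=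
  TStructure.t.π_natTransTruncGEOfLE_app _ _ _ E

/-- `H^j(τ_{≥a} E ⟶ τ_{≥b} E)` is an isomorphism for `b ≤ j`. -/
lemma isIso_homologyMap_natTransTruncGEOfLE (E : DerivedCategory A) (a b : ℤ) (hab : a ≤ b)
    (j : ℤ) (hj : b ≤ j) :
    IsIso ((homologyFunctor A j).map ((TStructure.t.natTransTruncGEOfLE a b hab).app E)) := by
  have h1 := Groth.Agent.H45.isIso_homologyMap_truncGEπ E a j (hab.trans hj)
  have h2 := Groth.Agent.H45.isIso_homologyMap_truncGEπ E b j hj
  have h3 : (homologyFunctor A j).map ((TStructure.t.truncGEπ a).app E) ≫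
      (homologyFunctor A j).map ((TStructure.t.natTransTruncGEOfLE a b hab).app E) =
      (homologyFunctor A j).map ((TStructure.t.truncGEπ b).app E) := by
    rw [← Functor.map_comp, TStructure.t.π_natTransTruncGEOfLE_app]
  exact IsIso.of_isIso_fac_left h3

lemma isIso_homologyMap_truncTowerMap (E : DerivedCategory A) (n : ℕ) (j : ℤ) (hj : -(n : ℤ) ≤ j) :
    IsIso ((homologyFunctor A j).map (CohCx.truncTowerMap E n)) :=
  isIso_homologyMap_natTransTruncGEOfLE E _ _ _ j hj

lemma isIso_homologyMap_toTruncTower (E : DerivedCategory A) (n : ℕ) (j : ℤ) (hj : -(n : ℤ) ≤ j) :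
    IsIso ((homologyFunctor A j).map (CohCx.toTruncTower E n)) :=
  Groth.Agent.H45.isIso_homologyMap_truncGEπ E _ j hj

lemma isIso_homologyMap_transition (E : DerivedCategory A) (n k : ℕ) (j : ℤ) (hj : -(n : ℤ) ≤ j) :
    IsIso ((homologyFunctor A j).map
      (CohCx.transition (CohCx.truncTower E) (CohCx.truncTowerMap E) n k)) := by
  induction k with
  | zero =>
    change IsIso ((homologyFunctor A j).map (𝟙 _))
    rw [CategoryTheory.Functor.map_id]
    infer_instance
  | succ k ih =>
    change IsIso ((homologyFunctor A j).map (CohCx.truncTowerMap E (n + k) ≫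
      CohCx.transition (CohCx.truncTower E) (CohCx.truncTowerMap E) n k))
    rw [CategoryTheory.Functor.map_comp]
    have := isIso_homologyMap_truncTowerMap E (n + k) j (by push_cast; omega)
    infer_instance

/-- The fibre of `τ_{≥a} E ⟶ τ_{≥a+1} E` is `H^a(E)` placed in degree `a`. -/
theorem exists_triangle (E : DerivedCategory A) (a b : ℤ) (hab : a + 1 = b) :
    ∃ (F : DerivedCategory A) (f : F ⟶ (TStructure.t.truncGE a).obj E)
      (δ : (TStructure.t.truncGE b).obj E ⟶ F⟦(1 : ℤ)⟧),
      Triangle.mk f ((TStructure.t.natTransTruncGEOfLE a b (by omega)).app E) δ ∈ distTriang _ ∧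
      Nonempty (F ≅ (singleFunctor A a).obj ((homologyFunctor A a).obj E)) := by
  let X := (TStructure.t.truncGE a).obj E
  let F := (TStructure.t.truncLT b).obj X
  have hT₀ := TStructure.t.triangleLTGE_distinguished b X
  let θ : (TStructure.t.truncGE b).obj E ⟶ (TStructure.t.truncGE b).obj X :=
    (TStructure.t.truncGE b).map ((TStructure.t.truncGEπ a).app E)
  have hθ : IsIso θ := TStructure.t.isIso_truncGE_map_truncGEπ_app b a (by omega) E
  have hfac : (TStructure.t.natTransTruncGEOfLE a b (by omega)).app E ≫ θ =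
      (TStructure.t.truncGEπ b).app X := by
    have : TStructure.t.IsGE ((TStructure.t.truncGE b).obj X) a :=
      TStructure.t.isGE_of_ge _ a b (by omega)
    apply TStructure.t.from_truncGE_obj_ext
    rw [← Category.assoc, TStructure.t.π_natTransTruncGEOfLE_app]
    exact TStructure.t.truncGEπ_naturality b ((TStructure.t.truncGEπ a).app E)
  refine ⟨F, (TStructure.t.truncLTι b).app X, θ ≫ (TStructure.t.truncGEδLT b).app X, ?_, ?_⟩
  · refine isomorphic_distinguished _ hT₀ _ ?_
    refine Triangle.isoMk _ _ (Iso.refl _) (Iso.refl _) (@asIso _ _ _ _ θ hθ) ?_ ?_ ?_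
    · exact (Category.comp_id _).trans (Category.id_comp _).symm
    · exact hfac.trans (Category.id_comp _).symm
    · change (θ ≫ (TStructure.t.truncGEδLT b).app X) ≫ (shiftFunctor _ (1 : ℤ)).map (𝟙 F) =
        θ ≫ (TStructure.t.truncGEδLT b).app X
      rw [CategoryTheory.Functor.map_id]
      exact Category.comp_id _
  · have h1 : TStructure.t.IsLE F a := TStructure.t.isLE_truncLT_obj X b a (by omega)
    have h2 : TStructure.t.IsGE F a := inferInstance
    obtain ⟨G, ⟨e⟩⟩ := exists_iso_singleFunctor_obj_of_isGE_of_isLE F a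
    have i1 : IsIso ((homologyFunctor A a).map ((TStructure.t.truncLTι b).app X)) :=
      Groth.Agent.H45.isIso_homologyMap_truncLTι X b a (by omega)
    have i2 : IsIso ((homologyFunctor A a).map ((TStructure.t.truncGEπ a).app E)) :=
      Groth.Agent.H45.isIso_homologyMap_truncGEπ E a a le_rfl
    let e' : G ≅ (homologyFunctor A a).obj E :=
      ((singleFunctorCompHomologyFunctorIso A a).app G).symm ≪≫
        (homologyFunctor A a).mapIso e.symm ≪≫
        asIso ((homologyFunctor A a).map ((TStructure.t.truncLTι b).app X)) ≪≫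
        (asIso ((homologyFunctor A a).map ((TStructure.t.truncGEπ a).app E))).symm
    exact ⟨e ≪≫ (singleFunctor A a).mapIso e'⟩

end Groth.Agent.H16.RlimTruncA
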