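import Groth.Agent.H16.RFRlimW
import Groth.Agent.H16.RFBounds
import Groth.Agent.H16.RlimTruncA

/-!
# Cohomological bounds for the total right derived functor on objects unbounded below (helper16)

If `E = R lim τ_{≥ -n} E`, `H^k(E) = 0` for `k > b` and `R^pF(H^k(E)) = 0` for `p ≥ N`, then
`H^i(RF(E)) = 0` for `i > b + N` (the target having exact countable products).
-/

set_option autoImplicit false
universe w w' v' u' u
open CategoryTheory CategoryTheory.Limits Pretriangulated DerivedCategory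

namespace Groth.Agent.H16.RFUnbdd

section prod

variable {B : Type u'} [Category.{v'} B] [Abelian B]
  [HasProductsOfShape ℕ B] [(lim : (Discrete ℕ ⥤ B) ⥤ B).PreservesEpimorphisms]

/-- a product of complexes exact in degree `n` is exact in degree `n`. -/
lemma exactAt_pi' (X : ℕ → CochainComplex B ℤ) (n : ℤ) (hX : ∀ p, (X p).ExactAt n) :
    (∏ᶜ X).ExactAt n := by
  rw [HomologicalComplex.exactAt_iff' _ (n - 1) n (n + 1) (by simp) (by simp)]
  let S : ShortComplex (Discrete ℕ ⥤ B) :=
    ShortComplex.mk (X₁ := Discrete.functor (fun p => (X p).X (n - 1)))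
      (X₂ := Discrete.functor (fun p => (X p).X n)) (X₃ := Discrete.functor (fun p => (X p).X (n + 1)))
      (Discrete.natTrans (fun p => (X p.as).d (n - 1) n))
      (Discrete.natTrans (fun p => (X p.as).d n (n + 1))) (by ext p; simp)
  have hS : S.Exact := by
    apply Groth.Agent.H5.AcyclicCoprod.exact_of_eval
    intro p
    have := (HomologicalComplex.exactAt_iff' _ (n - 1) n (n + 1) (by simp) (by simp)).1 (hX p.as)
    exact this
  haveI := Groth.Agent.H16.AcyclicProd.preservesHomology_lim (B := B) (J := ℕ)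
  have h := hS.map (lim : (Discrete ℕ ⥤ B) ⥤ B)
  have hc : ∀ k : ℤ, IsLimit (Fan.mk ((∏ᶜ X).X k) (fun p => (Pi.π X p).f k)) := fun k =>
    Groth.Agent.H16.HoProd.isLimitEval X k
  let e : ∀ k : ℤ, limit (Discrete.functor (fun p => (X p).X k)) ≅ (∏ᶜ X).X k := fun k =>
    IsLimit.conePointUniqueUpToIso (limit.isLimit _) (hc k)
  have he : ∀ (k : ℤ) (p : ℕ), (e k).hom ≫ (Pi.π X p).f k =
      limit.π (Discrete.functor (fun p => (X p).X k)) (Discrete.mk p) := fun k p =>
    IsLimit.conePointUniqueUpToIso_hom_comp (limit.isLimit _) (hc k) (Discrete.mk p)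
  refine (ShortComplex.exact_iff_of_iso ?_).1 h
  refine ShortComplex.isoMk (e (n - 1)) (e n) (e (n + 1)) ?_ ?_
  · apply Fan.IsLimit.hom_ext (hc n)
    intro p
    symm
    change (limMap S.f ≫ (e n).hom) ≫ (Pi.π X p).f n =
      ((e (n - 1)).hom ≫ (∏ᶜ X).d (n - 1) n) ≫ (Pi.π X p).f n
    rw [Category.assoc, he, Category.assoc, ← (Pi.π X p).comm, ← Category.assoc, he, limMap_π]
    rfl
  · apply Fan.IsLimit.hom_ext (hc (n + 1))
    intro p
    symm
    change (limMap S.g ≫ (e (n + 1)).hom) ≫ (Pi.π X p).f (n + 1) =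
      ((e n).hom ≫ (∏ᶜ X).d n (n + 1)) ≫ (Pi.π X p).f (n + 1)
    rw [Category.assoc, he, Category.assoc, ← (Pi.π X p).comm, ← Category.assoc, he, limMap_π]
    rfl

variable [HasDerivedCategory.{w'} B]

/-- the limit fan on `Q` of the product of chosen representatives. -/
noncomputable def repFanIsLimit (K : ℕ → DerivedCategory B) :
    IsLimit (Fan.mk (Q.obj (∏ᶜ fun n => Q.objPreimage (K n)))
      (fun n => Q.map (Pi.π (fun n => Q.objPreimage (K n)) n) ≫ (Q.objObjPreimageIso (K n)).hom)) :=
  RFRlim.isLimitFanOfIso _ (Groth.Agent.H16.QProd.isLimitQ (fun n => Q.objPreimage (K n)))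
    (fun n => Q.objObjPreimageIso (K n))

lemma hasProduct (K : ℕ → DerivedCategory B) : HasProduct K :=
  ⟨⟨⟨_, repFanIsLimit K⟩⟩⟩

lemma isZero_homology_pi (K : ℕ → DerivedCategory B) [HasProduct K] (j : ℤ)
    (h : ∀ n, IsZero ((homologyFunctor B j).obj (K n))) :
    IsZero ((homologyFunctor B j).obj (∏ᶜ K)) := by
  let C : ℕ → CochainComplex B ℤ := fun n => Q.objPreimage (K n)
  let e : ∏ᶜ K ≅ Q.obj (∏ᶜ C) :=
    IsLimit.conePointUniqueUpToIso (productIsProduct K) (repFanIsLimit K)
  refine IsZero.of_iso ?_ ((homologyFunctor B j).mapIso e ≪≫ (homologyFunctorFactors B j).app _)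
  apply HomologicalComplex.ExactAt.isZero_homology
  apply exactAt_pi'
  intro n
  rw [HomologicalComplex.exactAt_iff_isZero_homology]
  exact IsZero.of_iso (h n) (((homologyFunctorFactors B j).app (C n)).symm ≪≫
    (homologyFunctor B j).mapIso (Q.objObjPreimageIso (K n)))

end prod

section main

variable {A : Type (u + 1)} [Category.{u} A] [Abelian A] [IsGrothendieckAbelian.{u} A]
  [HasDerivedCategory.{w} A]
  {B : Type u'} [Category.{v'} B] [Abelian B] [HasDerivedCategory.{w'} B]
  [HasProductsOfShape ℕ B] [(lim : (Discrete ℕ ⥤ B) ⥤ B).PreservesEpimorphisms]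
  (F : A ⥤ B) [F.Additive] [PreservesLimitsOfShape (Discrete ℕ) F] [HasInjectiveResolutions A]
  [(F.mapHomotopyCategory (ComplexShape.up ℤ) ⋙ DerivedCategory.Qh).HasRightDerivedFunctor
    (HomotopyCategory.quasiIso A (ComplexShape.up ℤ))]

/-- the total right derived functor. -/
noncomputable abbrev RF : DerivedCategory A ⥤ DerivedCategory B :=
  (F.mapHomotopyCategory (ComplexShape.up ℤ) ⋙ DerivedCategory.Qh).totalRightDerived
    DerivedCategory.Qh (HomotopyCategory.quasiIso A (ComplexShape.up ℤ))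

/-- the bounded statement for the truncations. -/
lemma isZero_homology_RF_truncTower (N : ℕ) (E : DerivedCategory A) (b : ℤ)
    (hEF : ∀ (k : ℤ) (p : ℕ), N ≤ p →
      IsZero ((F.rightDerived p).obj ((homologyFunctor A k).obj E)))
    (hb : ∀ i : ℤ, b < i → IsZero ((homologyFunctor A i).obj E))
    (n : ℕ) (i : ℤ) (hi : b + N - 1 < i) :
    IsZero ((homologyFunctor B i).obj ((RF F).obj (CohCx.truncTower E n))) := by
  have hGE : (CohCx.truncTower E n).IsGE (-(n : ℤ)) := by
    dsimp only [CohCx.truncTower]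
    infer_instance
  have hiso : ∀ k : ℤ, -(n : ℤ) ≤ k →
      ((homologyFunctor A k).obj E ≅ (homologyFunctor A k).obj (CohCx.truncTower E n)) :=
    fun k hk =>
      haveI := Groth.Agent.H16.RlimTruncA.isIso_homologyMap_toTruncTower E n k hk
      asIso ((homologyFunctor A k).map (CohCx.toTruncTower E n))
  have hlow : ∀ k : ℤ, k < -(n : ℤ) →
      IsZero ((homologyFunctor A k).obj (CohCx.truncTower E n)) := fun k hk =>
    (DerivedCategory.isGE_iff _ _).1 hGE k hk
  refine Groth.Agent.H16.RFBounds.isZero_homology_totalRightDerived F N (CohCx.truncTower E n)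
    (-(n : ℤ)) b ?_ ?_ i (Or.inr hi)
  · intro k p hp
    by_cases hk : k < -(n : ℤ)
    · exact Functor.map_isZero _ (hlow k hk)
    · exact IsZero.of_iso (hEF k p hp) ((F.rightDerived p).mapIso (hiso k (by omega)).symm)
  · intro k hk
    rcases hk with hk | hk
    · exact hlow k hk
    · by_cases hk' : k < -(n : ℤ)
      · exact hlow k hk'
      · exact IsZero.of_iso (hb k hk) (hiso k (by omega)).symm

theorem isZero_homology_RF (N : ℕ) (E : DerivedCategory A) (b : ℤ)
    [HasProduct (CohCx.truncTower E)]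
    (hR : CohCx.IsRlimVia (CohCx.truncTower E) (CohCx.truncTowerMap E) E (CohCx.toTruncTower E))
    (hEF : ∀ (k : ℤ) (p : ℕ), N ≤ p →
      IsZero ((F.rightDerived p).obj ((homologyFunctor A k).obj E)))
    (hb : ∀ i : ℤ, b < i → IsZero ((homologyFunctor A i).obj E))
    (i : ℤ) (hi : b + N < i) :
    IsZero ((homologyFunctor B i).obj ((RF F).obj E)) := by
  haveI : HasProduct fun n => (RF F).obj (CohCx.truncTower E n) := hasProduct _
  have hR' : DCoh.IsRlim (CohCx.truncTower E) (CohCx.truncTowerMap E) E := by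
    obtain ⟨c, hc⟩ := hR
    exact ⟨_, c, hc⟩
  obtain ⟨a, c, hT⟩ := Groth.Agent.H16.RFRlimW.isRlim_RF F _ _ _ hR'
  have h1 := DerivedCategory.HomologySequence.exact₁ _ hT (i - 1) i (by omega)
  have hz : ∀ j : ℤ, b + N - 1 < j → IsZero ((homologyFunctor B j).obj
      (∏ᶜ fun n => (RF F).obj (CohCx.truncTower E n))) := fun j hj =>
    isZero_homology_pi _ j (fun n => isZero_homology_RF_truncTower F N E b hEF hb n j hj)
  exact h1.isZero_of_both_zeros ((hz (i - 1) (by omega)).eq_of_src _ _)
    ((hz i (by omega)).eq_of_tgt _ _)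

end main

end Groth.Agent.H16.RFUnbdd
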