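import Mathlib.Algebra.Homology.DerivedCategory.Fractions
import Mathlib.Algebra.Homology.DerivedCategory.KProjective
import Mathlib.Algebra.Homology.HomotopyCategory.Plus

/-!
# A relative K-projectivity lemma

`M` a cochain complex, strictly `≤ 0`, with `M.X 0` projective.  Any morphism from `M` to an
acyclic complex that is strictly `≥ -2` is homotopic to zero.
-/

set_option autoImplicit false

universe w v u

open CategoryTheory Category Limits CochainComplex HomComplex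

namespace Groth.Agent.H16.RelKProj

variable {C : Type u} [Category.{v} C] [Abelian C]

section NullHomotopy

variable {M N : CochainComplex C ℤ}

/-- The degree `-1` cochain with prescribed components in degrees `0` and `-1`. -/
noncomputable def hCochain (h0 : M.X 0 ⟶ N.X (-1)) (h1 : M.X (-1) ⟶ N.X (-2)) :
    Cochain M N (-1) :=
  Cochain.mk (fun p q hpq =>
    if hp : p = 0 then
      eqToHom (by rw [hp]) ≫ h0 ≫ eqToHom (by congr 1; omega)
    else if hp' : p = -1 then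
      eqToHom (by rw [hp']) ≫ h1 ≫ eqToHom (by congr 1; omega)
    else 0)

lemma hCochain_v_zero (h0 : M.X 0 ⟶ N.X (-1)) (h1 : M.X (-1) ⟶ N.X (-2)) :
    (hCochain h0 h1).v 0 (-1) (by omega) = h0 := by
  simp [hCochain]

lemma hCochain_v_neg_one (h0 : M.X 0 ⟶ N.X (-1)) (h1 : M.X (-1) ⟶ N.X (-2)) :
    (hCochain h0 h1).v (-1) (-2) (by omega) = h1 := by
  simp [hCochain]

lemma hCochain_v_other (h0 : M.X 0 ⟶ N.X (-1)) (h1 : M.X (-1) ⟶ N.X (-2))
    (p q : ℤ) (hpq : p + (-1) = q) (hp0 : p ≠ 0) (hp1 : p ≠ -1) :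
    (hCochain h0 h1).v p q hpq = 0 := by
  simp [hCochain, hp0, hp1]

/-- The main null-homotopy lemma. -/
theorem nonempty_homotopy_zero [M.IsStrictlyLE 0] [Projective (M.X 0)]
    [N.IsStrictlyGE (-2)] (hN : ∀ i : ℤ, N.ExactAt i) (f : M ⟶ N) :
    Nonempty (Homotopy f 0) := by
  -- exactness data
  have ex0 : (N.sc' (-1) 0 1).Exact :=
    (HomologicalComplex.exactAt_iff' N (-1) 0 1 (by simp) (by simp)).1 (hN 0)
  have ex1 : (N.sc' (-2) (-1) 0).Exact :=
    (HomologicalComplex.exactAt_iff' N (-2) (-1) 0 (by simp) (by simp)).1 (hN (-1))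
  have ex2 : (N.sc' (-3) (-2) (-1)).Exact :=
    (HomologicalComplex.exactAt_iff' N (-3) (-2) (-1) (by simp) (by simp)).1 (hN (-2))
  have hmono : Mono (N.d (-2) (-1)) := by
    have hz : (N.sc' (-3) (-2) (-1)).f = 0 :=
      (N.isZero_of_isStrictlyGE (-2) (-3) (by omega)).eq_of_src _ _
    exact (ShortComplex.exact_iff_mono _ hz).1 ex2
  have : Mono (N.sc' (-2) (-1) 0).f := hmono
  -- the component `h0`
  have hf0 : f.f 0 ≫ (N.sc' (-1) 0 1).g = 0 := by
    change f.f 0 ≫ N.d 0 1 = 0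
    rw [f.comm 0 1]
    have : M.d 0 1 = 0 := (M.isZero_of_isStrictlyLE 0 1 (by omega)).eq_of_tgt _ _
    rw [this, zero_comp]
  let h0 : M.X 0 ⟶ N.X (-1) := ex0.liftFromProjective (f.f 0) hf0
  have hh0 : h0 ≫ N.d (-1) 0 = f.f 0 := ex0.liftFromProjective_comp (f.f 0) hf0
  -- the component `h1`
  have hf1 : (f.f (-1) - M.d (-1) 0 ≫ h0) ≫ (N.sc' (-2) (-1) 0).g = 0 := by
    change (f.f (-1) - M.d (-1) 0 ≫ h0) ≫ N.d (-1) 0 = 0
    rw [Preadditive.sub_comp, assoc, hh0, f.comm (-1) 0, sub_self]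
  let h1 : M.X (-1) ⟶ N.X (-2) := ex1.lift _ hf1
  have hh1 : h1 ≫ N.d (-2) (-1) = f.f (-1) - M.d (-1) 0 ≫ h0 := ex1.lift_f _ hf1
  refine ⟨(Cochain.equivHomotopy f 0).symm ⟨hCochain h0 h1, ?_⟩⟩
  ext p
  rw [Cochain.ofHom_v, Cochain.add_v, Cochain.ofHom_zero, Cochain.zero_v, add_zero]
  by_cases hp0 : p = 0
  · subst hp0
    rw [δ_v (-1) 0 (by omega) _ 0 0 (add_zero 0) (-1) 1 (by omega) (by omega)]
    simp only [Int.negOnePow_zero, one_smul]
    rw [hCochain_v_zero, hh0]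
    have : M.d 0 1 = 0 := (M.isZero_of_isStrictlyLE 0 1 (by omega)).eq_of_tgt _ _
    rw [this, zero_comp, add_zero]
  by_cases hp1 : p = -1
  · subst hp1
    rw [δ_v (-1) 0 (by omega) _ (-1) (-1) (add_zero (-1)) (-2) 0 (by omega) (by omega)]
    simp only [Int.negOnePow_zero, one_smul]
    rw [hCochain_v_neg_one, hCochain_v_zero, hh1]
    abel
  by_cases hp2 : p = -2
  · subst hp2
    rw [δ_v (-1) 0 (by omega) _ (-2) (-2) (add_zero (-2)) (-3) (-1) (by omega) (by omega)]
    simp only [Int.negOnePow_zero, one_smul]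
    rw [hCochain_v_other h0 h1 (-2) (-3) (by omega) (by omega) (by omega), zero_comp, zero_add,
      hCochain_v_neg_one]
    rw [← cancel_mono (N.d (-2) (-1)), assoc, hh1, f.comm (-2) (-1), Preadditive.comp_sub,
      HomologicalComplex.d_comp_d_assoc, zero_comp, sub_zero]
  by_cases hpos : 0 < p
  · exact (M.isZero_of_isStrictlyLE 0 p hpos).eq_of_src _ _
  · exact (N.isZero_of_isStrictlyGE (-2) p (by omega)).eq_of_tgt _ _

end NullHomotopy

end Groth.Agent.H16.RelKProj
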