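import Groth.Agent.H16.RelKProjA

/-!
# A relative K-projectivity lemma, part B

`M` strictly `≤ 0` with `M.X 0` projective, `K` strictly `≥ -1`: then
`Hom_{K(C)}(M, K) → Hom_{D(C)}(M, K)` is bijective.
-/

set_option autoImplicit false

universe w v u

open CategoryTheory Category Limits CochainComplex HomComplex Pretriangulated

namespace Groth.Agent.H16.RelKProj

variable {C : Type u} [Category.{v} C] [Abelian C]

local notation "q" => HomotopyCategory.quotient C (ComplexShape.up ℤ)

lemma hom_eq_zero {M N : CochainComplex C ℤ} [M.IsStrictlyLE 0] [Projective (M.X 0)]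
    [N.IsStrictlyGE (-2)] (hN : HomotopyCategory.subcategoryAcyclic C ((q).obj N))
    (φ : (q).obj M ⟶ (q).obj N) : φ = 0 := by
  obtain ⟨f, rfl⟩ := (q).map_surjective φ
  rw [HomotopyCategory.quotient_obj_mem_subcategoryAcyclic_iff_exactAt] at hN
  obtain ⟨h⟩ := nonempty_homotopy_zero hN f
  rw [HomotopyCategory.eq_of_homotopy f 0 h, Functor.map_zero]

section

variable {M K K' : CochainComplex C ℤ} [M.IsStrictlyLE 0] [Projective (M.X 0)]
  [K.IsStrictlyGE (-1)] [K'.IsStrictlyGE (-1)] (s : K ⟶ K') [QuasiIso s]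

include s in
lemma cone_acyclic :
    HomotopyCategory.subcategoryAcyclic C ((q).obj (mappingCone s)) := by
  have h : HomotopyCategory.quasiIso C (ComplexShape.up ℤ) ((q).map s) := by
    rw [HomotopyCategory.quotient_map_mem_quasiIso_iff, HomologicalComplex.mem_quasiIso_iff]
    infer_instance
  rw [HomotopyCategory.quasiIso_eq_trW_subcategoryAcyclic] at h
  exact ((HomotopyCategory.subcategoryAcyclic C).trW_iff_of_distinguished _
    (HomotopyCategory.mappingCone_triangleh_distinguished s)).1 h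

lemma postcomp_surjective (g : (q).obj M ⟶ (q).obj K') :
    ∃ α : (q).obj M ⟶ (q).obj K, α ≫ (q).map s = g := by
  haveI : (mappingCone s).IsStrictlyGE (-2) := isStrictlyGE_mappingCone s (-1) (-1) (-2)
  have hT := HomotopyCategory.mappingCone_triangleh_distinguished s
  have hz : g ≫ (mappingCone.triangleh s).mor₂ = 0 := hom_eq_zero (cone_acyclic s) _
  obtain ⟨α, hα⟩ := Triangle.coyoneda_exact₂ _ hT g hz
  exact ⟨α, hα.symm⟩

lemma postcomp_injective (g : (q).obj M ⟶ (q).obj K) (hg : g ≫ (q).map s = 0) : g = 0 := by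
  haveI : (mappingCone s).IsStrictlyGE (-2) := isStrictlyGE_mappingCone s (-1) (-1) (-2)
  haveI : ((mappingCone s)⟦(-1 : ℤ)⟧).IsStrictlyGE (-1) :=
    (mappingCone s).isStrictlyGE_shift (-2) (-1) (-1) (by omega)
  haveI : ((mappingCone s)⟦(-1 : ℤ)⟧).IsStrictlyGE (-2) :=
    ((mappingCone s)⟦(-1 : ℤ)⟧).isStrictlyGE_of_ge (-2) (-1) (by omega)
  have hT := HomotopyCategory.mappingCone_triangleh_distinguished s
  obtain ⟨β, hβ⟩ := Triangle.coyoneda_exact₂ _ (inv_rot_of_distTriang _ hT) g hg
  let e : ((q).obj (mappingCone s))⟦(-1 : ℤ)⟧ ≅ (q).obj ((mappingCone s)⟦(-1 : ℤ)⟧) :=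
    (((q).commShiftIso (-1 : ℤ)).symm.app (mappingCone s))
  have hacyc : HomotopyCategory.subcategoryAcyclic C ((q).obj ((mappingCone s)⟦(-1 : ℤ)⟧)) :=
    (HomotopyCategory.subcategoryAcyclic C).prop_of_iso e
      ((HomotopyCategory.subcategoryAcyclic C).le_shift (-1) _ (cone_acyclic s))
  have h0 : β ≫ e.hom = 0 := hom_eq_zero hacyc _
  have hβ0 : β = 0 := (cancel_mono e.hom).1 (h0.trans zero_comp.symm)
  exact hβ.trans ((congrArg (fun x => x ≫ _) hβ0).trans zero_comp)

end

end Groth.Agent.H16.RelKProj
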