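import Groth.Agent.H16.RelKProjB

/-!
# A relative K-projectivity lemma, part C : the bijection
-/

set_option autoImplicit false

universe w v u

open CategoryTheory Category Limits CochainComplex HomComplex Pretriangulated

namespace Groth.Agent.H16.RelKProj

variable {C : Type u} [Category.{v} C] [Abelian C] [HasDerivedCategory.{w} C]

local notation "q" => HomotopyCategory.quotient C (ComplexShape.up ℤ)

section

variable (M K : CochainComplex C ℤ) [M.IsStrictlyLE 0] [Projective (M.X 0)]
    [K.IsStrictlyGE (-1)]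

lemma exists_lift (φ : DerivedCategory.Q.obj M ⟶ DerivedCategory.Q.obj K) :
    ∃ a : M ⟶ K, DerivedCategory.Q.map a = φ := by
  obtain ⟨K', _, g, s, hs, hφ⟩ := DerivedCategory.left_fac_of_isStrictlyGE φ (-1)
  haveI : QuasiIso s := by
    rwa [DerivedCategory.isIso_Q_map_iff_quasiIso] at hs
  obtain ⟨α, hα⟩ := postcomp_surjective (M := M) s ((q).map g)
  obtain ⟨a, rfl⟩ := (q).map_surjective α
  refine ⟨a, ?_⟩
  rw [hφ, ← cancel_mono (DerivedCategory.Q.map s), assoc, IsIso.inv_hom_id, comp_id,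
    ← Functor.map_comp]
  rw [← Functor.map_comp] at hα
  exact congrArg (fun x => DerivedCategory.Qh.map x) hα

lemma eq_of_Q_map_eq (f₁ f₂ : (q).obj M ⟶ (q).obj K)
    (hf : DerivedCategory.Qh.map f₁ = DerivedCategory.Qh.map f₂) : f₁ = f₂ := by
  rw [MorphismProperty.map_eq_iff_postcomp DerivedCategory.Qh
    (HomotopyCategory.quasiIso C (ComplexShape.up ℤ))] at hf
  obtain ⟨Z, s, hs, eq⟩ := hf
  obtain ⟨K₁, rfl⟩ := HomotopyCategory.quotient_obj_surjective Z
  obtain ⟨s, rfl⟩ := (q).map_surjective s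
  rw [HomotopyCategory.quotient_map_mem_quasiIso_iff, HomologicalComplex.mem_quasiIso_iff] at hs
  haveI : CochainComplex.IsGE K₁ (-1) := by
    rw [isGE_iff]
    intro i hi
    rw [← exactAt_iff_of_quasiIsoAt s i]
    exact K.exactAt_of_isGE (-1) i hi
  haveI : QuasiIso (s ≫ CochainComplex.πTruncGE K₁ (-1)) := inferInstance
  have h := postcomp_injective (M := M) (s ≫ CochainComplex.πTruncGE K₁ (-1)) (f₁ - f₂) (by
    rw [Preadditive.sub_comp, Functor.map_comp, ← assoc, ← assoc, eq, sub_self])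
  exact sub_eq_zero.1 h

theorem Qh_map_bijective :
    Function.Bijective (fun φ : (q).obj M ⟶ (q).obj K => DerivedCategory.Qh.map φ) := by
  constructor
  · intro f₁ f₂ hf
    exact eq_of_Q_map_eq M K f₁ f₂ hf
  · intro φ
    obtain ⟨a, ha⟩ := exists_lift M K φ
    exact ⟨(q).map a, ha⟩

end

end Groth.Agent.H16.RelKProj
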