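import Groth.Agent.H16.RelKProjC

/-!
# A relative K-projectivity lemma, part D : maps to `N[1]`
-/

set_option autoImplicit false

universe w v u

open CategoryTheory Category Limits CochainComplex HomComplex Pretriangulated

namespace Groth.Agent.H16.RelKProj

variable {C : Type u} [Category.{v} C] [Abelian C] [HasDerivedCategory.{w} C]

local notation "q" => HomotopyCategory.quotient C (ComplexShape.up ℤ)

section

variable (M K : CochainComplex C ℤ) [M.IsStrictlyLE 0] [Projective (M.X 0)]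

/-- the shift isomorphism `N[0][1] ≅ N[1]` in the derived category. -/
noncomputable abbrev shiftE (N : C) :
    ((DerivedCategory.singleFunctor C 0).obj N)⟦(1 : ℤ)⟧ ≅
      DerivedCategory.Q.obj ((HomologicalComplex.single C (ComplexShape.up ℤ) (-1)).obj N) :=
  ((DerivedCategory.singleFunctors C).shiftIso 1 (-1) 0 (by omega)).app N

lemma exists_h_of_forall [K.IsStrictlyGE (-1)] (a : M ⟶ K)
    (H : ∀ ξ : DerivedCategory.Q.obj K ⟶
      ((DerivedCategory.singleFunctor C 0).obj (K.X (-1)))⟦(1 : ℤ)⟧, DerivedCategory.Q.map a ≫ ξ = 0) :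
    ∃ h : M.X 0 ⟶ K.X (-1), a.f (-1) + M.d (-1) 0 ≫ h = 0 := by
  let T : CochainComplex C ℤ :=
    (HomologicalComplex.single C (ComplexShape.up ℤ) (-1)).obj (K.X (-1))
  let x : K ⟶ T := HomologicalComplex.mkHomToSingle (𝟙 _) (fun i hi =>
    (K.isZero_of_isStrictlyGE (-1) i (by simp at hi; omega)).eq_of_src _ _)
  have hx : x.f (-1) = (HomologicalComplex.singleObjXSelf (ComplexShape.up ℤ) (-1) (K.X (-1))).inv := by
    simp [x, HomologicalComplex.mkHomToSingle_f]
  have h1 := H (DerivedCategory.Q.map x ≫ (shiftE (K.X (-1))).inv)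
  have h2 : DerivedCategory.Q.map (a ≫ x) = 0 := by
    rw [Functor.map_comp]
    rw [← assoc] at h1
    exact (cancel_mono (shiftE (K.X (-1))).inv).1 (h1.trans zero_comp.symm)
  have h3 : (q).map (a ≫ x) = 0 :=
    eq_of_Q_map_eq M T _ _ (h2.trans (Functor.map_zero _ _ _).symm)
  have Hh : Homotopy (a ≫ x) 0 :=
    HomotopyCategory.homotopyOfEq _ _ (h3.trans (Functor.map_zero _ _ _).symm)
  have hc := Hh.comm (-1)
  rw [dNext_eq Hh.hom (show (ComplexShape.up ℤ).Rel (-1) 0 by simp),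
    prevD_eq Hh.hom (show (ComplexShape.up ℤ).Rel (-2) (-1) by simp)] at hc
  have hz : Hh.hom (-1) (-2) = 0 :=
    (HomologicalComplex.isZero_single_obj_X (ComplexShape.up ℤ) (-1) (K.X (-1)) (-2)
      (by omega)).eq_of_tgt _ _
  rw [hz, zero_comp, add_zero, HomologicalComplex.zero_f, add_zero,
    HomologicalComplex.comp_f, hx] at hc
  refine ⟨-(Hh.hom 0 (-1) ≫
    (HomologicalComplex.singleObjXSelf (ComplexShape.up ℤ) (-1) (K.X (-1))).hom), ?_⟩
  rw [Preadditive.comp_neg, ← sub_eq_add_neg, sub_eq_zero, ← assoc, ← hc, assoc, Iso.inv_hom_id,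
    comp_id]

lemma comp_eq_zero_of_h [K.IsStrictlyLE 0] [Projective (K.X 0)] (a : M ⟶ K)
    (h : M.X 0 ⟶ K.X (-1)) (hh : a.f (-1) + M.d (-1) 0 ≫ h = 0) (N : C)
    (ξ : DerivedCategory.Q.obj K ⟶ ((DerivedCategory.singleFunctor C 0).obj N)⟦(1 : ℤ)⟧) :
    DerivedCategory.Q.map a ≫ ξ = 0 := by
  let T : CochainComplex C ℤ := (HomologicalComplex.single C (ComplexShape.up ℤ) (-1)).obj N
  obtain ⟨x, hx⟩ := exists_lift K T (ξ ≫ (shiftE N).hom)
  have ha : a.f (-1) = -(M.d (-1) 0 ≫ h) := eq_neg_of_add_eq_zero_left hh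
  have Hh : Homotopy (a ≫ x) 0 := by
    refine (Cochain.equivHomotopy _ _).symm ⟨hCochain (-(h ≫ x.f (-1))) 0, ?_⟩
    ext p
    rw [Cochain.ofHom_v, Cochain.add_v, Cochain.ofHom_zero, Cochain.zero_v, add_zero]
    by_cases hp : p = -1
    · subst hp
      rw [δ_v (-1) 0 (by omega) _ (-1) (-1) (add_zero (-1)) (-2) 0 (by omega) (by omega)]
      simp only [Int.negOnePow_zero, one_smul]
      rw [hCochain_v_neg_one, hCochain_v_zero, zero_comp, zero_add, HomologicalComplex.comp_f, ha,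
        Preadditive.neg_comp, Preadditive.comp_neg, assoc]
    · exact (HomologicalComplex.isZero_single_obj_X (ComplexShape.up ℤ) (-1) N p hp).eq_of_tgt _ _
  have h0 : DerivedCategory.Q.map (a ≫ x) = 0 :=
    (DerivedCategory.Q_map_eq_of_homotopy (C := C) Hh).trans (Functor.map_zero _ _ _)
  have h1 : (DerivedCategory.Q.map a ≫ ξ) ≫ (shiftE N).hom = 0 := by
    rw [assoc, ← hx, ← Functor.map_comp, h0]
  exact (cancel_mono (shiftE N).hom).1 (h1.trans zero_comp.symm)

end

end Groth.Agent.H16.RelKProj
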