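import Groth.Agent.H16.ThetaC

/-!
# Cohomology sheaves of a derived limit (helper16), part A: towers of sheaves and their limits
-/

set_option autoImplicit false
universe u
open CategoryTheory CategoryTheory.Limits Opposite DerivedCategory

namespace Groth.Agent.H16.RlimCohSheafA

open Groth.Agent.H30.HDSheafify

variable {C : Type u} [SmallCategory C] {J : GrothendieckTopology C}

lemma evalGen_comp' {F G : Sheaf J AddCommGrpCat.{u}} (U : C) (φ : CohCx.freeSheaf J U ⟶ F)
    (g : F ⟶ G) :
    CohFree.evalGen J U G (φ ≫ g) = (g.hom.app (op U)).hom (CohFree.evalGen J U F φ) := rfl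

lemma ofSect_comp' {F G : Sheaf J AddCommGrpCat.{u}} (U : C) (s : F.obj.obj (op U)) (g : F ⟶ G) :
    CohFree.ofSect J U F s ≫ g = CohFree.ofSect J U G ((g.hom.app (op U)).hom s) := by
  apply (CohFree.homEquivSect J U G).injective
  rw [CohFree.homEquivSect_apply, CohFree.homEquivSect_apply, evalGen_comp',
    CohFree.evalGen_ofSect, CohFree.evalGen_ofSect]

section tower

variable (G : ℕ → Sheaf J AddCommGrpCat.{u}) (τ : ∀ n, G (n + 1) ⟶ G n)

/-- the cone over the tower attached to a compatible family of morphisms. -/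
noncomputable def coneOf {X : Sheaf J AddCommGrpCat.{u}} (φ : ∀ n, X ⟶ G n)
    (hφ : ∀ n, φ (n + 1) ≫ τ n = φ n) : Cone (CohCx.opSequence G τ) where
  pt := X
  π := NatTrans.ofOpSequence (F := (Functor.const ℕᵒᵖ).obj X) (G := CohCx.opSequence G τ)
    (fun n => φ n) (fun n => by
      rw [Functor.ofOpSequence_map_homOfLE_succ]
      exact (Category.id_comp _).trans (hφ n).symm)

lemma lift_π {X : Sheaf J AddCommGrpCat.{u}} (φ : ∀ n, X ⟶ G n)
    (hφ : ∀ n, φ (n + 1) ≫ τ n = φ n) (n : ℕ) :
    limit.lift (CohCx.opSequence G τ) (coneOf G τ φ hφ) ≫ limit.π (CohCx.opSequence G τ) (op n) =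
      φ n :=
  limit.lift_π _ _

lemma π_succ (n : ℕ) :
    limit.π (CohCx.opSequence G τ) (op (n + 1)) ≫ τ n = limit.π (CohCx.opSequence G τ) (op n) := by
  have h := limit.w (CohCx.opSequence G τ) (homOfLE (Nat.le_add_right n 1)).op
  rw [Functor.ofOpSequence_map_homOfLE_succ] at h
  exact h

/-- the projections of the limit are jointly injective on sections. -/
lemma sections_ext (U : C) (s s' : (limit (CohCx.opSequence G τ)).obj.obj (op U))
    (h : ∀ n, ((limit.π (CohCx.opSequence G τ) (op n)).hom.app (op U)).hom s =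
      ((limit.π (CohCx.opSequence G τ) (op n)).hom.app (op U)).hom s') : s = s' := by
  apply (CohFree.homEquivSect J U _).symm.injective
  change CohFree.ofSect J U _ s = CohFree.ofSect J U _ s'
  refine limit.hom_ext (fun j => ?_)
  obtain ⟨n⟩ := j
  rw [ofSect_comp', ofSect_comp', h n]

/-- every compatible family of sections comes from a section of the limit. -/
lemma exists_section (U : C) (s : ∀ n, (G n).obj.obj (op U))
    (hs : ∀ n, ((τ n).hom.app (op U)).hom (s (n + 1)) = s n) :
    ∃ σ : (limit (CohCx.opSequence G τ)).obj.obj (op U),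
      ∀ n, ((limit.π (CohCx.opSequence G τ) (op n)).hom.app (op U)).hom σ = s n := by
  let φ : ∀ n, CohCx.freeSheaf J U ⟶ G n := fun n => CohFree.ofSect J U (G n) (s n)
  have hφ : ∀ n, φ (n + 1) ≫ τ n = φ n := by
    intro n
    change CohFree.ofSect J U _ (s (n + 1)) ≫ τ n = CohFree.ofSect J U _ (s n)
    rw [ofSect_comp', hs]
  refine ⟨CohFree.evalGen J U _ (limit.lift (CohCx.opSequence G τ) (coneOf G τ φ hφ)), fun n => ?_⟩
  refine (evalGen_comp' U _ _).symm.trans ?_
  refine (congrArg (CohFree.evalGen J U (G n)) (lift_π G τ φ hφ n)).trans ?_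
  exact CohFree.evalGen_ofSect J U (G n) (s n)

end tower

end Groth.Agent.H16.RlimCohSheafA
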