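import Groth.Agent.H16.RlimCohSheafA
import Groth.Prelude.Def_DCoh2

/-!
# Cohomology sheaves of a derived limit (helper16), part B
-/

set_option autoImplicit false
universe u
open CategoryTheory CategoryTheory.Limits Opposite DerivedCategory

namespace Groth.Agent.H16.RlimCohSheafB

open Groth.Agent.H16.RlimCohSheafA Groth.Agent.H16.ThetaB Groth.Agent.H16.ThetaC

lemma limOne_transfer {A A' : ℕ → Type u} [∀ n, AddCommGroup (A n)] [∀ n, AddCommGroup (A' n)]
    (t : ∀ n, A (n + 1) →+ A n) (t' : ∀ n, A' (n + 1) →+ A' n) (e : ∀ n, A n →+ A' n)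
    (he : ∀ n, Function.Bijective (e n)) (hcomm : ∀ n x, e n (t n x) = t' n (e (n + 1) x))
    (h : CohCx.LimOneIsZero A' t') : CohCx.LimOneIsZero A t := by
  intro b
  obtain ⟨a', ha'⟩ := h (fun n => e n (b n))
  choose a ha using fun n => (he n).2 (a' n)
  refine ⟨a, ?_⟩
  funext n
  apply (he n).1
  have h1 := congrFun ha' n
  change e n (a n - t n (a (n + 1))) = e n (b n)
  rw [map_sub, hcomm, ha, ha]
  exact h1

variable {C : Type u} [SmallCategory C] {J : GrothendieckTopology C}
  [HasDerivedCategory.{u} (Sheaf J AddCommGrpCat.{u})]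

lemma theta_zero (K : DerivedCategory (Sheaf J AddCommGrpCat.{u})) (q : ℤ) (U : C) :
    theta K q U 0 = 0 := map_zero (thetaHom K q U)

section main

variable (K : ℕ → DerivedCategory (Sheaf J AddCommGrpCat.{u})) (t : ∀ n, K (n + 1) ⟶ K n)
  [HasProduct K] (L : DerivedCategory (Sheaf J AddCommGrpCat.{u})) (a : ∀ n, L ⟶ K n)
  (hL : CohCx.IsRlimVia K t L a) (B : Set C)
  (hB : ∀ U : C, ∃ (ι : Type u) (Y : ι → C) (f : ∀ i, Y i ⟶ U), Sieve.ofArrows Y f ∈ J U ∧ ∀ i, Y i ∈ B)
  (h1 : ∀ U ∈ B, ∀ (p : ℕ) (q : ℤ) (n : ℕ), Subsingleton (CohSite.HU (CohCx.HD (K n) q) (p + 1) U))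
  (h2 : ∀ U ∈ B, ∀ (q : ℤ), CohCx.LimOneIsZero (fun n => (CohCx.HD (K n) q).obj.obj (op U))
    (fun n => (((DerivedCategory.homologyFunctor _ q).map (t n)).hom.app (op U)).hom))

include hB h1 in
lemma theta_bij (n : ℕ) (U : C) (hU : U ∈ B) (q : ℤ) : Function.Bijective (theta (K n) q U) :=
  theta_bijective (K n) B hB (fun U hU p q' => h1 U hU p q' n) U hU q

include hB h1 h2 in
lemma limOne_HDU (U : C) (hU : U ∈ B) (q : ℤ) :
    CohCx.LimOneIsZero (fun n => CohCx.HDU (K n) q U)
      (fun n => Preadditive.rightComp _ ((shiftFunctor _ q).map (t n))) := by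
  refine limOne_transfer _ _ (fun n => thetaHom (K n) q U) (fun n => theta_bij K B hB h1 n U hU q)
    ?_ (h2 U hU q)
  intro n x
  exact theta_naturality (t n) q U x

/-- the tower of cohomology sheaves. -/
noncomputable abbrev Gq (q : ℤ) (n : ℕ) : Sheaf J AddCommGrpCat.{u} := CohCx.HD (K n) q

/-- its transition maps. -/
noncomputable abbrev τq (q : ℤ) (n : ℕ) : Gq K q (n + 1) ⟶ Gq K q n :=
  (DerivedCategory.homologyFunctor _ q).map (t n)

/-- the maps `H^q(L) ⟶ H^q(K_n)`. -/
noncomputable abbrev φq (q : ℤ) (n : ℕ) : CohCx.HD L q ⟶ Gq K q n :=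
  (DerivedCategory.homologyFunctor _ q).map (a n)

include hL in
lemma φq_comp (q : ℤ) (n : ℕ) : φq K L a q (n + 1) ≫ τq K t q n = φq K L a q n := by
  dsimp only [φq, τq]
  rw [← Functor.map_comp, RlimInjA.a_comp_t hL]

/-- the comparison map `H^q(L) ⟶ lim H^q(K_n)`. -/
noncomputable def αq (q : ℤ) :
    CohCx.HD L q ⟶ limit (CohCx.opSequence (Gq K q) (τq K t q)) :=
  limit.lift _ (coneOf (Gq K q) (τq K t q) (φq K L a q) (φq_comp K t L a hL q))

lemma αq_π (q : ℤ) (n : ℕ) :
    αq K t L a hL q ≫ limit.π (CohCx.opSequence (Gq K q) (τq K t q)) (op n) = φq K L a q n :=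
  lift_π _ _ _ _ n

include hL hB h1 h2 in
/-- injectivity of the comparison map on sections. -/
lemma αq_injective (q : ℤ) (V : C) (s : (CohCx.HD L q).obj.obj (op V))
    (hs : ∀ n, ((φq K L a q n).hom.app (op V)).hom s = 0) : s = 0 := by
  obtain ⟨R, hR, hR'⟩ := theta_locally_surjective L q V s
  refine RlimInjB.eq_zero_of_cover J _ V s R hR ?_
  intro W f hf
  obtain ⟨yf, hyf⟩ := hR' f hf
  obtain ⟨ι, Y, g, hcov, hYB⟩ := hB W
  refine RlimInjB.eq_zero_of_cover J _ W _ (Sieve.ofArrows Y g) hcov ?_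
  intro Z k hk
  obtain ⟨i, u, rfl⟩ := (Sieve.mem_ofArrows_iff Y g k).1 hk
  -- it suffices to treat `g i`
  suffices hsuff : ((CohCx.HD L q).obj.map (g i).op).hom (((CohCx.HD L q).obj.map f.op).hom s) = 0 by
    have h3 : ((CohCx.HD L q).obj.map (u ≫ g i).op).hom (((CohCx.HD L q).obj.map f.op).hom s) =
        ((CohCx.HD L q).obj.map u.op).hom (((CohCx.HD L q).obj.map (g i).op).hom
          (((CohCx.HD L q).obj.map f.op).hom s)) := by
      rw [op_comp, Functor.map_comp]
      rfl
    rw [h3, hsuff, map_zero]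
  let y := CohCx.HDUres L q (g i) yf
  have hy : theta L q (Y i) y = ((CohCx.HD L q).obj.map (g i).op).hom
      (((CohCx.HD L q).obj.map f.op).hom s) := by
    rw [← hyf]
    exact theta_res q (g i) yf
  have hyn : ∀ n, y ≫ (a n)⟦q⟧' = 0 := by
    intro n
    apply (theta_bij K B hB h1 n (Y i) (hYB i) q).1
    rw [theta_zero, theta_naturality, hy, RlimInjB.res_comm J, RlimInjB.res_comm J, hs n, map_zero,
      map_zero]
  have hy0 : y = 0 := RlimMilnor.eq_zero_of_limOne hL _ q
    (limOne_HDU K t B hB h1 h2 (Y i) (hYB i) (q - 1)) y hyn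
  rw [← hy, hy0, theta_zero]

include hB h1 in
/-- surjectivity of the comparison map on sections over members of `B`. -/
lemma αq_surjective (q : ℤ) (U : C) (hU : U ∈ B)
    (σ : (limit (CohCx.opSequence (Gq K q) (τq K t q))).obj.obj (op U)) :
    ∃ s : (CohCx.HD L q).obj.obj (op U), ((αq K t L a hL q).hom.app (op U)).hom s = σ := by
  let sn : ∀ n, (Gq K q n).obj.obj (op U) := fun n =>
    ((limit.π (CohCx.opSequence (Gq K q) (τq K t q)) (op n)).hom.app (op U)).hom σ
  have hsn : ∀ n, ((τq K t q n).hom.app (op U)).hom (sn (n + 1)) = sn n := by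
    intro n
    have h := π_succ (Gq K q) (τq K t q) n
    exact congrArg (fun (φ : limit (CohCx.opSequence (Gq K q) (τq K t q)) ⟶ Gq K q n) =>
      (φ.hom.app (op U)).hom σ) h
  choose x hx using fun n => (theta_bij K B hB h1 n U hU q).2 (sn n)
  have hxc : ∀ n, x (n + 1) ≫ (t n)⟦q⟧' = x n := by
    intro n
    apply (theta_bij K B hB h1 n U hU q).1
    rw [theta_naturality, hx, hx]
    exact hsn n
  obtain ⟨y, hy⟩ := RlimMilnor.exists_lift hL _ q x hxc
  refine ⟨theta L q U y, ?_⟩
  apply sections_ext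
  intro n
  rw [← RlimInjB.comp_apply' J, αq_π]
  change ((φq K L a q n).hom.app (op U)).hom (theta L q U y) = sn n
  rw [← theta_naturality, hy n, hx]

include hB h1 h2 in
/-- **The cohomology sheaves of a derived limit**: `H^q(L) = lim H^q(K_n)`. -/
theorem isIso_αq (q : ℤ) : IsIso (αq K t L a hL q) := by
  have hmono : Mono (αq K t L a hL q) := by
    have hm : Mono (αq K t L a hL q).hom := by
      rw [NatTrans.mono_iff_mono_app]
      intro V
      rw [AddCommGrpCat.mono_iff_injective]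
      refine (injective_iff_map_eq_zero ((αq K t L a hL q).hom.app V).hom).2 ?_
      intro s hs
      refine αq_injective K t L a hL B hB h1 h2 q V.unop s (fun n => ?_)
      have h3 : ((φq K L a q n).hom.app (op V.unop)).hom s =
          ((limit.π (CohCx.opSequence (Gq K q) (τq K t q)) (op n)).hom.app (op V.unop)).hom
            (((αq K t L a hL q).hom.app (op V.unop)).hom s) := by
        rw [← RlimInjB.comp_apply' J, αq_π]
        rfl
      rw [h3]
      have h4 : ((αq K t L a hL q).hom.app (op V.unop)).hom s = 0 := hs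
      rw [h4, map_zero]
      rfl
    exact (Sheaf.Hom.mono_iff_presheaf_mono J AddCommGrpCat.{u} _).2 hm
  have hepi : Epi (αq K t L a hL q) := by
    have : Sheaf.IsLocallySurjective (αq K t L a hL q) := by
      constructor
      intro V σ
      obtain ⟨ι, Y, g, hcov, hYB⟩ := hB V
      refine J.superset_covering ?_ hcov
      intro Z k hk
      obtain ⟨i, u, rfl⟩ := (Sieve.mem_ofArrows_iff Y g k).1 hk
      obtain ⟨s, hs⟩ := αq_surjective K t L a hL B hB h1 q (Y i) (hYB i)
        (((limit (CohCx.opSequence (Gq K q) (τq K t q))).obj.map (g i).op).hom σ)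
      refine ⟨((CohCx.HD L q).obj.map u.op).hom s, ?_⟩
      have h5 := RlimInjB.res_comm J (αq K t L a hL q) u s
      refine h5.trans ?_
      rw [hs]
      have h6 : ((limit (CohCx.opSequence (Gq K q) (τq K t q))).obj.map (u ≫ g i).op).hom σ =
          ((limit (CohCx.opSequence (Gq K q) (τq K t q))).obj.map u.op).hom
            (((limit (CohCx.opSequence (Gq K q) (τq K t q))).obj.map (g i).op).hom σ) := by
        rw [op_comp, Functor.map_comp]
        rfl
      exact h6.symm
    exact (Sheaf.isLocallySurjective_iff_epi' (φ := αq K t L a hL q)).1 this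
  exact isIso_of_mono_of_epi _

end main

end Groth.Agent.H16.RlimCohSheafB
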