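import Groth.Agent.H16.RlimSingleA
import Mathlib.Algebra.Homology.DerivedCategory.FullyFaithful

/-!
# The limit of an acyclic tower of sheaves is its derived limit (helper16), part B
-/

set_option autoImplicit false
universe u
open CategoryTheory CategoryTheory.Limits Opposite DerivedCategory Pretriangulated

namespace Groth.Agent.H16.RlimSingleB

open Groth.Agent.H16.RlimSingleA Groth.Agent.H16.RlimCohSheafA Groth.Agent.H16.RlimCohSheafB

variable {C : Type u} [SmallCategory C] {J : GrothendieckTopology C}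
  [HasDerivedCategory.{u} (Sheaf J AddCommGrpCat.{u})]

lemma limOne_of_subsingleton (A : ℕ → Type u) [∀ n, AddCommGroup (A n)] (t : ∀ n, A (n + 1) →+ A n)
    (h : ∀ n, Subsingleton (A n)) : CohCx.LimOneIsZero A t := by
  intro b
  exact ⟨b, funext fun n => Subsingleton.elim _ _⟩

lemma subsingleton_sections_of_isZero {G : Sheaf J AddCommGrpCat.{u}} (hG : IsZero G) (U : C) :
    Subsingleton (G.obj.obj (op U)) := by
  constructor
  intro x y
  have h0 : ∀ z : G.obj.obj (op U), z = 0 := by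
    intro z
    have h1 : ((𝟙 G : G ⟶ G).hom.app (op U)).hom z = z := rfl
    rw [← h1]
    exact RlimInjB.apply_of_eq_zero J (𝟙 G) (hG.eq_of_src _ _) U z
  exact (h0 x).trans (h0 y).symm

/-- `H^0(F[0]) = F`. -/
noncomputable def hdZeroIso (F : Sheaf J AddCommGrpCat.{u}) :
    CohCx.HD ((singleFunctor (Sheaf J AddCommGrpCat.{u}) 0).obj F) 0 ≅ F :=
  (singleFunctorCompHomologyFunctorIso (Sheaf J AddCommGrpCat.{u}) 0).app F

lemma hdZeroIso_naturality {F F' : Sheaf J AddCommGrpCat.{u}} (f : F ⟶ F') :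
    (DerivedCategory.homologyFunctor _ 0).map ((singleFunctor (Sheaf J AddCommGrpCat.{u}) 0).map f) ≫
      (hdZeroIso F').hom = (hdZeroIso F).hom ≫ f :=
  (singleFunctorCompHomologyFunctorIso (Sheaf J AddCommGrpCat.{u}) 0).hom.naturality f

/-- `H^q(F[0]) = 0` for `q ≠ 0`. -/
lemma isZero_hd_single (F : Sheaf J AddCommGrpCat.{u}) (q : ℤ) (hq : q ≠ 0) :
    IsZero (CohCx.HD ((singleFunctor (Sheaf J AddCommGrpCat.{u}) 0).obj F) q) := by
  rcases lt_or_gt_of_ne hq with h | h
  · exact DerivedCategory.isZero_of_isGE _ 0 q h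
  · exact DerivedCategory.isZero_of_isLE _ 0 q h

section main

variable (F : ℕ → Sheaf J AddCommGrpCat.{u}) (t : ∀ n, F (n + 1) ⟶ F n) (B : Set C)
  (hB : ∀ U : C, ∃ (ι : Type u) (Y : ι → C) (f : ∀ i, Y i ⟶ U), Sieve.ofArrows Y f ∈ J U ∧ ∀ i, Y i ∈ B)
  (h1 : ∀ U ∈ B, ∀ (p n : ℕ), Subsingleton (CohSite.HU (F n) (p + 1) U))
  (h2 : ∀ U ∈ B, CohCx.LimOneIsZero (fun n => (F n).obj.obj (op U)) (fun n => ((t n).hom.app (op U)).hom))

/-- the tower in the derived category. -/
noncomputable abbrev Kn (n : ℕ) : DerivedCategory (Sheaf J AddCommGrpCat.{u}) :=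
  (singleFunctor (Sheaf J AddCommGrpCat.{u}) 0).obj (F n)

/-- its transition maps. -/
noncomputable abbrev tn (n : ℕ) : Kn F (n + 1) ⟶ Kn F n :=
  (singleFunctor (Sheaf J AddCommGrpCat.{u}) 0).map (t n)

include h1 in
lemma h1' : ∀ U ∈ B, ∀ (p : ℕ) (q : ℤ) (n : ℕ),
    Subsingleton (CohSite.HU (CohCx.HD (Kn F n) q) (p + 1) U) := by
  intro U hU p q n
  by_cases hq : q = 0
  · subst hq
    exact subsingleton_HU_of_iso (hdZeroIso (F n)).symm (p + 1) U (h1 U hU p n)
  · exact subsingleton_HU_of_isZero (isZero_hd_single (F n) q hq) (p + 1) U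

include h2 in
lemma h2' : ∀ U ∈ B, ∀ (q : ℤ), CohCx.LimOneIsZero (fun n => (CohCx.HD (Kn F n) q).obj.obj (op U))
    (fun n => (((DerivedCategory.homologyFunctor _ q).map (tn F t n)).hom.app (op U)).hom) := by
  intro U hU q
  by_cases hq : q = 0
  · subst hq
    refine limOne_transfer _ _ (fun n => ((hdZeroIso (F n)).hom.hom.app (op U)).hom)
      (fun n => RlimInjB.bijective_of_isIso J (hdZeroIso (F n)).hom U) ?_ (h2 U hU)
    intro n x
    have h := hdZeroIso_naturality (t n)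
    exact congrArg (fun (φ : CohCx.HD (Kn F (n + 1)) 0 ⟶ F n) => (φ.hom.app (op U)).hom x) h
  · exact limOne_of_subsingleton _ _
      (fun n => subsingleton_sections_of_isZero (isZero_hd_single (F n) q hq) U)

lemma isZero_limit_of_isZero (D : ℕᵒᵖ ⥤ Sheaf J AddCommGrpCat.{u}) (h : ∀ j, IsZero (D.obj j)) :
    IsZero (limit D) := by
  rw [IsZero.iff_id_eq_zero]
  refine limit.hom_ext (fun j => (h j).eq_of_tgt _ _)

/-- the comparison of towers `H^0(F_n[0]) ≅ F_n`. -/
noncomputable def towerNatTrans :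
    CohCx.opSequence (Gq (Kn F) 0) (τq (Kn F) (tn F t) 0) ⟶ CohCx.opSequence F t :=
  NatTrans.ofOpSequence (fun n => (hdZeroIso (F n)).hom) (fun n => by
    rw [Functor.ofOpSequence_map_homOfLE_succ, Functor.ofOpSequence_map_homOfLE_succ]
    exact hdZeroIso_naturality (t n))

instance : IsIso (towerNatTrans F t) := by
  have : ∀ j, IsIso ((towerNatTrans F t).app j) := by
    intro j
    obtain ⟨n⟩ := j
    exact inferInstanceAs (IsIso (hdZeroIso (F n)).hom)
  exact NatIso.isIso_of_isIso_app _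

lemma subsingleton_HDU_Kn (U : C) (k : ℕ) (n : ℕ) (h : Subsingleton (CohSite.HU (F n) k U)) :
    Subsingleton (CohCx.HDU (Kn F n) (k : ℤ) U) := by
  have h' : Subsingleton (Abelian.Ext (CohCx.freeSheaf J U) (F n) k) := h
  exact (Abelian.Ext.homEquiv (X := CohCx.freeSheaf J U) (Y := F n) (n := k)).symm.subsingleton

include hB h1 h2 in
/-- **Main theorem**. -/
theorem main [HasProduct (Kn F)] :
    DCoh.IsRlim (Kn F) (tn F t)
        ((singleFunctor (Sheaf J AddCommGrpCat.{u}) 0).obj (limit (CohCx.opSequence F t))) ∧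
      ∀ U ∈ B, ∀ p : ℕ, Subsingleton (CohSite.HU (limit (CohCx.opSequence F t)) (p + 1) U) := by
  let g : ∏ᶜ (Kn F) ⟶ ∏ᶜ (Kn F) :=
    Pi.lift fun n => Pi.π (Kn F) n - Pi.π (Kn F) (n + 1) ≫ tn F t n
  obtain ⟨R, a', c, hc⟩ := distinguished_cocone_triangle₁ g
  let a : ∀ n, R ⟶ Kn F n := fun n => a' ≫ Pi.π (Kn F) n
  have ha : Pi.lift a = a' := by
    apply Pi.hom_ext
    intro n
    rw [Pi.lift_π]
  have hR : CohCx.IsRlimVia (Kn F) (tn F t) R a := ⟨c, by rw [ha]; exact hc⟩
  have hiso := fun q => isIso_αq (Kn F) (tn F t) R a hR B hB (h1' F B h1) (h2' F t B h2) q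
  have hz : ∀ q : ℤ, q ≠ 0 → IsZero (CohCx.HD R q) := by
    intro q hq
    have := hiso q
    refine IsZero.of_iso ?_ (asIso (αq (Kn F) (tn F t) R a hR q))
    apply isZero_limit_of_isZero
    intro j
    obtain ⟨n⟩ := j
    exact isZero_hd_single (F n) q hq
  have hGE : R.IsGE 0 := by
    rw [DerivedCategory.isGE_iff]
    intro i hi
    exact hz i (by omega)
  have hLE : R.IsLE 0 := by
    rw [DerivedCategory.isLE_iff]
    intro i hi
    exact hz i (by omega)
  obtain ⟨Y, ⟨e⟩⟩ := exists_iso_singleFunctor_obj_of_isGE_of_isLE R 0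
  have := hiso 0
  let eY : Y ≅ limit (CohCx.opSequence F t) :=
    ((singleFunctorCompHomologyFunctorIso (Sheaf J AddCommGrpCat.{u}) 0).app Y).symm ≪≫
      (DerivedCategory.homologyFunctor _ 0).mapIso e.symm ≪≫
      asIso (αq (Kn F) (tn F t) R a hR 0) ≪≫ HasLimit.isoOfNatIso (asIso (towerNatTrans F t))
  let e' : R ≅ (singleFunctor (Sheaf J AddCommGrpCat.{u}) 0).obj (limit (CohCx.opSequence F t)) :=
    e ≪≫ (singleFunctor (Sheaf J AddCommGrpCat.{u}) 0).mapIso eY
  refine ⟨⟨e'.inv ≫ a', c ≫ e'.hom⟦(1 : ℤ)⟧', ?_⟩, ?_⟩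
  · refine isomorphic_distinguished _ hc _ ?_
    refine Triangle.isoMk _ _ e'.symm (Iso.refl _) (Iso.refl _) ?_ ?_ ?_
    · exact Category.comp_id _
    · exact (Category.comp_id _).trans (Category.id_comp _).symm
    · change (c ≫ e'.hom⟦(1 : ℤ)⟧') ≫ e'.inv⟦(1 : ℤ)⟧' = 𝟙 _ ≫ c
      rw [Category.assoc, ← Functor.map_comp, Iso.hom_inv_id, CategoryTheory.Functor.map_id,
        Category.id_comp]
      exact Category.comp_id c
  · intro U hU p
    -- `H^{p+1}(U, R) = 0` by the Milnor sequence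
    have hRsub : Subsingleton (CohCx.HDU R ((p + 1 : ℕ) : ℤ) U) := by
      constructor
      have h0 : ∀ y : CohCx.HDU R ((p + 1 : ℕ) : ℤ) U, y = 0 := by
        intro y
        refine RlimMilnor.eq_zero_of_limOne hR _ _
          (limOne_HDU (Kn F) (tn F t) B hB (h1' F B h1) (h2' F t B h2) U hU _) y (fun n => ?_)
        exact @Subsingleton.elim _ (subsingleton_HDU_Kn F U (p + 1) n (h1 U hU p n)) _ _
      intro x y
      exact (h0 x).trans (h0 y).symm
    have h3 : Subsingleton (ShiftedHom ((singleFunctor (Sheaf J AddCommGrpCat.{u}) 0).obj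
        (CohCx.freeSheaf J U)) ((singleFunctor (Sheaf J AddCommGrpCat.{u}) 0).obj
          (limit (CohCx.opSequence F t))) ((p + 1 : ℕ) : ℤ)) := by
      constructor
      intro x y
      have h4 : x ≫ e'.inv⟦((p + 1 : ℕ) : ℤ)⟧' = y ≫ e'.inv⟦((p + 1 : ℕ) : ℤ)⟧' :=
        @Subsingleton.elim _ hRsub _ _
      exact (cancel_mono (e'.inv⟦((p + 1 : ℕ) : ℤ)⟧')).1 h4
    have h5 : Subsingleton (Abelian.Ext (CohCx.freeSheaf J U) (limit (CohCx.opSequence F t))
        (p + 1)) :=
      (Abelian.Ext.homEquiv (X := CohCx.freeSheaf J U) (Y := limit (CohCx.opSequence F t))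
        (n := p + 1)).subsingleton
    exact h5

end main

end Groth.Agent.H16.RlimSingleB
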