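import Groth.Agent.H16.RlimMilnorB
import Groth.Agent.H16.RlimSingleB

/-!
# The Milnor sequence for `Ext`-groups into a sheaf which is a derived limit of a tower of sheaves (helper16)

`F n` a tower of abelian sheaves on a site with transition maps `t n`, `Lim` a sheaf with maps `b n : Lim ⟶ F n` such
that `Lim[0]` is a derived limit of `(F n)[0]` through the `b n`.  For any sheaf `Z` we get the Milnor sequence
`0 → lim¹ Ext^j(Z, F n) → Ext^{j+1}(Z, Lim) → lim Ext^{j+1}(Z, F n) → 0`.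
-/

set_option autoImplicit false
universe u
open CategoryTheory CategoryTheory.Limits Opposite DerivedCategory Pretriangulated

namespace Groth.Agent.H16.RlimLimExt

open Groth.Agent.H16.RlimSingleB Abelian

variable {C : Type u} [SmallCategory C] {J : GrothendieckTopology C}
  [HasDerivedCategory.{u} (Sheaf J AddCommGrpCat.{u})]

/-- `Ext^k(Z, G) ≃ Hom(Z[0], G[0][k])`. -/
noncomputable abbrev E (Z G : Sheaf J AddCommGrpCat.{u}) (k : ℕ) :
    Ext Z G k ≃+ ((singleFunctor (Sheaf J AddCommGrpCat.{u}) 0).obj Z ⟶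
      ((singleFunctor (Sheaf J AddCommGrpCat.{u}) 0).obj G)⟦(k : ℤ)⟧) :=
  Ext.homAddEquiv

lemma E_comp (Z : Sheaf J AddCommGrpCat.{u}) {G G' : Sheaf J AddCommGrpCat.{u}} (φ : G ⟶ G') (k : ℕ)
    (x : Ext Z G k) :
    E Z G' k (x.comp (Ext.mk₀ φ) (add_zero k)) =
      E Z G k x ≫ ((singleFunctor (Sheaf J AddCommGrpCat.{u}) 0).map φ)⟦(k : ℤ)⟧' := by
  change (x.comp (Ext.mk₀ φ) (add_zero k)).hom = x.hom ≫ _
  rw [Ext.comp_hom, Ext.mk₀_hom, ShiftedHom.comp_mk₀]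

variable (F : ℕ → Sheaf J AddCommGrpCat.{u}) (t : ∀ n, F (n + 1) ⟶ F n)
  (Lim : Sheaf J AddCommGrpCat.{u}) (b : ∀ n, Lim ⟶ F n) [HasProduct (Kn F)]
  (hR : CohCx.IsRlimVia (Kn F) (tn F t) ((singleFunctor (Sheaf J AddCommGrpCat.{u}) 0).obj Lim)
    (fun n => (singleFunctor (Sheaf J AddCommGrpCat.{u}) 0).map (b n)))

include hR in
theorem exists_lift_ext (Z : Sheaf J AddCommGrpCat.{u}) (i : ℕ) (ξ : ∀ n, Ext Z (F n) i)
    (hξ : ∀ n, (ξ (n + 1)).comp (Ext.mk₀ (t n)) (add_zero i) = ξ n) :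
    ∃ η : Ext Z Lim i, ∀ n, η.comp (Ext.mk₀ (b n)) (add_zero i) = ξ n := by
  obtain ⟨y, hy⟩ := RlimMilnor.exists_lift hR ((singleFunctor (Sheaf J AddCommGrpCat.{u}) 0).obj Z)
    (i : ℤ) (fun n => E Z (F n) i (ξ n)) (fun n => by
      rw [← hξ n]
      exact (E_comp Z (t n) i (ξ (n + 1))).symm)
  refine ⟨(E Z Lim i).symm y, fun n => ?_⟩
  apply (E Z (F n) i).injective
  rw [E_comp, AddEquiv.apply_symm_apply]
  exact hy n

include hR in
theorem exists_delta_ext (Z : Sheaf J AddCommGrpCat.{u}) (j i : ℕ) (hij : j + 1 = i) :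
    ∃ Δ : (∀ n, Ext Z (F n) j) →+ Ext Z Lim i,
      (∀ w, Δ w = 0 ↔ ∃ v : ∀ n, Ext Z (F n) j,
        ∀ n, v n - (v (n + 1)).comp (Ext.mk₀ (t n)) (add_zero j) = w n) ∧
      (∀ y : Ext Z Lim i, (∀ n, y.comp (Ext.mk₀ (b n)) (add_zero i) = 0) ↔ ∃ w, Δ w = y) := by
  obtain ⟨Δ, hΔ1, hΔ2⟩ := RlimMilnor.exists_delta hR
    ((singleFunctor (Sheaf J AddCommGrpCat.{u}) 0).obj Z) (j : ℤ) (i : ℤ) (by rw [← hij]; push_cast; rfl)
  let piE : (∀ n, Ext Z (F n) j) →+ (∀ n, (singleFunctor (Sheaf J AddCommGrpCat.{u}) 0).obj Z ⟶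
      (Kn F n)⟦(j : ℤ)⟧) :=
    { toFun := fun w n => E Z (F n) j (w n)
      map_zero' := by funext n; exact map_zero (E Z (F n) j)
      map_add' := fun w w' => by funext n; exact map_add (E Z (F n) j) _ _ }
  refine ⟨(E Z Lim i).symm.toAddMonoidHom.comp (Δ.comp piE), ?_, ?_⟩
  · intro w
    have h0 : ((E Z Lim i).symm.toAddMonoidHom.comp (Δ.comp piE)) w = 0 ↔ Δ (piE w) = 0 := by
      change (E Z Lim i).symm (Δ (piE w)) = 0 ↔ _
      exact (E Z Lim i).symm.map_eq_zero_iff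
    rw [h0, hΔ1]
    constructor
    · rintro ⟨v', hv'⟩
      refine ⟨fun n => (E Z (F n) j).symm (v' n), fun n => ?_⟩
      apply (E Z (F n) j).injective
      rw [map_sub, E_comp, AddEquiv.apply_symm_apply, AddEquiv.apply_symm_apply]
      exact hv' n
    · rintro ⟨v, hv⟩
      refine ⟨fun n => E Z (F n) j (v n), fun n => ?_⟩
      change _ = E Z (F n) j (w n)
      rw [← hv n, map_sub, E_comp]
  · intro y
    have h0 : (∀ n, y.comp (Ext.mk₀ (b n)) (add_zero i) = 0) ↔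
        ∀ n, E Z Lim i y ≫ ((singleFunctor (Sheaf J AddCommGrpCat.{u}) 0).map (b n))⟦(i : ℤ)⟧' = 0 := by
      refine forall_congr' fun n => ?_
      rw [← E_comp]
      exact (E Z (F n) i).map_eq_zero_iff.symm
    rw [h0, hΔ2]
    constructor
    · rintro ⟨w', hw'⟩
      refine ⟨fun n => (E Z (F n) j).symm (w' n), ?_⟩
      change (E Z Lim i).symm (Δ (piE _)) = y
      have h1 : piE (fun n => (E Z (F n) j).symm (w' n)) = w' := by
        funext n
        exact (E Z (F n) j).apply_symm_apply (w' n)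
      rw [h1, hw', AddEquiv.symm_apply_apply]
    · rintro ⟨w, hw⟩
      refine ⟨piE w, ?_⟩
      rw [← hw]
      exact ((E Z Lim i).apply_symm_apply _).symm

include hR in
theorem eq_of_limOne_ext (Z : Sheaf J AddCommGrpCat.{u}) (j i : ℕ) (hij : j + 1 = i)
    (hsurj : Function.Surjective (fun (w : ∀ n, Ext Z (F n) j) (n : ℕ) =>
      w n - (w (n + 1)).comp (Ext.mk₀ (t n)) (add_zero j)))
    (η η' : Ext Z Lim i)
    (h : ∀ n, η.comp (Ext.mk₀ (b n)) (add_zero i) = η'.comp (Ext.mk₀ (b n)) (add_zero i)) : η = η' := by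
  obtain ⟨Δ, hΔ1, hΔ2⟩ := exists_delta_ext F t Lim b hR Z j i hij
  have h1 : ∀ n, (η - η').comp (Ext.mk₀ (b n)) (add_zero i) = 0 := by
    intro n
    rw [sub_eq_add_neg, Ext.add_comp, Ext.neg_comp, h n, add_neg_cancel]
  obtain ⟨w, hw⟩ := (hΔ2 (η - η')).1 h1
  obtain ⟨v, hv⟩ := hsurj w
  have h2 : Δ w = 0 := (hΔ1 w).2 ⟨v, fun n => congrFun hv n⟩
  rw [h2] at hw
  exact sub_eq_zero.1 hw.symm

end Groth.Agent.H16.RlimLimExt
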