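import Groth.Agent.H16.RlimSingleB
import Groth.Agent.H16.RlimTruncC

/-!
# The limit of an acyclic tower of sheaves is its derived limit *through the projections* (helper16)

Refinement of `RlimSingleB.main`: the derived-limit structure on `(lim F_n)[0]` can be taken through the maps induced
by the projections `lim F_n ⟶ F_n`.
-/

set_option autoImplicit false
universe u
open CategoryTheory CategoryTheory.Limits Opposite DerivedCategory Pretriangulated

namespace Groth.Agent.H16.RlimLimVia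

open Groth.Agent.H16.RlimSingleA Groth.Agent.H16.RlimCohSheafA Groth.Agent.H16.RlimCohSheafB
  Groth.Agent.H16.RlimSingleB

variable {C : Type u} [SmallCategory C] {J : GrothendieckTopology C}
  [HasDerivedCategory.{u} (Sheaf J AddCommGrpCat.{u})]

variable (F : ℕ → Sheaf J AddCommGrpCat.{u}) (t : ∀ n, F (n + 1) ⟶ F n) (B : Set C)
  (hB : ∀ U : C, ∃ (ι : Type u) (Y : ι → C) (f : ∀ i, Y i ⟶ U), Sieve.ofArrows Y f ∈ J U ∧ ∀ i, Y i ∈ B)
  (h1 : ∀ U ∈ B, ∀ (p n : ℕ), Subsingleton (CohSite.HU (F n) (p + 1) U))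
  (h2 : ∀ U ∈ B, CohCx.LimOneIsZero (fun n => (F n).obj.obj (op U)) (fun n => ((t n).hom.app (op U)).hom))

/-- the maps induced by the projections. -/
noncomputable abbrev bn (n : ℕ) :
    (singleFunctor (Sheaf J AddCommGrpCat.{u}) 0).obj (limit (CohCx.opSequence F t)) ⟶ Kn F n :=
  (singleFunctor (Sheaf J AddCommGrpCat.{u}) 0).map (limit.π (CohCx.opSequence F t) (op n))

lemma bn_succ (n : ℕ) : bn F t (n + 1) ≫ tn F t n = bn F t n := by
  exact ((singleFunctor (Sheaf J AddCommGrpCat.{u}) 0).map_comp _ _).symm.trans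
    (congrArg (singleFunctor (Sheaf J AddCommGrpCat.{u}) 0).map (π_succ F t n))

include hB h1 h2 in
theorem isRlimVia_limit [HasProduct (Kn F)] :
    CohCx.IsRlimVia (Kn F) (tn F t)
      ((singleFunctor (Sheaf J AddCommGrpCat.{u}) 0).obj (limit (CohCx.opSequence F t))) (bn F t) := by
  let g : ∏ᶜ (Kn F) ⟶ ∏ᶜ (Kn F) :=
    Pi.lift fun n => Pi.π (Kn F) n - Pi.π (Kn F) (n + 1) ≫ tn F t n
  obtain ⟨R, a', c, hc⟩ := distinguished_cocone_triangle₁ g
  let a : ∀ n, R ⟶ Kn F n := fun n => a' ≫ Pi.π (Kn F) n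
  have ha : Pi.lift a = a' := by
    apply Pi.hom_ext
    intro n
    rw [Pi.lift_π]
  have hR : CohCx.IsRlimVia (Kn F) (tn F t) R a := ⟨c, by rw [ha]; exact hc⟩
  have hiso := fun q => isIso_αq (Kn F) (tn F t) R a hR B hB (h1' F B h1) (h2' F t B h2) q
  have hz : ∀ q : ℤ, q ≠ 0 → IsZero (CohCx.HD R q) := by
    intro q hq
    have := hiso q
    refine IsZero.of_iso ?_ (asIso (αq (Kn F) (tn F t) R a hR q))
    apply isZero_limit_of_isZero
    intro j
    obtain ⟨n⟩ := j
    exact isZero_hd_single (F n) q hq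
  have hbg : Pi.lift (bn F t) ≫ g = 0 := by
    apply Pi.hom_ext
    intro n
    rw [Category.assoc, Pi.lift_π, zero_comp, Preadditive.comp_sub, ← Category.assoc, Pi.lift_π,
      Pi.lift_π, bn_succ, sub_self]
  obtain ⟨β, hβ'⟩ : ∃ β : (singleFunctor (Sheaf J AddCommGrpCat.{u}) 0).obj
      (limit (CohCx.opSequence F t)) ⟶ R, Pi.lift (bn F t) = β ≫ a' :=
    Triangle.coyoneda_exact₂ _ hc (Pi.lift (bn F t)) hbg
  have hβa : ∀ n, β ≫ a n = bn F t n := by
    intro n
    change β ≫ a' ≫ Pi.π (Kn F) n = bn F t n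
    rw [← Category.assoc, ← hβ', Pi.lift_π]
  have hβiso : IsIso β := by
    rw [DerivedCategory.isIso_iff]
    intro q
    by_cases hq : q = 0
    · subst hq
      have := hiso 0
      have hcomp : (DerivedCategory.homologyFunctor _ 0).map β ≫
          (αq (Kn F) (tn F t) R a hR 0 ≫ limMap (towerNatTrans F t)) =
            (hdZeroIso (limit (CohCx.opSequence F t))).hom := by
        refine limit.hom_ext (fun j => ?_)
        obtain ⟨n⟩ := j
        rw [Category.assoc, Category.assoc, limMap_π, ← Category.assoc (αq _ _ _ _ _ _), αq_π]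
        change (DerivedCategory.homologyFunctor _ 0).map β ≫
          (DerivedCategory.homologyFunctor _ 0).map (a n) ≫ (hdZeroIso (F n)).hom = _
        rw [← Category.assoc, ← Functor.map_comp, hβa]
        exact hdZeroIso_naturality (limit.π (CohCx.opSequence F t) (op n))
      have h3 : IsIso (αq (Kn F) (tn F t) R a hR 0 ≫ limMap (towerNatTrans F t)) := by
        have : IsIso (limMap (towerNatTrans F t)) := inferInstance
        infer_instance
      have h4 : IsIso ((DerivedCategory.homologyFunctor _ 0).map β ≫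
          (αq (Kn F) (tn F t) R a hR 0 ≫ limMap (towerNatTrans F t))) := by
        rw [hcomp]
        infer_instance
      exact IsIso.of_isIso_comp_right _ (αq (Kn F) (tn F t) R a hR 0 ≫ limMap (towerNatTrans F t))
    · refine ⟨⟨0, ?_, ?_⟩⟩
      · exact (isZero_hd_single _ q hq).eq_of_src _ _
      · exact (hz q hq).eq_of_src _ _
  refine ⟨c ≫ (inv β)⟦(1 : ℤ)⟧', ?_⟩
  refine isomorphic_distinguished _ hc _ ?_
  refine Triangle.isoMk _ _ (@asIso _ _ _ _ β hβiso) (Iso.refl _) (Iso.refl _) ?_ ?_ ?_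
  · exact (Category.comp_id _).trans hβ'
  · exact (Category.comp_id _).trans (Category.id_comp _).symm
  · change (c ≫ (inv β)⟦(1 : ℤ)⟧') ≫ β⟦(1 : ℤ)⟧' = 𝟙 _ ≫ c
    rw [Category.assoc, ← Functor.map_comp, IsIso.inv_hom_id, CategoryTheory.Functor.map_id,
      Category.id_comp]
    exact Category.comp_id c

end Groth.Agent.H16.RlimLimVia
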