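import Groth.Agent.H16.RlimLimExt
import Groth.Agent.H16.RlimLimVia
import Groth.Agent.H16.HyperAcyclicA
import Groth.Agent.H33.BrownGA.SmallDer
import Groth.Prelude.Def_Formal2

/-!
# Milnor sequence for the cohomology of the limit of a tower of sheaves (helper16)

`F : ℕᵒᵖ ⥤ Sheaf J Ab`, `B` a class of objects covering every object such that for `V ∈ B` the transition maps are
surjective on sections over `V` and `H^i(V, F_n) = 0` for `i > 0`.  Then for every sheaf `Z`:
compatible families in `Ext^i(Z, F_n)` lift to `Ext^i(Z, lim F)` and the kernel of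
`Ext^{j+1}(Z, lim F) → ∏ Ext^{j+1}(Z, F_n)` is `lim¹ Ext^j(Z, F_n)`.
-/

set_option autoImplicit false
universe u
open CategoryTheory CategoryTheory.Limits Opposite DerivedCategory Pretriangulated

namespace Groth.Agent.H16.RlimLimFunctor

open Groth.Agent.H16.RlimSingleB Abelian

section algebra

theorem nonempty_ker_equiv_limOne {P : ℕ → Type u} [∀ n, AddCommGroup (P n)] (s : ∀ n, P (n + 1) →+ P n)
    {M : Type u} [AddCommGroup M] {Q : ℕ → Type u} [∀ n, AddCommGroup (Q n)] (q : ∀ n, M →+ Q n)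
    (Δ : (∀ n, P n) →+ M)
    (h1 : ∀ w, Δ w = 0 ↔ ∃ v : ∀ n, P n, ∀ n, v n - s n (v (n + 1)) = w n)
    (h2 : ∀ y, (∀ n, q n y = 0) ↔ ∃ w, Δ w = y) :
    Nonempty ((AddMonoidHom.pi q).ker ≃+ Formal2.limOne P s) := by
  have hk : Δ.ker = (Formal2.towerDiff P s).range := by
    ext w
    rw [AddMonoidHom.mem_ker, h1, AddMonoidHom.mem_range]
    constructor
    · rintro ⟨v, hv⟩
      exact ⟨v, funext hv⟩
    · rintro ⟨v, hv⟩
      exact ⟨v, fun n => congrFun hv n⟩
  have hr : (AddMonoidHom.pi q).ker = Δ.range := by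
    ext y
    rw [AddMonoidHom.mem_ker, AddMonoidHom.mem_range, ← h2]
    constructor
    · intro h n
      exact congrFun h n
    · intro h
      funext n
      exact h n
  exact ⟨(AddEquiv.addSubgroupCongr hr).trans
    ((QuotientAddGroup.quotientKerEquivRange Δ).symm.trans (QuotientAddGroup.quotientAddEquivOfEq hk))⟩

end algebra

section tri

variable {T : Type*} [Category T] [Preadditive T] [HasZeroObject T] [HasShift T ℤ]
  [∀ n : ℤ, (shiftFunctor T n).Additive] [Pretriangulated T]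

lemma isRlimVia_of_iso {K : ℕ → T} {t : ∀ n, K (n + 1) ⟶ K n} [HasProduct K] {L L' : T}
    {a : ∀ n, L ⟶ K n} (hL : CohCx.IsRlimVia K t L a) (e : L' ≅ L) :
    CohCx.IsRlimVia K t L' (fun n => e.hom ≫ a n) := by
  obtain ⟨c, hc⟩ := hL
  refine ⟨c ≫ e.inv⟦(1 : ℤ)⟧', ?_⟩
  refine isomorphic_distinguished _ hc _ ?_
  refine Triangle.isoMk _ _ e (Iso.refl _) (Iso.refl _) ?_ ?_ ?_
  · refine (Category.comp_id _).trans ?_
    change Pi.lift (fun n => e.hom ≫ a n) = e.hom ≫ Pi.lift a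
    apply Pi.hom_ext
    intro n
    rw [Pi.lift_π, Category.assoc, Pi.lift_π]
  · exact (Category.comp_id _).trans (Category.id_comp _).symm
  · change (c ≫ e.inv⟦(1 : ℤ)⟧') ≫ e.hom⟦(1 : ℤ)⟧' = 𝟙 _ ≫ c
    rw [Category.assoc, ← Functor.map_comp, Iso.inv_hom_id, CategoryTheory.Functor.map_id,
      Category.id_comp]
    exact Category.comp_id c

end tri

variable {C : Type u} [SmallCategory C] {J : GrothendieckTopology C}
  (F : ℕᵒᵖ ⥤ Sheaf J AddCommGrpCat.{u})

/-- the objects of the tower. -/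
abbrev Fo (n : ℕ) : Sheaf J AddCommGrpCat.{u} := F.obj (op n)

/-- the transition maps of the tower. -/
abbrev Ft (n : ℕ) : Fo F (n + 1) ⟶ Fo F n := F.map (homOfLE (Nat.le_succ n)).op

/-- `F` is the functor attached to its tower. -/
noncomputable def towerIso : F ≅ CohCx.opSequence (Fo F) (Ft F) :=
  haveI : IsIso (NatTrans.ofOpSequence (F := F) (G := CohCx.opSequence (Fo F) (Ft F))
      (fun n => 𝟙 (F.obj (op n))) (fun n => by
        rw [Functor.ofOpSequence_map_homOfLE_succ]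
        exact (Category.comp_id _).trans (Category.id_comp _).symm)) := by
    have : ∀ j, IsIso ((NatTrans.ofOpSequence (F := F) (G := CohCx.opSequence (Fo F) (Ft F))
      (fun n => 𝟙 (F.obj (op n))) (fun n => by
        rw [Functor.ofOpSequence_map_homOfLE_succ]
        exact (Category.comp_id _).trans (Category.id_comp _).symm)).app j) := by
      intro j
      obtain ⟨n⟩ := j
      exact inferInstanceAs (IsIso (𝟙 (F.obj (op n))))
    exact NatIso.isIso_of_isIso_app _
  asIso (NatTrans.ofOpSequence (F := F) (G := CohCx.opSequence (Fo F) (Ft F))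
      (fun n => 𝟙 (F.obj (op n))) (fun n => by
        rw [Functor.ofOpSequence_map_homOfLE_succ]
        exact (Category.comp_id _).trans (Category.id_comp _).symm))

lemma towerIso_hom_app (n : ℕ) : (towerIso F).hom.app (op n) = 𝟙 (F.obj (op n)) := rfl

/-- the limits agree. -/
noncomputable def limIso : limit F ≅ limit (CohCx.opSequence (Fo F) (Ft F)) :=
  HasLimit.isoOfNatIso (towerIso F)

lemma limIso_hom_π (n : ℕ) :
    (limIso F).hom ≫ limit.π (CohCx.opSequence (Fo F) (Ft F)) (op n) = limit.π F (op n) := by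
  refine (HasLimit.isoOfNatIso_hom_π (towerIso F) (op n)).trans ?_
  rw [towerIso_hom_app]
  exact Category.comp_id _

variable (B : Set C)
  (hB : ∀ U : C, ∃ (ι : Type u) (Y : ι → C) (f : ∀ i, Y i ⟶ U), Sieve.ofArrows Y f ∈ J U ∧ ∀ i, Y i ∈ B)
  (hsurj : ∀ V ∈ B, ∀ n : ℕ,
    Function.Surjective ((F.map (homOfLE (Nat.le_succ n)).op).hom.app (op V)).hom)
  (hvan : ∀ V ∈ B, ∀ (n i : ℕ), 0 < i → Subsingleton (CohSite.HU (F.obj (op n)) i V))

include hB hsurj hvan in
theorem isRlimVia_functor [HasDerivedCategory.{u} (Sheaf J AddCommGrpCat.{u})]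
    [HasProduct (Kn (Fo F))] :
    CohCx.IsRlimVia (Kn (Fo F)) (tn (Fo F) (Ft F))
      ((singleFunctor (Sheaf J AddCommGrpCat.{u}) 0).obj (limit F))
      (fun n => (singleFunctor (Sheaf J AddCommGrpCat.{u}) 0).map (limit.π F (op n))) := by
  have h := RlimLimVia.isRlimVia_limit (Fo F) (Ft F) B hB
    (fun U hU p n => hvan U hU n (p + 1) (Nat.succ_pos p))
    (fun U hU => RlimTruncB.limOne_of_surj _ _ (fun n => hsurj U hU n))
  have h' := isRlimVia_of_iso h ((singleFunctor (Sheaf J AddCommGrpCat.{u}) 0).mapIso (limIso F))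
  have heq : (fun n => ((singleFunctor (Sheaf J AddCommGrpCat.{u}) 0).mapIso (limIso F)).hom ≫
      RlimLimVia.bn (Fo F) (Ft F) n) =
      (fun n => (singleFunctor (Sheaf J AddCommGrpCat.{u}) 0).map (limit.π F (op n))) := by
    funext n
    exact ((singleFunctor (Sheaf J AddCommGrpCat.{u}) 0).map_comp _ _).symm.trans
      (congrArg (singleFunctor (Sheaf J AddCommGrpCat.{u}) 0).map (limIso_hom_π F n))
  rw [heq] at h'
  exact h'

include hB hsurj hvan in
theorem exists_lift (Z : Sheaf J AddCommGrpCat.{u}) (i : ℕ) (ξ : ∀ n, Ext Z (F.obj (op n)) i)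
    (hξ : ∀ n, (ξ (n + 1)).comp (Ext.mk₀ (F.map (homOfLE (Nat.le_succ n)).op)) (add_zero i) = ξ n) :
    ∃ η : Ext Z (limit F) i, ∀ n, η.comp (Ext.mk₀ (limit.π F (op n))) (add_zero i) = ξ n := by
  letI : HasDerivedCategory.{u} (Sheaf J AddCommGrpCat.{u}) :=
    Groth.Agent.H33.BrownGA.hasDerivedCategorySmall _
  haveI : HasProduct (Kn (Fo F)) := HyperAcyclicA.hasProduct_nat _
  exact RlimLimExt.exists_lift_ext (Fo F) (Ft F) (limit F) (fun n => limit.π F (op n))
    (isRlimVia_functor F B hB hsurj hvan) Z i ξ hξ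

include hB hsurj hvan in
theorem exists_delta (Z : Sheaf J AddCommGrpCat.{u}) (j i : ℕ) (hij : j + 1 = i) :
    ∃ Δ : (∀ n, Ext Z (F.obj (op n)) j) →+ Ext Z (limit F) i,
      (∀ w, Δ w = 0 ↔ ∃ v : ∀ n, Ext Z (F.obj (op n)) j,
        ∀ n, v n - (v (n + 1)).comp (Ext.mk₀ (F.map (homOfLE (Nat.le_succ n)).op)) (add_zero j) = w n) ∧
      (∀ y : Ext Z (limit F) i,
        (∀ n, y.comp (Ext.mk₀ (limit.π F (op n))) (add_zero i) = 0) ↔ ∃ w, Δ w = y) := by
  letI : HasDerivedCategory.{u} (Sheaf J AddCommGrpCat.{u}) :=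
    Groth.Agent.H33.BrownGA.hasDerivedCategorySmall _
  haveI : HasProduct (Kn (Fo F)) := HyperAcyclicA.hasProduct_nat _
  exact RlimLimExt.exists_delta_ext (Fo F) (Ft F) (limit F) (fun n => limit.π F (op n))
    (isRlimVia_functor F B hB hsurj hvan) Z j i hij

include hB hsurj hvan in
theorem eq_of_limOne (Z : Sheaf J AddCommGrpCat.{u}) (j i : ℕ) (hij : j + 1 = i)
    (hs : Function.Surjective (fun (w : ∀ n, Ext Z (F.obj (op n)) j) (n : ℕ) =>
      w n - (w (n + 1)).comp (Ext.mk₀ (F.map (homOfLE (Nat.le_succ n)).op)) (add_zero j)))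
    (η η' : Ext Z (limit F) i)
    (h : ∀ n, η.comp (Ext.mk₀ (limit.π F (op n))) (add_zero i) =
      η'.comp (Ext.mk₀ (limit.π F (op n))) (add_zero i)) : η = η' := by
  letI : HasDerivedCategory.{u} (Sheaf J AddCommGrpCat.{u}) :=
    Groth.Agent.H33.BrownGA.hasDerivedCategorySmall _
  haveI : HasProduct (Kn (Fo F)) := HyperAcyclicA.hasProduct_nat _
  exact RlimLimExt.eq_of_limOne_ext (Fo F) (Ft F) (limit F) (fun n => limit.π F (op n))
    (isRlimVia_functor F B hB hsurj hvan) Z j i hij hs η η' h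

include hB hsurj hvan in
theorem nonempty_ker_equiv (Z : Sheaf J AddCommGrpCat.{u}) (j i : ℕ) (hij : j + 1 = i) :
    Nonempty ((AddMonoidHom.pi fun n : ℕ =>
        (Ext.mk₀ (limit.π F (op n))).postcomp Z (add_zero i)).ker ≃+
      Formal2.limOne (fun n : ℕ => Ext Z (F.obj (op n)) j)
        (fun n : ℕ => (Ext.mk₀ (F.map (homOfLE (Nat.le_succ n)).op)).postcomp Z (add_zero j))) := by
  obtain ⟨Δ, h1, h2⟩ := exists_delta F B hB hsurj hvan Z j i hij
  exact nonempty_ker_equiv_limOne _ _ Δ h1 h2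

end Groth.Agent.H16.RlimLimFunctor
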