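import Groth.Agent.H16.RlimLimFunctor

/-!
# Milnor short exact sequence for the cohomology of a limit of a tower of sheaves, packaged (helper16)

Same setting as `RlimLimFunctor`, but for any sheaf `L` isomorphic to `lim F` (with maps `b n : L ⟶ F n`
corresponding to the projections), and with the sequence packaged as maps `α`, `β`.
-/

set_option autoImplicit false
universe u
open CategoryTheory CategoryTheory.Limits Opposite DerivedCategory Pretriangulated

namespace Groth.Agent.H16.RlimLimFunctor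

open Groth.Agent.H16.RlimSingleB Abelian

section algebra

theorem exists_ses_of_delta {P : ℕ → Type u} [∀ n, AddCommGroup (P n)] (s : ∀ n, P (n + 1) →+ P n)
    {M : Type u} [AddCommGroup M] {Q : ℕ → Type u} [∀ n, AddCommGroup (Q n)]
    (s' : ∀ n, Q (n + 1) →+ Q n) (q : ∀ n, M →+ Q n)
    (hq : ∀ n y, s' n (q (n + 1) y) = q n y)
    (Δ : (∀ n, P n) →+ M)
    (h1 : ∀ w, Δ w = 0 ↔ ∃ v : ∀ n, P n, ∀ n, v n - s n (v (n + 1)) = w n)
    (h2 : ∀ y, (∀ n, q n y = 0) ↔ ∃ w, Δ w = y)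
    (hlift : ∀ ξ : ∀ n, Q n, (∀ n, s' n (ξ (n + 1)) = ξ n) → ∃ η, ∀ n, q n η = ξ n) :
    ∃ (α : Formal2.limOne P s →+ M) (β : M →+ Formal2.limZero Q s'),
      Function.Injective α ∧ Function.Surjective β ∧ α.range = β.ker ∧
      ∀ (x : M) (n : ℕ), (β x : ∀ n, Q n) n = q n x := by
  have hle : (Formal2.towerDiff P s).range ≤ Δ.ker := by
    rintro w ⟨v, rfl⟩
    exact (h1 _).2 ⟨v, fun n => rfl⟩
  let α : Formal2.limOne P s →+ M := QuotientAddGroup.lift _ Δ hle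
  have hα : ∀ w, α (QuotientAddGroup.mk w) = Δ w := fun w => rfl
  let β : M →+ Formal2.limZero Q s' :=
    AddMonoidHom.codRestrict (AddMonoidHom.pi q) (Formal2.limZero Q s') (fun y => by
      change Formal2.towerDiff Q s' _ = 0
      funext n
      change q n y - s' n (q (n + 1) y) = 0
      rw [hq, sub_self])
  have hβ : ∀ (x : M) (n : ℕ), (β x : ∀ n, Q n) n = q n x := fun x n => rfl
  refine ⟨α, β, ?_, ?_, ?_, hβ⟩
  · rw [injective_iff_map_eq_zero]
    intro x hx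
    obtain ⟨w, rfl⟩ := QuotientAddGroup.mk_surjective x
    rw [hα, h1] at hx
    obtain ⟨v, hv⟩ := hx
    rw [QuotientAddGroup.eq_zero_iff]
    exact ⟨v, funext hv⟩
  · intro ξ
    have hξ : ∀ n, s' n ((ξ : ∀ n, Q n) (n + 1)) = (ξ : ∀ n, Q n) n := by
      intro n
      have h3 : Formal2.towerDiff Q s' (ξ : ∀ n, Q n) = 0 := ξ.2
      have h4 := congrFun h3 n
      change (ξ : ∀ n, Q n) n - s' n ((ξ : ∀ n, Q n) (n + 1)) = 0 at h4
      exact (sub_eq_zero.1 h4).symm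
    obtain ⟨η, hη⟩ := hlift (ξ : ∀ n, Q n) hξ
    refine ⟨η, ?_⟩
    apply Subtype.ext
    funext n
    exact (hβ η n).trans (hη n)
  · ext x
    rw [AddMonoidHom.mem_range, AddMonoidHom.mem_ker]
    constructor
    · rintro ⟨y, rfl⟩
      obtain ⟨w, rfl⟩ := QuotientAddGroup.mk_surjective y
      rw [hα]
      apply Subtype.ext
      funext n
      rw [hβ]
      exact (h2 (Δ w)).2 ⟨w, rfl⟩ n
    · intro hx
      have h3 : ∀ n, q n x = 0 := by
        intro n
        rw [← hβ, hx]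
        rfl
      obtain ⟨w, hw⟩ := (h2 x).1 h3
      exact ⟨QuotientAddGroup.mk w, (hα w).trans hw⟩

end algebra

variable {C : Type u} [SmallCategory C] {J : GrothendieckTopology C}
  (F : ℕᵒᵖ ⥤ Sheaf J AddCommGrpCat.{u}) (B : Set C)
  (hB : ∀ U : C, ∃ (ι : Type u) (Y : ι → C) (f : ∀ i, Y i ⟶ U), Sieve.ofArrows Y f ∈ J U ∧ ∀ i, Y i ∈ B)
  (hsurj : ∀ V ∈ B, ∀ n : ℕ,
    Function.Surjective ((F.map (homOfLE (Nat.le_succ n)).op).hom.app (op V)).hom)
  (hvan : ∀ V ∈ B, ∀ (n i : ℕ), 0 < i → Subsingleton (CohSite.HU (F.obj (op n)) i V))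
  (L : Sheaf J AddCommGrpCat.{u}) (e : L ≅ limit F) (b : ∀ n, L ⟶ F.obj (op n))
  (hb : ∀ n, b n = e.hom ≫ limit.π F (op n))

include hB hsurj hvan hb in
theorem isRlimVia_of_iso_limit [HasDerivedCategory.{u} (Sheaf J AddCommGrpCat.{u})]
    [HasProduct (Kn (Fo F))] :
    CohCx.IsRlimVia (Kn (Fo F)) (tn (Fo F) (Ft F))
      ((singleFunctor (Sheaf J AddCommGrpCat.{u}) 0).obj L)
      (fun n => (singleFunctor (Sheaf J AddCommGrpCat.{u}) 0).map (b n)) := by
  have h := isRlimVia_of_iso (isRlimVia_functor F B hB hsurj hvan)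
    ((singleFunctor (Sheaf J AddCommGrpCat.{u}) 0).mapIso e)
  have heq : (fun n => ((singleFunctor (Sheaf J AddCommGrpCat.{u}) 0).mapIso e).hom ≫
      (singleFunctor (Sheaf J AddCommGrpCat.{u}) 0).map (limit.π F (op n))) =
      (fun n => (singleFunctor (Sheaf J AddCommGrpCat.{u}) 0).map (b n)) := by
    funext n
    rw [hb n]
    exact ((singleFunctor (Sheaf J AddCommGrpCat.{u}) 0).map_comp _ _).symm
  rw [heq] at h
  exact h

include hb in
lemma b_succ (n : ℕ) : b (n + 1) ≫ F.map (homOfLE (Nat.le_succ n)).op = b n := by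
  rw [hb, hb, Category.assoc, limit.w]

include hB hsurj hvan hb in
theorem exists_lift' (Z : Sheaf J AddCommGrpCat.{u}) (i : ℕ) (ξ : ∀ n, Ext Z (F.obj (op n)) i)
    (hξ : ∀ n, (ξ (n + 1)).comp (Ext.mk₀ (F.map (homOfLE (Nat.le_succ n)).op)) (add_zero i) = ξ n) :
    ∃ η : Ext Z L i, ∀ n, η.comp (Ext.mk₀ (b n)) (add_zero i) = ξ n := by
  letI : HasDerivedCategory.{u} (Sheaf J AddCommGrpCat.{u}) :=
    Groth.Agent.H33.BrownGA.hasDerivedCategorySmall _
  haveI : HasProduct (Kn (Fo F)) := HyperAcyclicA.hasProduct_nat _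
  exact RlimLimExt.exists_lift_ext (Fo F) (Ft F) L b
    (isRlimVia_of_iso_limit F B hB hsurj hvan L e b hb) Z i ξ hξ

include hB hsurj hvan hb in
theorem exists_delta' (Z : Sheaf J AddCommGrpCat.{u}) (j i : ℕ) (hij : j + 1 = i) :
    ∃ Δ : (∀ n, Ext Z (F.obj (op n)) j) →+ Ext Z L i,
      (∀ w, Δ w = 0 ↔ ∃ v : ∀ n, Ext Z (F.obj (op n)) j,
        ∀ n, v n - (v (n + 1)).comp (Ext.mk₀ (F.map (homOfLE (Nat.le_succ n)).op)) (add_zero j) = w n) ∧
      (∀ y : Ext Z L i,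
        (∀ n, y.comp (Ext.mk₀ (b n)) (add_zero i) = 0) ↔ ∃ w, Δ w = y) := by
  letI : HasDerivedCategory.{u} (Sheaf J AddCommGrpCat.{u}) :=
    Groth.Agent.H33.BrownGA.hasDerivedCategorySmall _
  haveI : HasProduct (Kn (Fo F)) := HyperAcyclicA.hasProduct_nat _
  exact RlimLimExt.exists_delta_ext (Fo F) (Ft F) L b
    (isRlimVia_of_iso_limit F B hB hsurj hvan L e b hb) Z j i hij

include hB hsurj hvan hb in
/-- The Milnor short exact sequence `0 → lim¹ Ext^p(Z, F_n) → Ext^{p+1}(Z, L) → lim Ext^{p+1}(Z, F_n) → 0`. -/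
theorem exists_ses (Z : Sheaf J AddCommGrpCat.{u}) (p : ℕ) :
    ∃ (α : Formal2.limOne (fun n : ℕ => Ext Z (F.obj (op n)) p)
          (fun n : ℕ => (Ext.mk₀ (F.map (homOfLE (Nat.le_succ n)).op)).postcomp Z (add_zero p)) →+
        Ext Z L (p + 1))
      (β : Ext Z L (p + 1) →+
        Formal2.limZero (fun n : ℕ => Ext Z (F.obj (op n)) (p + 1))
          (fun n : ℕ => (Ext.mk₀ (F.map (homOfLE (Nat.le_succ n)).op)).postcomp Z (add_zero (p + 1)))),
      Function.Injective α ∧ Function.Surjective β ∧ α.range = β.ker ∧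
      ∀ (x : Ext Z L (p + 1)) (n : ℕ),
        (β x : ∀ n, Ext Z (F.obj (op n)) (p + 1)) n = x.comp (Ext.mk₀ (b n)) (add_zero (p + 1)) := by
  obtain ⟨Δ, h1, h2⟩ := exists_delta' F B hB hsurj hvan L e b hb Z p (p + 1) rfl
  refine exists_ses_of_delta _ _ (fun n => (Ext.mk₀ (b n)).postcomp Z (add_zero (p + 1))) ?_ Δ h1 h2 ?_
  · intro n y
    change (y.comp (Ext.mk₀ (b (n + 1))) (add_zero (p + 1))).comp
      (Ext.mk₀ (F.map (homOfLE (Nat.le_succ n)).op)) (add_zero (p + 1)) = y.comp (Ext.mk₀ (b n)) (add_zero (p + 1))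
    rw [Ext.comp_assoc_of_third_deg_zero, Ext.mk₀_comp_mk₀, b_succ F L e b hb]
  · intro ξ hξ
    exact exists_lift' F B hB hsurj hvan L e b hb Z (p + 1) ξ hξ

end Groth.Agent.H16.RlimLimFunctor
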