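import Groth.Agent.H16.RlimLimFunctorC

/-!
# Acyclicity of the limit of an acyclic tower of sheaves with eventually surjective transition maps (helper16)
-/

set_option autoImplicit false
universe u
open CategoryTheory CategoryTheory.Limits Opposite DerivedCategory Pretriangulated

namespace Groth.Agent.H16.RlimLimFunctor

open Groth.Agent.H16.RlimSingleB Abelian

variable {C : Type u} [SmallCategory C] {J : GrothendieckTopology C}
  (F : ℕᵒᵖ ⥤ Sheaf J AddCommGrpCat.{u}) (B : Set C)
  (hB : ∀ U : C, ∃ (ι : Type u) (Y : ι → C) (f : ∀ i, Y i ⟶ U), Sieve.ofArrows Y f ∈ J U ∧ ∀ i, Y i ∈ B)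
  (N : ℕ) (hsurj : ∀ V ∈ B, ∀ n : ℕ, N ≤ n →
    Function.Surjective ((F.map (homOfLE (Nat.le_succ n)).op).hom.app (op V)).hom)
  (hvan : ∀ V ∈ B, ∀ (n i : ℕ), 0 < i → Subsingleton (CohSite.HU (F.obj (op n)) i V))

include hB hsurj hvan in
/-- `H^p(U, L) = 0` for `p > 0`, `U ∈ B` and `L ≅ lim F`, transition maps surjective on `B` from `N` on. -/
theorem subsingleton_HU_of_iso_limit_of_eventually_surj (L : Sheaf J AddCommGrpCat.{u})
    (e : L ≅ limit F) (U : C) (hU : U ∈ B) (p : ℕ) : Subsingleton (CohSite.HU L (p + 1) U) := by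
  letI : HasDerivedCategory.{u} (Sheaf J AddCommGrpCat.{u}) :=
    Groth.Agent.H33.BrownGA.hasDerivedCategorySmall _
  haveI : HasProduct (Kn (Fo F)) := HyperAcyclicA.hasProduct_nat _
  have h := (RlimSingleB.main (Fo F) (Ft F) B hB
    (fun U hU p n => hvan U hU n (p + 1) (Nat.succ_pos p))
    (fun U hU => RlimTruncB.limOne_of_eventually_surj N _ _ (fun n hn => hsurj U hU n hn))).2 U hU p
  exact RlimSingleA.subsingleton_HU_of_iso ((limIso F).symm ≪≫ e.symm) (p + 1) U h

end Groth.Agent.H16.RlimLimFunctor
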