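import Groth.Prelude.Def_CohCx
import Mathlib.CategoryTheory.Triangulated.Yoneda
import Mathlib.CategoryTheory.Triangulated.HomologicalFunctor
import Mathlib.CategoryTheory.Limits.Preserves.Shapes.Products
import Mathlib.Algebra.Homology.ShortComplex.Ab

/-!
# The Milnor sequence for a derived limit in a pretriangulated category

For `L` a derived limit of `(K n, t n)` through `a n : L ⟶ K n` (`CohCx.IsRlimVia`), an object `A` and `m : ℤ`: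
* every compatible family `x n : A ⟶ (K n)⟦m⟧` lifts to `A ⟶ L⟦m⟧`;
* if `(w n) ↦ (w n - w (n+1) ≫ (t n)⟦m-1⟧')` is surjective on `∏ (A ⟶ (K n)⟦m-1⟧)`, then a map `y : A ⟶ L⟦m⟧` all of whose
  components `y ≫ (a n)⟦m⟧'` vanish is zero.
-/

set_option autoImplicit false
set_option linter.unusedSectionVars false
universe v' u'
open CategoryTheory CategoryTheory.Limits Opposite Pretriangulated

namespace Groth.Agent.H16.RlimMilnor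

variable {T : Type u'} [Category.{v'} T] [Preadditive T] [HasZeroObject T] [HasShift T ℤ]
  [∀ n : ℤ, (shiftFunctor T n).Additive] [Pretriangulated T]
  (K : ℕ → T) (t : ∀ n, K (n + 1) ⟶ K n) [HasProduct K]

/-- The shift of the product is a product of the shifts. -/
noncomputable def hP (m : ℤ) :
    IsLimit (Fan.mk ((∏ᶜ K)⟦m⟧) (fun n => (Pi.π K n)⟦m⟧') : Fan fun n => (K n)⟦m⟧) :=
  isLimitFanMkObjOfIsLimit (shiftFunctor T m) K (Pi.π K) (productIsProduct K)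

/-- The map "identity minus shift" on the product. -/
noncomputable abbrev g : ∏ᶜ K ⟶ ∏ᶜ K := Pi.lift fun n => Pi.π K n - Pi.π K (n + 1) ≫ t n

lemma g_shift_π (m : ℤ) (n : ℕ) :
    (g K t)⟦m⟧' ≫ (Pi.π K n)⟦m⟧' = (Pi.π K n)⟦m⟧' - (Pi.π K (n + 1))⟦m⟧' ≫ (t n)⟦m⟧' := by
  rw [← Functor.map_comp, Pi.lift_π, Functor.map_sub, Functor.map_comp]

variable {K t} {L : T} {a : ∀ n, L ⟶ K n}

/-- Existence of lifts of compatible families. -/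
theorem exists_lift (hL : CohCx.IsRlimVia K t L a) (A : T) (m : ℤ) (x : ∀ n, A ⟶ (K n)⟦m⟧)
    (hx : ∀ n, x (n + 1) ≫ (t n)⟦m⟧' = x n) :
    ∃ y : A ⟶ L⟦m⟧, ∀ n, y ≫ (a n)⟦m⟧' = x n := by
  obtain ⟨c, hc⟩ := hL
  let X : A ⟶ (∏ᶜ K)⟦m⟧ := Fan.IsLimit.lift (hP K m) x
  have hXπ : ∀ n, X ≫ (Pi.π K n)⟦m⟧' = x n := fun n => Fan.IsLimit.fac (hP K m) x n
  have hX : X ≫ (g K t)⟦m⟧' = 0 := by
    refine Fan.IsLimit.hom_ext (hP K m) _ _ fun n => ?_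
    change (X ≫ (g K t)⟦m⟧') ≫ (Pi.π K n)⟦m⟧' = 0 ≫ (Pi.π K n)⟦m⟧'
    rw [Category.assoc, g_shift_π, Preadditive.comp_sub, hXπ, ← Category.assoc, hXπ, hx, sub_self,
      zero_comp]
  have hex := (preadditiveCoyoneda.obj (op A)).homologySequence_exact₂ _ hc m
  rw [ShortComplex.ab_exact_iff] at hex
  obtain ⟨y, hy⟩ := hex X hX
  have hy' : (y : A ⟶ L⟦m⟧) ≫ (Pi.lift a)⟦m⟧' = X := hy
  refine ⟨y, fun n => ?_⟩
  calc (y : A ⟶ L⟦m⟧) ≫ (a n)⟦m⟧' = (y : A ⟶ L⟦m⟧) ≫ (Pi.lift a ≫ Pi.π K n)⟦m⟧' := by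
        rw [Pi.lift_π]
    _ = ((y : A ⟶ L⟦m⟧) ≫ (Pi.lift a)⟦m⟧') ≫ (Pi.π K n)⟦m⟧' := by
        rw [Functor.map_comp, Category.assoc]
    _ = x n := by rw [hy', hXπ]

/-- Uniqueness of lifts when `R¹lim` of the groups one degree down vanishes. -/
theorem eq_zero_of_limOne (hL : CohCx.IsRlimVia K t L a) (A : T) (m : ℤ)
    (hsurj : Function.Surjective
      (fun (w : ∀ n, A ⟶ (K n)⟦m - 1⟧) (n : ℕ) => w n - w (n + 1) ≫ (t n)⟦m - 1⟧'))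
    (y : A ⟶ L⟦m⟧) (hy : ∀ n, y ≫ (a n)⟦m⟧' = 0) : y = 0 := by
  obtain ⟨c, hc⟩ := hL
  have hy0 : y ≫ (Pi.lift a)⟦m⟧' = 0 := by
    refine Fan.IsLimit.hom_ext (hP K m) _ _ fun n => ?_
    change (y ≫ (Pi.lift a)⟦m⟧') ≫ (Pi.π K n)⟦m⟧' = 0 ≫ (Pi.π K n)⟦m⟧'
    rw [Category.assoc, ← Functor.map_comp, Pi.lift_π, hy, zero_comp]
  have hex := (preadditiveCoyoneda.obj (op A)).homologySequence_exact₁ _ hc (m - 1) m (by omega)
  rw [ShortComplex.ab_exact_iff] at hex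
  obtain ⟨z, hz⟩ := hex y hy0
  obtain ⟨w, hw⟩ := hsurj (fun n => (z : A ⟶ (∏ᶜ K)⟦m - 1⟧) ≫ (Pi.π K n)⟦m - 1⟧')
  let W : A ⟶ (∏ᶜ K)⟦m - 1⟧ := Fan.IsLimit.lift (hP K (m - 1)) w
  have hWπ : ∀ n, W ≫ (Pi.π K n)⟦m - 1⟧' = w n := fun n => Fan.IsLimit.fac (hP K (m - 1)) w n
  have hWz : W ≫ (g K t)⟦m - 1⟧' = (z : A ⟶ (∏ᶜ K)⟦m - 1⟧) := by
    refine Fan.IsLimit.hom_ext (hP K (m - 1)) _ _ fun n => ?_
    change (W ≫ (g K t)⟦m - 1⟧') ≫ (Pi.π K n)⟦m - 1⟧' = (z : A ⟶ (∏ᶜ K)⟦m - 1⟧) ≫ (Pi.π K n)⟦m - 1⟧'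
    rw [Category.assoc, g_shift_π, Preadditive.comp_sub, hWπ, ← Category.assoc, hWπ]
    exact congrFun hw n
  have hδ := (preadditiveCoyoneda.obj (op A)).comp_homologySequenceδ _ hc (m - 1) m (by omega)
  have hδ' := congrArg (fun φ => φ W) hδ
  rw [← hz]
  have : (z : A ⟶ (∏ᶜ K)⟦m - 1⟧) = ((preadditiveCoyoneda.obj (op A)).shift (m - 1)).map (g K t) W :=
    hWz.symm
  rw [this]
  exact hδ'

end Groth.Agent.H16.RlimMilnor
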