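import Groth.Agent.H16.RlimMilnor

/-!
# The Milnor sequence for a derived limit, part B: the connecting map (helper16)

For `L` a derived limit of `(K n, t n)` through `a n`, an object `A` and `m' + 1 = m`, there is an additive map
`Δ : ∏ (A ⟶ (K n)⟦m'⟧) → (A ⟶ L⟦m⟧)` whose kernel is the image of "identity minus shift" and whose image is the
set of `y` all of whose components `y ≫ (a n)⟦m⟧'` vanish.
-/

set_option autoImplicit false
set_option linter.unusedSectionVars false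
universe v' u'
open CategoryTheory CategoryTheory.Limits Opposite Pretriangulated

namespace Groth.Agent.H16.RlimMilnor

variable {T : Type u'} [Category.{v'} T] [Preadditive T] [HasZeroObject T] [HasShift T ℤ]
  [∀ n : ℤ, (shiftFunctor T n).Additive] [Pretriangulated T]
  {K : ℕ → T} {t : ∀ n, K (n + 1) ⟶ K n} [HasProduct K] {L : T} {a : ∀ n, L ⟶ K n}

/-- the lift of a family to the shifted product, as an additive map. -/
noncomputable def liftHom (K : ℕ → T) [HasProduct K] (A : T) (m : ℤ) :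
    (∀ n, A ⟶ (K n)⟦m⟧) →+ (A ⟶ (∏ᶜ K)⟦m⟧) where
  toFun w := Fan.IsLimit.lift (hP K m) w
  map_zero' := by
    refine Fan.IsLimit.hom_ext (hP K m) _ _ fun n => ?_
    refine (Fan.IsLimit.fac (hP K m) _ n).trans ?_
    exact (zero_comp (f := (Pi.π K n)⟦m⟧')).symm
  map_add' w w' := by
    refine Fan.IsLimit.hom_ext (hP K m) _ _ fun n => ?_
    refine (Fan.IsLimit.fac (hP K m) _ n).trans ?_
    refine Eq.trans ?_ (Preadditive.add_comp _ _ _ _ _ _).symm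
    exact congrArg₂ (· + ·) (Fan.IsLimit.fac (hP K m) w n).symm (Fan.IsLimit.fac (hP K m) w' n).symm

lemma liftHom_π (A : T) (m : ℤ) (w : ∀ n, A ⟶ (K n)⟦m⟧) (n : ℕ) :
    liftHom K A m w ≫ (Pi.π K n)⟦m⟧' = w n :=
  Fan.IsLimit.fac (hP K m) w n

lemma liftHom_eq (A : T) (m : ℤ) (z : A ⟶ (∏ᶜ K)⟦m⟧) :
    liftHom K A m (fun n => z ≫ (Pi.π K n)⟦m⟧') = z := by
  refine Fan.IsLimit.hom_ext (hP K m) _ _ fun n => ?_
  exact liftHom_π A m _ n

theorem exists_delta (hL : CohCx.IsRlimVia K t L a) (A : T) (m' m : ℤ) (h : m' + 1 = m) :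
    ∃ Δ : (∀ n, A ⟶ (K n)⟦m'⟧) →+ (A ⟶ L⟦m⟧),
      (∀ w, Δ w = 0 ↔ ∃ v : ∀ n, A ⟶ (K n)⟦m'⟧, ∀ n, v n - v (n + 1) ≫ (t n)⟦m'⟧' = w n) ∧
      (∀ y : A ⟶ L⟦m⟧, (∀ n, y ≫ (a n)⟦m⟧' = 0) ↔ ∃ w, Δ w = y) := by
  obtain ⟨c, hc⟩ := hL
  let Fc := preadditiveCoyoneda.obj (op A)
  let Tr := Pretriangulated.Triangle.mk (Pi.lift a) (g K t) c
  let δ : (A ⟶ (∏ᶜ K)⟦m'⟧) →+ (A ⟶ L⟦m⟧) := (Fc.homologySequenceδ Tr m' m h).hom
  have hδ1 : ∀ z : A ⟶ (∏ᶜ K)⟦m'⟧, δ (z ≫ (g K t)⟦m'⟧') = 0 := by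
    intro z
    have hh := Fc.comp_homologySequenceδ _ hc m' m h
    exact congrArg (fun φ => φ.hom z) hh
  have hδ2 : ∀ z : A ⟶ (∏ᶜ K)⟦m'⟧, δ z ≫ (Pi.lift a)⟦m⟧' = 0 := by
    intro z
    have hh := Fc.homologySequenceδ_comp _ hc m' m h
    exact congrArg (fun φ => φ.hom z) hh
  have hex3 : ∀ z : A ⟶ (∏ᶜ K)⟦m'⟧, δ z = 0 → ∃ z' : A ⟶ (∏ᶜ K)⟦m'⟧, z' ≫ (g K t)⟦m'⟧' = z := by
    intro z hz
    have hex := Fc.homologySequence_exact₃ _ hc m' m h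
    rw [ShortComplex.ab_exact_iff] at hex
    obtain ⟨z', hz'⟩ := hex z hz
    exact ⟨z', hz'⟩
  have hex1 : ∀ y : A ⟶ L⟦m⟧, y ≫ (Pi.lift a)⟦m⟧' = 0 → ∃ z : A ⟶ (∏ᶜ K)⟦m'⟧, δ z = y := by
    intro y hy
    have hex := Fc.homologySequence_exact₁ _ hc m' m h
    rw [ShortComplex.ab_exact_iff] at hex
    obtain ⟨z, hz⟩ := hex y hy
    exact ⟨z, hz⟩
  refine ⟨δ.comp (liftHom K A m'), ?_, ?_⟩
  · intro w
    constructor
    · intro hw
      obtain ⟨z', hz'⟩ := hex3 _ hw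
      refine ⟨fun n => z' ≫ (Pi.π K n)⟦m'⟧', fun n => ?_⟩
      have h1 := congrArg (fun φ => φ ≫ (Pi.π K n)⟦m'⟧') hz'
      simp only [Category.assoc] at h1
      rw [g_shift_π, Preadditive.comp_sub, ← Category.assoc] at h1
      exact h1.trans (liftHom_π A m' w n)
    · rintro ⟨v, hv⟩
      have h1 : liftHom K A m' v ≫ (g K t)⟦m'⟧' = liftHom K A m' w := by
        refine Fan.IsLimit.hom_ext (hP K m') _ _ fun n => ?_
        change (liftHom K A m' v ≫ (g K t)⟦m'⟧') ≫ (Pi.π K n)⟦m'⟧' = liftHom K A m' w ≫ (Pi.π K n)⟦m'⟧'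
        rw [Category.assoc, g_shift_π, Preadditive.comp_sub, liftHom_π, ← Category.assoc, liftHom_π,
          liftHom_π]
        exact hv n
      change δ (liftHom K A m' w) = 0
      rw [← h1]
      exact hδ1 _
  · intro y
    constructor
    · intro hy
      have hy0 : y ≫ (Pi.lift a)⟦m⟧' = 0 := by
        refine Fan.IsLimit.hom_ext (hP K m) _ _ fun n => ?_
        change (y ≫ (Pi.lift a)⟦m⟧') ≫ (Pi.π K n)⟦m⟧' = 0 ≫ (Pi.π K n)⟦m⟧'
        rw [Category.assoc, ← Functor.map_comp, Pi.lift_π, hy, zero_comp]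
      obtain ⟨z, hz⟩ := hex1 y hy0
      refine ⟨fun n => z ≫ (Pi.π K n)⟦m'⟧', ?_⟩
      change δ (liftHom K A m' _) = y
      rw [liftHom_eq]
      exact hz
    · rintro ⟨w, rfl⟩ n
      have h1 := hδ2 (liftHom K A m' w)
      change δ (liftHom K A m' w) ≫ (a n)⟦m⟧' = 0
      have h2 : (a n)⟦m⟧' = (Pi.lift a)⟦m⟧' ≫ (Pi.π K n)⟦m⟧' := by
        rw [← Functor.map_comp, Pi.lift_π]
      rw [h2, ← Category.assoc, h1, zero_comp]

end Groth.Agent.H16.RlimMilnor
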