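import Groth.Agent.H16.RlimCohSheafB

/-!
# The limit of an acyclic tower of sheaves is its derived limit (helper16), part A
-/

set_option autoImplicit false
universe u
open CategoryTheory CategoryTheory.Limits Opposite DerivedCategory Pretriangulated

namespace Groth.Agent.H16.RlimSingleA

variable {C : Type u} [SmallCategory C] {J : GrothendieckTopology C}

section HU

/-- vanishing of cohomology is invariant under isomorphisms of sheaves. -/
lemma subsingleton_HU_of_iso {G G' : Sheaf J AddCommGrpCat.{u}} (e : G ≅ G') (k : ℕ) (U : C)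
    (h : Subsingleton (CohSite.HU G k U)) : Subsingleton (CohSite.HU G' k U) := by
  let i := ((Sheaf.cohomologyPresheafFunctor J k).mapIso e).app (op U)
  have hb : Function.Bijective i.hom.hom := ConcreteCategory.bijective_of_isIso i.hom
  constructor
  intro x y
  obtain ⟨x', rfl⟩ := hb.2 x
  obtain ⟨y', rfl⟩ := hb.2 y
  rw [@Subsingleton.elim _ h x' y']

/-- the zero sheaf has no cohomology. -/
lemma subsingleton_HU_of_isZero {G : Sheaf J AddCommGrpCat.{u}} (hG : IsZero G) (k : ℕ) (U : C) :
    Subsingleton (CohSite.HU G k U) := by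
  constructor
  intro x y
  have h0 : ∀ z : Abelian.Ext (CohCx.freeSheaf J U) G k, z = 0 := by
    intro z
    have h1 : z = z.comp (Abelian.Ext.mk₀ (𝟙 G)) (add_zero k) := (Abelian.Ext.comp_mk₀_id z).symm
    rw [h1, hG.eq_of_src (𝟙 G) 0, Abelian.Ext.mk₀_zero, Abelian.Ext.comp_zero]
  exact (h0 x).trans (h0 y).symm

end HU

end Groth.Agent.H16.RlimSingleA
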