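import Mathlib.NumberTheory.Multiplicity
import Mathlib.Tactic
import Mathlib.Algebra.EuclideanDomain.Int
import Mathlib.RingTheory.PrincipalIdealDomain
import Mathlib.LinearAlgebra.FreeModule.PID
import Mathlib.Algebra.Ring.GeomSum
import Mathlib.RingTheory.Finiteness.Defs
import Mathlib.Algebra.NoZeroSMulDivisors.Defs

set_option autoImplicit false

namespace Groth.Agent.H16

open Finset

section

variable {E : Type} [CommRing E] [NoZeroSMulDivisors ℤ E]

lemma cancel_nat {N : ℕ} (hN : N ≠ 0) {y : E} (h : (N : E) * y = 0) : y = 0 := by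
  have h' : ((N : ℤ)) • y = 0 := by
    rw [zsmul_eq_mul]; exact_mod_cast h
  rcases smul_eq_zero.mp h' with h0 | h0
  · exact absurd (by exact_mod_cast h0) hN
  · exact h0

lemma bdd_div [Module.Finite ℤ E] (x : E) (hx : x ≠ 0) :
    ∃ B : ℕ, ∀ N : ℕ, (N : E) ∣ x → N ≤ B := by
  have : Module.Free ℤ E := Module.free_of_finite_type_torsion_free'
  let b := Module.Free.chooseBasis ℤ E
  have hr : b.repr x ≠ 0 := by
    intro h
    exact hx (b.repr.map_eq_zero_iff.mp h)
  obtain ⟨i, hi⟩ : ∃ i, b.repr x i ≠ 0 := by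
    by_contra hcon
    push Not at hcon
    exact hr (Finsupp.ext hcon)
  refine ⟨(b.repr x i).natAbs, ?_⟩
  rintro N ⟨y, rfl⟩
  have h1 : b.repr ((N : E) * y) i = (N : ℤ) * b.repr y i := by
    have : (N : E) * y = (N : ℤ) • y := by rw [zsmul_eq_mul]; norm_cast
    rw [this, map_smul]; simp
  rw [h1] at hi ⊢
  have hNpos : N ≠ 0 := by
    rintro rfl; simp at hi
  have hy : b.repr y i ≠ 0 := by
    intro h; rw [h, mul_zero] at hi; exact hi rfl
  rw [Int.natAbs_mul, Int.natAbs_natCast]
  exact Nat.le_mul_of_pos_right N (Int.natAbs_pos.mpr hy)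

lemma step (u : E) (p : ℕ) (hp : p.Prime) (hu : u ^ p = 1) (N : ℕ) (hN : 3 ≤ N)
    (hdiv : (N : E) ∣ u - 1) : ∃ N', N < N' ∧ (N' : E) ∣ u - 1 := by
  obtain ⟨w, hw⟩ := hdiv
  have hN0 : N ≠ 0 := by omega
  -- geometric sum
  have hg : (u - 1) * ∑ i ∈ range p, u ^ i = 0 := by
    rw [mul_geom_sum, hu, sub_self]
  have hgt : (u - 1) ∣ (∑ i ∈ range p, u ^ i) - p := by
    have : (∑ i ∈ range p, u ^ i) - p = ∑ i ∈ range p, (u ^ i - 1) := by
      rw [Finset.sum_sub_distrib]; simp
    rw [this]
    exact Finset.dvd_sum (fun i _ => sub_one_dvd_pow_sub_one u i)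
  obtain ⟨t, ht⟩ := hgt
  have hgeq : ∑ i ∈ range p, u ^ i = p + (u - 1) * t := by
    rw [← ht]; ring
  -- p w = - N w^2 t
  have h1 : w * ((p : E) + (N : E) * w * t) = 0 := by
    apply cancel_nat hN0
    have := hg
    rw [hgeq, hw] at this
    rw [← this]; ring
  rcases Nat.coprime_or_dvd_of_prime hp N with hcop | hdvd
  · -- coprime case
    have hco : IsCoprime (p : ℤ) (N : ℤ) := Nat.isCoprime_iff_coprime.mpr hcop
    obtain ⟨a, b, hab⟩ := hco
    have habE : (a : E) * (p : E) + (b : E) * (N : E) = 1 := by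
      have := congrArg (fun z : ℤ => (z : E)) hab
      simpa using this
    refine ⟨N * N, ?_, ?_⟩
    · nlinarith
    · refine ⟨(b : E) * w - (a : E) * w * w * t, ?_⟩
      rw [hw]
      have h2 : w * (p : E) = - ((N : E) * w * w * t) := by
        have := h1
        linear_combination this
      calc (N : E) * w = (N : E) * (w * ((a : E) * (p : E) + (b : E) * (N : E))) := by
            rw [habE, mul_one]
        _ = (N : E) * ((a : E) * (w * (p : E)) + (b : E) * (N : E) * w) := by ring
        _ = ((N * N : ℕ) : E) * ((b : E) * w - (a : E) * w * w * t) := by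
            rw [h2]; push_cast; ring
  · obtain ⟨N', rfl⟩ := hdvd
    have hp0 : p ≠ 0 := hp.ne_zero
    have hN'0 : N' ≠ 0 := by
      rintro rfl; simp at hN0
    -- w = - N' w^2 t
    have h2 : w + (N' : E) * w * w * t = 0 := by
      apply cancel_nat hp0
      have := h1
      push_cast at this
      linear_combination this
    by_cases hN'1 : N' = 1
    · subst hN'1
      rw [mul_one] at hN hw
      have hodd : Odd p := hp.odd_of_ne_two (by omega)
      have h3 := odd_sq_dvd_geom_sum₂_sub (R := E) 1 w hodd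
      simp only [one_pow, mul_one] at h3
      obtain ⟨r, hr⟩ := h3
      have hu' : u = 1 + (p : E) * w := by
        have := hw
        linear_combination this
      have h4 : w * (1 + (p : E) * r) = 0 := by
        apply cancel_nat hp0
        apply cancel_nat hp0
        have := hg
        rw [hu'] at this
        have hr' : ∑ i ∈ range p, (1 + (p : E) * w) ^ i = p + (p : E) ^ 2 * r := by
          rw [← hr]; ring
        rw [hr'] at this
        linear_combination this
      refine ⟨p * p, ?_, ?_⟩
      · nlinarith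
      · refine ⟨-(r * w), ?_⟩
        rw [hw]
        push_cast
        linear_combination (p : E) * h4
    · refine ⟨p * N' * N', ?_, ?_⟩
      · have : 2 ≤ N' := by omega
        have hpos : 0 < p * N' := Nat.pos_of_ne_zero hN0
        nlinarith
      · refine ⟨-(w * w * t), ?_⟩
        rw [hw]
        push_cast
        linear_combination ((p : E) * (N' : E)) * h2

lemma claimA [Module.Finite ℤ E] (u : E) (p : ℕ) (hp : p.Prime) (hu : u ^ p = 1) (n : ℕ)
    (hn : 3 ≤ n) (hdiv : (n : E) ∣ u - 1) : u = 1 := by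
  by_contra hne
  have hx : u - 1 ≠ 0 := sub_ne_zero.mpr hne
  obtain ⟨B, hB⟩ := bdd_div (u - 1) hx
  have key : ∀ k : ℕ, ∃ N, 3 + k ≤ N ∧ (N : E) ∣ u - 1 := by
    intro k
    induction k with
    | zero => exact ⟨n, by omega, hdiv⟩
    | succ k ih =>
      obtain ⟨N, hN, hNd⟩ := ih
      obtain ⟨N', hlt, hd⟩ := step u p hp hu N (by omega) hNd
      exact ⟨N', by omega, hd⟩
  obtain ⟨N, hN, hNd⟩ := key B
  have := hB N hNd
  omega

lemma claimB [Module.Finite ℤ E] (m : ℕ) : ∀ (u : E), 0 < m → u ^ m = 1 → ∀ n : ℕ, 3 ≤ n →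
    (n : E) ∣ u - 1 → u = 1 := by
  induction m using Nat.strong_induction_on with
  | _ m ih =>
    intro u hm hu n hn hdiv
    by_cases h1 : m = 1
    · subst h1; simpa using hu
    · have hp : (m.minFac).Prime := Nat.minFac_prime h1
      obtain ⟨m', hm'⟩ := Nat.minFac_dvd m
      have hm'pos : 0 < m' := by
        rcases Nat.eq_zero_or_pos m' with h | h
        · subst h; simp at hm'; omega
        · exact h
      have hm'lt : m' < m := by
        have := hp.two_le
        nlinarith
      have hu' : (u ^ m') ^ m.minFac = 1 := by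
        rw [← pow_mul, mul_comm, ← hm', hu]
      have hdiv' : (n : E) ∣ u ^ m' - 1 := dvd_trans hdiv (sub_one_dvd_pow_sub_one u m')
      have := claimA (u ^ m') m.minFac hp hu' n hn hdiv'
      exact ih m' hm'lt u hm'pos this n hn hdiv

end

end Groth.Agent.H16
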