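import Groth.Agent.H31.RpushToAb
import Groth.Agent.H30.ExtDerived
import Groth.Agent.H31.PushHU
import Groth.Agent.Lead.Coh.AffineOpen

/-!
# The functor `M ↦ Hom(ℤ_U, M)` on `O_X`-modules and its right derived functors (helper16)
-/

set_option autoImplicit false
universe u
open CategoryTheory CategoryTheory.Limits AlgebraicGeometry TopologicalSpace Opposite

namespace Groth.Agent.H16.SectHom

open Groth.Agent.H31.RpushToAb Groth.Agent.H30

variable {X : Scheme.{u}} (U : X.Opens)

/-- `Hom(ℤ_U, -)` on abelian sheaves. -/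
noncomputable abbrev SW :
    Sheaf (Opens.grothendieckTopology X) AddCommGrpCat.{u} ⥤ AddCommGrpCat.{u} :=
  preadditiveCoyoneda.obj (op (CohCx.freeSheaf (Opens.grothendieckTopology X) U))

/-- `M ↦ Hom(ℤ_U, M)` on `O_X`-modules (sections over `U`). -/
noncomputable def FU : X.Modules ⥤ AddCommGrpCat.{u} := tAb X ⋙ SW U

instance : (FU U).Additive := by
  dsimp only [FU]
  infer_instance

instance : PreservesLimitsOfShape (Discrete ℕ) (FU U) := by
  have h0 := Groth.Agent.H31.toSheaf_preservesLimits X.ringCatSheaf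
  have h1 : PreservesLimitsOfSize.{0, 0} (SheafOfModules.toSheaf.{u} X.ringCatSheaf) :=
    preservesSmallestLimits_of_preservesLimits _
  have h2 : PreservesLimitsOfShape (Discrete ℕ) (tAb X) :=
    (inferInstance : PreservesLimitsOfShape (Discrete ℕ)
      (SheafOfModules.toSheaf.{u} X.ringCatSheaf))
  have h3 : PreservesLimitsOfShape (Discrete ℕ) (SW U) := by
    have h4 : PreservesLimitsOfSize.{u, u} (SW U) := inferInstance
    have : PreservesLimitsOfSize.{0, 0} (SW U) := preservesSmallestLimits_of_preservesLimits _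
    infer_instance
  dsimp only [FU]
  infer_instance

/-- vanishing of `R^p Hom(ℤ_U, -)` on modules from vanishing of abelian sheaf cohomology. -/
theorem isZero_rightDerived_FU [HasInjectiveResolutions X.Modules] (G : X.Modules) (p : ℕ)
    (hp : 0 < p) (h : Groth.Agent.Lead.Coh.HVanish (T := X) (Coh.toAb G) p U) :
    IsZero (((FU U).rightDerived p).obj G) := by
  let _ : HasDerivedCategory.{u + 1} (Sheaf (Opens.grothendieckTopology X) AddCommGrpCat.{u}) :=
    HasDerivedCategory.standard _
  let _ : HasDerivedCategory.{u + 1} AddCommGrpCat.{u} := HasDerivedCategory.standard _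
  have hT : ∀ Q : X.Modules, Injective Q → Leray.acyclic (SW U) ((tAb X).obj Q) := by
    intro Q hQ i hi
    obtain ⟨j, rfl⟩ : ∃ j, i = j + 1 := ⟨i - 1, by omega⟩
    have hQ' : @Injective (SheafOfModules.{u} X.ringCatSheaf) _ Q := hQ
    have hac : CohCx.IsTotallyAcyclic ((SheafOfModules.toSheaf X.ringCatSheaf).obj Q) :=
      @Groth.Agent.H31.ModAcyc.totallyAcyclic_of_injective _ _ _ X.ringCatSheaf Q hQ'
    obtain ⟨e⟩ := ExtDerived.nonempty_iso_rightDerived
      (CohCx.freeSheaf (Opens.grothendieckTopology X) U) (j + 1) ((tAb X).obj Q)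
    refine IsZero.of_iso ?_ e.symm
    have hs : Subsingleton (Abelian.Ext (CohCx.freeSheaf (Opens.grothendieckTopology X) U)
        ((tAb X).obj Q) (j + 1)) :=
      Groth.Agent.H31.PushHU.acyclic_of_totallyAcyclic _ hac (yoneda.obj U) j
    exact @AddCommGrpCat.isZero_of_subsingleton _ hs
  have e1 := (Groth.Agent.H31.AcycComp.rightDerivedCompIso (tAb X) (SW U) hT p).app G
  refine IsZero.of_iso ?_ e1
  obtain ⟨e⟩ := ExtDerived.nonempty_iso_rightDerived
    (CohCx.freeSheaf (Opens.grothendieckTopology X) U) p ((tAb X).obj G)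
  refine IsZero.of_iso ?_ e.symm
  have hs : Subsingleton (Abelian.Ext (CohCx.freeSheaf (Opens.grothendieckTopology X) U)
      ((tAb X).obj G) p) := ⟨fun a b => (h a).trans (h b).symm⟩
  exact @AddCommGrpCat.isZero_of_subsingleton _ hs

end Groth.Agent.H16.SectHom
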