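import Groth.Agent.H16.RFUnbdd
import Groth.Agent.H16.RFKInj
import Groth.Agent.H16.SectHom
import Groth.Agent.H30.LocalExact
import Groth.Agent.H33.SheafMod.Grothendieck
import Groth.Agent.H6.DerivedProd
import Groth.Agent.S1007

/-!
# Uniform vanishing of the cohomology sheaves of `Rf_* E` for `E` in `D_QCoh` (helper16)
-/

set_option autoImplicit false
universe u
open CategoryTheory CategoryTheory.Limits AlgebraicGeometry TopologicalSpace Opposite DerivedCategory

attribute [local instance] HasDerivedCategory.standard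

namespace Groth.Agent.H16.RpushBound

open Groth.Agent.H31.RpushToAb Groth.Agent.H30 Groth.Agent.H30.FlasqueAcyclic

section products

variable {A : Type (u + 1)} [Category.{u} A] [Abelian A] [IsGrothendieckAbelian.{u} A]

lemma hasProduct_derived (K : ℕ → DerivedCategory A) : HasProduct K := by
  have h := fun n => RFKInj.exists_kInjective_iso (K n)
  choose I hI e using h
  exact Groth.Agent.H6.DerivedProd.hasProduct_of_iso (Fan.mk (∏ᶜ I) (Pi.π I)) (productIsProduct I)
    hI K (fun n => (e n).some.symm)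

end products

variable {X S : Scheme.{u}} (f : X ⟶ S)

/-- from exactness of `Hom(ℤ_U, I)` in degree `m` to lifting of cocycle sections over `U`. -/
lemma exists_section_of_exactAt (I : CochainComplex X.Modules ℤ) (U : X.Opens) (m : ℤ)
    (hex : (((SectHom.FU U).mapHomologicalComplex (ComplexShape.up ℤ)).obj I).ExactAt m)
    (s : ((tAb X).obj (I.X m)).obj.obj (op U))
    (hs : (((tAb X).map (I.d m (m + 1))).hom.app (op U)).hom s = 0) :
    ∃ t : ((tAb X).obj (I.X (m - 1))).obj.obj (op U),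
      (((tAb X).map (I.d (m - 1) m)).hom.app (op U)).hom t = s := by
  rw [HomologicalComplex.exactAt_iff' _ (m - 1) m (m + 1) (by simp) (by simp),
    ShortComplex.ab_exact_iff] at hex
  let φ : CohCx.freeSheaf (Opens.grothendieckTopology X) U ⟶ (tAb X).obj (I.X m) :=
    CohFree.ofSect _ U _ s
  have hφ : φ ≫ (tAb X).map (I.d m (m + 1)) = 0 := by
    apply evalGen_injective
    rw [evalGen_comp, CohFree.evalGen_ofSect, hs, map_zero]
  obtain ⟨ψ, hψ⟩ := hex φ hφ
  let ψ' : CohCx.freeSheaf (Opens.grothendieckTopology X) U ⟶ (tAb X).obj (I.X (m - 1)) := ψ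
  refine ⟨CohFree.evalGen _ U _ ψ', ?_⟩
  have hψ' : ψ' ≫ (tAb X).map (I.d (m - 1) m) = φ := hψ
  rw [← evalGen_comp, hψ', CohFree.evalGen_ofSect]

/-- exactness of `f_* I` in degree `m` from exactness of `Hom(ℤ_{f⁻¹V}, I)` for `V` in a basis. -/
theorem exactAt_push (I : CochainComplex X.Modules ℤ) (m : ℤ) (B : Set S.Opens)
    (hB : Opens.IsBasis B)
    (h : ∀ V ∈ B, (((SectHom.FU (f ⁻¹ᵁ V)).mapHomologicalComplex
      (ComplexShape.up ℤ)).obj I).ExactAt m) :
    (((Scheme.Modules.pushforward f).mapHomologicalComplex (ComplexShape.up ℤ)).obj I).ExactAt m := by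
  rw [HomologicalComplex.exactAt_iff' _ (m - 1) m (m + 1) (by simp) (by simp)]
  set Sc := ((((Scheme.Modules.pushforward f).mapHomologicalComplex (ComplexShape.up ℤ)).obj I).sc'
    (m - 1) m (m + 1)) with hSc
  haveI : (tAb S).Faithful :=
    inferInstanceAs (SheafOfModules.toSheaf.{u} S.ringCatSheaf).Faithful
  rw [← ShortComplex.exact_map_iff_of_faithful Sc (tAb S)]
  apply LocalExact.exact_of_locally
  intro V s hs y hy
  obtain ⟨V', hV'B, hyV', hV'V⟩ := Opens.isBasis_iff_nbhd.1 hB hy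
  refine ⟨V', hV'V, hyV', ?_⟩
  let i : f ⁻¹ᵁ V' ⟶ f ⁻¹ᵁ V := homOfLE (fun x hx => hV'V hx)
  let s₀ : ((tAb X).obj (I.X m)).obj.obj (op (f ⁻¹ᵁ V)) := s
  have hs₀ : (((tAb X).map (I.d m (m + 1))).hom.app (op (f ⁻¹ᵁ V))).hom s₀ = 0 := hs
  have hs' : (((tAb X).map (I.d m (m + 1))).hom.app (op (f ⁻¹ᵁ V'))).hom
      ((((tAb X).obj (I.X m)).obj.map i.op).hom s₀) = 0 := by
    have nat := ConcreteCategory.congr_hom
      (((tAb X).map (I.d m (m + 1))).hom.naturality i.op) s₀
    refine nat.trans ?_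
    change (((tAb X).obj (I.X (m + 1))).obj.map i.op).hom
      ((((tAb X).map (I.d m (m + 1))).hom.app (op (f ⁻¹ᵁ V))).hom s₀) = 0
    rw [hs₀, map_zero]
  obtain ⟨t, ht⟩ := exists_section_of_exactAt I (f ⁻¹ᵁ V') m (h V' hV'B) _ hs'
  exact ⟨t, ht⟩

theorem isZero_HD_Rpush [DCoh.HasRpush f] (N₀ : ℕ) (hN₀ : 0 < N₀) (B : Set S.Opens)
    (hB : Opens.IsBasis B)
    (hvan : ∀ V ∈ B, ∀ G : X.Modules, G.IsQuasicoherent → ∀ p : ℕ, N₀ ≤ p →
      Groth.Agent.Lead.Coh.HVanish (T := X) (Coh.toAb G) p (f ⁻¹ᵁ V))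
    (E : DCoh.D X) (hE : DCoh.IsQCohD E) (b : ℤ) (hb : ∀ i : ℤ, b < i → IsZero (DCoh.HD E i))
    (m : ℤ) (hm : b + N₀ < m) :
    IsZero (DCoh.HD ((DCoh.Rpush f).obj E) m) := by
  haveI : IsGrothendieckAbelian.{u} X.Modules :=
    Groth.Agent.H33.SheafMod.isGrothendieckAbelian _ X.ringCatSheaf
  haveI : HasInjectiveResolutions X.Modules := inferInstance
  obtain ⟨I, hI, ⟨e⟩⟩ := RFKInj.exists_kInjective_iso E
  refine IsZero.of_iso ?_
    (RFKInj.homologyIsoOfKInj (Scheme.Modules.pushforward f) I hI E e m)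
  apply HomologicalComplex.ExactAt.isZero_homology
  apply exactAt_push f I m B hB
  intro V hV
  haveI := RFKInj.hasRightDerivedFunctor (A := X.Modules) (SectHom.FU (f ⁻¹ᵁ V))
  haveI : HasProduct (CohCx.truncTower E) := hasProduct_derived _
  have hR : CohCx.IsRlimVia (CohCx.truncTower E) (CohCx.truncTowerMap E) E
      (CohCx.toTruncTower E) := Groth.Agent.S1007.result X E hE
  haveI : AB4StarOfSize.{0} AddCommGrpCat.{u} := AB4StarOfSize_shrink.{0, u} AddCommGrpCat.{u}
  haveI : HasExactLimitsOfShape (Discrete ℕ) AddCommGrpCat.{u} := inferInstance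
  have hz := RFUnbdd.isZero_homology_RF (SectHom.FU (f ⁻¹ᵁ V)) N₀ E b hR
    (fun k p hp => SectHom.isZero_rightDerived_FU _ _ p (by omega) (hvan V hV _ (hE k) p hp))
    hb m hm
  have hz' := IsZero.of_iso hz
    (RFKInj.homologyIsoOfKInj (SectHom.FU (f ⁻¹ᵁ V)) I hI E e m).symm
  exact (HomologicalComplex.exactAt_iff_isZero_homology _ _).2 hz'

end Groth.Agent.H16.RpushBound
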