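import Groth.Agent.Lead.Coh.QcqsBound

/-!
# A basis of the base over which quasi-coherent cohomology of preimages vanishes uniformly (helper16)

Extracted from the proof of `S0031` (lead).
-/

set_option autoImplicit false
universe u
open CategoryTheory CategoryTheory.Limits AlgebraicGeometry TopologicalSpace Opposite

namespace Groth.Agent.H16.RpushCover

theorem exists_uniform_bound {X S : Scheme.{u}} (f : X ⟶ S) [QuasiCompact f] [QuasiSeparated f]
    [CompactSpace S] :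
    ∃ (N₀ : ℕ) (B : Set S.Opens), 0 < N₀ ∧ Opens.IsBasis B ∧
      ∀ V ∈ B, ∀ G : X.Modules, G.IsQuasicoherent → ∀ p : ℕ, N₀ ≤ p →
        Groth.Agent.Lead.Coh.HVanish (T := X) (Coh.toAb G) p (f ⁻¹ᵁ V) := by
  classical
  obtain ⟨s, hs, hS⟩ := isCompact_iff_finite_and_eq_biUnion_affineOpens.mp
    (show IsCompact ((⊤ : S.Opens) : Set S) from isCompact_univ)
  have hdata : ∀ V : S.affineOpens, ∃ (n : ℕ) (D : Groth.Agent.Lead.Coh.AffCoverData X (Fin n)),
      f ⁻¹ᵁ V.1 = Finset.univ.sup D.W := fun V =>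
    Groth.Agent.Lead.Coh.exists_affCoverData (f ⁻¹ᵁ V.1) (f.isCompact_preimage V.2.isCompact)
      (f.isQuasiSeparated_preimage V.2.isQuasiSeparated)
  choose n D hD using hdata
  let B : Set S.Opens := {V' | ∃ V : S.affineOpens, V ∈ s ∧ ∃ h : Γ(S, V.1), V' = S.basicOpen h}
  have hB : TopologicalSpace.Opens.IsBasis B := by
    rw [TopologicalSpace.Opens.isBasis_iff_nbhd]
    intro U x hxU
    have hx : x ∈ (⊤ : S.Opens) := trivial
    rw [hS] at hx
    obtain ⟨V, hxV⟩ := TopologicalSpace.Opens.mem_iSup.mp hx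
    obtain ⟨hVs, hxV⟩ := TopologicalSpace.Opens.mem_iSup.mp hxV
    obtain ⟨h, hle, hxh⟩ := V.2.exists_basicOpen_le ⟨x, hxU⟩ hxV
    exact ⟨S.basicOpen h, ⟨V, hVs, h, rfl⟩, hxh, hle⟩
  refine ⟨hs.toFinset.sup (fun V => (D V).c + 1) + 1, B, by omega, hB, ?_⟩
  rintro _ ⟨V, hVs, h, rfl⟩ M hM p hp
  haveI : M.IsQuasicoherent := hM
  have hpre : f ⁻¹ᵁ (S.basicOpen h) = X.basicOpen (f.app V.1 h) := Scheme.preimage_basicOpen f h
  rw [hpre]
  set T := X.basicOpen (f.app V.1 h) with hTdef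
  have hTle : T ≤ f ⁻¹ᵁ V.1 := X.basicOpen_le _
  have hT : ∀ k, IsAffineOpen (T ⊓ (D V).W k) := by
    intro k
    have hWle : (D V).W k ≤ f ⁻¹ᵁ V.1 := by
      rw [hD V]; exact Finset.le_sup (Finset.mem_univ k)
    have := ((D V).isAffine k).basicOpen (X.presheaf.map (homOfLE hWle).op (f.app V.1 h))
    rw [Scheme.basicOpen_res, inf_comm] at this
    exact this
  have hv := (D V).hVanish M T hT Finset.univ p (by
    have : (D V).c + 1 ≤ hs.toFinset.sup (fun V => (D V).c + 1) :=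
      Finset.le_sup (f := fun V => (D V).c + 1) (hs.mem_toFinset.mpr hVs)
    omega)
  rw [← hD V, inf_eq_left.mpr hTle] at hv
  exact hv

end Groth.Agent.H16.RpushCover
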