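import Groth.Agent.H16.RpushBound
import Groth.Agent.H16.RpushCover
import Groth.Agent.H12.RestrictLim

/-!
# Vanishing of the cohomology sheaves of `Rf_* E` over an affine open of the base (helper16)
-/

set_option autoImplicit false
universe u
open CategoryTheory CategoryTheory.Limits AlgebraicGeometry TopologicalSpace Opposite DerivedCategory

attribute [local instance] HasDerivedCategory.standard

namespace Groth.Agent.H16.RpushQCohLocal

open Groth.Agent.H31.RpushToAb Groth.Agent.H30 Groth.Agent.H30.FlasqueAcyclic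

variable {X S : Scheme.{u}} (f : X ⟶ S)

/-- uniform vanishing over the preimages of the basic opens of an affine open of the base. -/
theorem exists_uniform_bound_affine [QuasiCompact f] [QuasiSeparated f] (V₀ : S.Opens)
    (hV₀ : IsAffineOpen V₀) :
    ∃ N₀ : ℕ, 0 < N₀ ∧ ∀ (h : Γ(S, V₀)) (G : X.Modules), G.IsQuasicoherent → ∀ p : ℕ, N₀ ≤ p →
      Groth.Agent.Lead.Coh.HVanish (T := X) (Coh.toAb G) p (f ⁻¹ᵁ (S.basicOpen h)) := by
  classical
  obtain ⟨n, D, hD⟩ := Groth.Agent.Lead.Coh.exists_affCoverData (f ⁻¹ᵁ V₀)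
    (f.isCompact_preimage hV₀.isCompact) (f.isQuasiSeparated_preimage hV₀.isQuasiSeparated)
  refine ⟨D.c + 1, by omega, fun h M hM p hp => ?_⟩
  haveI : M.IsQuasicoherent := hM
  have hpre : f ⁻¹ᵁ (S.basicOpen h) = X.basicOpen (f.app V₀ h) := Scheme.preimage_basicOpen f h
  rw [hpre]
  set T := X.basicOpen (f.app V₀ h) with hTdef
  have hTle : T ≤ f ⁻¹ᵁ V₀ := X.basicOpen_le _
  have hT : ∀ k, IsAffineOpen (T ⊓ D.W k) := by
    intro k
    have hWle : D.W k ≤ f ⁻¹ᵁ V₀ := by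
      rw [hD]; exact Finset.le_sup (Finset.mem_univ k)
    have := (D.isAffine k).basicOpen (X.presheaf.map (homOfLE hWle).op (f.app V₀ h))
    rw [Scheme.basicOpen_res, inf_comm] at this
    exact this
  have hv := D.hVanish M T hT Finset.univ p hp
  rw [← hD, inf_eq_left.mpr hTle] at hv
  exact hv

/-- exactness of the restriction of `f_* I` to `V₀` in degree `m`. -/
theorem exact_restrict_push (I : CochainComplex X.Modules ℤ) (m : ℤ) (V₀ : S.Opens)
    (hV₀ : IsAffineOpen V₀)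
    (h : ∀ r : Γ(S, V₀), (((SectHom.FU (f ⁻¹ᵁ (S.basicOpen r))).mapHomologicalComplex
      (ComplexShape.up ℤ)).obj I).ExactAt m) :
    ((((Scheme.Modules.pushforward f).mapHomologicalComplex (ComplexShape.up ℤ)).obj I).sc'
      (m - 1) m (m + 1) |>.map (Scheme.Modules.restrictFunctor V₀.ι)).Exact := by
  set Sc := (((Scheme.Modules.pushforward f).mapHomologicalComplex (ComplexShape.up ℤ)).obj I).sc'
    (m - 1) m (m + 1) |>.map (Scheme.Modules.restrictFunctor V₀.ι) with hSc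
  haveI : (tAb (↑V₀ : Scheme.{u})).Faithful :=
    inferInstanceAs (SheafOfModules.toSheaf.{u} (↑V₀ : Scheme.{u}).ringCatSheaf).Faithful
  rw [← ShortComplex.exact_map_iff_of_faithful Sc (tAb (↑V₀ : Scheme.{u}))]
  apply LocalExact.exact_of_locally
  intro W s hs y hy
  -- a basic open around `y` inside `W`
  have hyW : V₀.ι y ∈ V₀.ι ''ᵁ W := ⟨y, hy, rfl⟩
  have hle : V₀.ι ''ᵁ W ≤ V₀ := by
    rintro _ ⟨z, -, rfl⟩
    exact z.2
  obtain ⟨r, hrle, hyr⟩ := hV₀.exists_basicOpen_le ⟨V₀.ι y, hyW⟩ (hle hyW)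
  let W' : (↑V₀ : Scheme.{u}).Opens := V₀.ι ⁻¹ᵁ (S.basicOpen r)
  have hW'eq : V₀.ι ''ᵁ W' = S.basicOpen r := by
    rw [Scheme.Hom.image_preimage_eq_opensRange_inf, Scheme.Opens.opensRange_ι]
    exact inf_eq_right.mpr (S.basicOpen_le r)
  have hW'W : W' ≤ W := by
    intro z hz
    have hz' : V₀.ι z ∈ V₀.ι ''ᵁ W := hrle hz
    obtain ⟨z', hz'W, hz'eq⟩ := hz'
    have : z' = z := V₀.ι.isOpenEmbedding.injective hz'eq
    exact this ▸ hz'W
  refine ⟨W', hW'W, hyr, ?_⟩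
  have hex := h r
  rw [← hW'eq] at hex
  let i : f ⁻¹ᵁ (V₀.ι ''ᵁ W') ⟶ f ⁻¹ᵁ (V₀.ι ''ᵁ W) :=
    homOfLE (fun x hx => Scheme.Hom.image_mono _ hW'W hx)
  let s₀ : ((tAb X).obj (I.X m)).obj.obj (op (f ⁻¹ᵁ (V₀.ι ''ᵁ W))) := s
  have hs₀ : (((tAb X).map (I.d m (m + 1))).hom.app (op (f ⁻¹ᵁ (V₀.ι ''ᵁ W)))).hom s₀ = 0 := hs
  have hs' : (((tAb X).map (I.d m (m + 1))).hom.app (op (f ⁻¹ᵁ (V₀.ι ''ᵁ W')))).hom
      ((((tAb X).obj (I.X m)).obj.map i.op).hom s₀) = 0 := by
    have nat := ConcreteCategory.congr_hom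
      (((tAb X).map (I.d m (m + 1))).hom.naturality i.op) s₀
    refine nat.trans ?_
    change (((tAb X).obj (I.X (m + 1))).obj.map i.op).hom
      ((((tAb X).map (I.d m (m + 1))).hom.app (op (f ⁻¹ᵁ (V₀.ι ''ᵁ W)))).hom s₀) = 0
    rw [hs₀, map_zero]
  obtain ⟨t, ht⟩ := RpushBound.exists_section_of_exactAt I (f ⁻¹ᵁ (V₀.ι ''ᵁ W')) m hex _ hs'
  exact ⟨t, ht⟩

/-- exactness of `Hom(ℤ_U, I)` in high degrees for a K-injective `I` with quasi-coherent cohomology
bounded above, when quasi-coherent cohomology on `U` vanishes in degrees `≥ N₀`. -/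
theorem exactAt_FU (E : DCoh.D X) (hE : DCoh.IsQCohD E) (I : CochainComplex X.Modules ℤ)
    (hI : I.IsKInjective) (e : E ≅ Q.obj I) (U : X.Opens) (N₀ : ℕ) (hN₀ : 0 < N₀)
    (hvan : ∀ G : X.Modules, G.IsQuasicoherent → ∀ p : ℕ, N₀ ≤ p →
      Groth.Agent.Lead.Coh.HVanish (T := X) (Coh.toAb G) p U)
    (b : ℤ) (hb : ∀ i : ℤ, b < i → IsZero (DCoh.HD E i)) (m : ℤ) (hm : b + N₀ < m) :
    (((SectHom.FU U).mapHomologicalComplex (ComplexShape.up ℤ)).obj I).ExactAt m := by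
  haveI : IsGrothendieckAbelian.{u} X.Modules :=
    Groth.Agent.H33.SheafMod.isGrothendieckAbelian _ X.ringCatSheaf
  haveI : HasInjectiveResolutions X.Modules := inferInstance
  haveI := RFKInj.hasRightDerivedFunctor (A := X.Modules) (SectHom.FU U)
  haveI : HasProduct (CohCx.truncTower E) := RpushBound.hasProduct_derived _
  have hR : CohCx.IsRlimVia (CohCx.truncTower E) (CohCx.truncTowerMap E) E
      (CohCx.toTruncTower E) := Groth.Agent.S1007.result X E hE
  haveI : AB4StarOfSize.{0} AddCommGrpCat.{u} := AB4StarOfSize_shrink.{0, u} AddCommGrpCat.{u}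
  haveI : HasExactLimitsOfShape (Discrete ℕ) AddCommGrpCat.{u} := inferInstance
  have hz := RFUnbdd.isZero_homology_RF (SectHom.FU U) N₀ E b hR
    (fun k p hp => SectHom.isZero_rightDerived_FU _ _ p (by omega) (hvan _ (hE k) p hp))
    hb m hm
  have hz' := IsZero.of_iso hz
    (RFKInj.homologyIsoOfKInj (SectHom.FU U) I hI E e m).symm
  exact (HomologicalComplex.exactAt_iff_isZero_homology _ _).2 hz'

/-- `H^m(Rf_* E)` vanishes over an affine open `V₀` of the base for `m > b + N₀`. -/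
theorem isZero_restrict_HD_Rpush [DCoh.HasRpush f] (V₀ : S.Opens) (hV₀ : IsAffineOpen V₀)
    (N₀ : ℕ) (hN₀ : 0 < N₀)
    (hvan : ∀ (h : Γ(S, V₀)) (G : X.Modules), G.IsQuasicoherent → ∀ p : ℕ, N₀ ≤ p →
      Groth.Agent.Lead.Coh.HVanish (T := X) (Coh.toAb G) p (f ⁻¹ᵁ (S.basicOpen h)))
    (E : DCoh.D X) (hE : DCoh.IsQCohD E) (b : ℤ) (hb : ∀ i : ℤ, b < i → IsZero (DCoh.HD E i))
    (m : ℤ) (hm : b + N₀ < m) :
    IsZero ((Scheme.Modules.restrictFunctor V₀.ι).obj (DCoh.HD ((DCoh.Rpush f).obj E) m)) := by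
  haveI : IsGrothendieckAbelian.{u} X.Modules :=
    Groth.Agent.H33.SheafMod.isGrothendieckAbelian _ X.ringCatSheaf
  obtain ⟨I, hI, ⟨e⟩⟩ := RFKInj.exists_kInjective_iso E
  let R := Scheme.Modules.restrictFunctor V₀.ι
  haveI : R.Additive := (Scheme.Modules.restrictAdjunction V₀.ι).left_adjoint_additive
  let C := ((Scheme.Modules.pushforward f).mapHomologicalComplex (ComplexShape.up ℤ)).obj I
  have hex : ((C.sc' (m - 1) m (m + 1)).map R).Exact :=
    exact_restrict_push f I m V₀ hV₀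
      (fun r => exactAt_FU E hE I hI e _ N₀ hN₀ (hvan r) b hb m hm)
  have hex' : ((C.sc m).map R).Exact :=
    (ShortComplex.exact_iff_of_iso
      (R.mapShortComplex.mapIso (C.isoSc' (m - 1) m (m + 1) (by simp) (by simp)))).2 hex
  have hz : IsZero ((C.sc m).map R).homology := (ShortComplex.exact_iff_isZero_homology _).1 hex'
  have e1 : R.obj (DCoh.HD ((DCoh.Rpush f).obj E) m) ≅ R.obj (C.homology m) :=
    R.mapIso (RFKInj.homologyIsoOfKInj (Scheme.Modules.pushforward f) I hI E e m)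
  exact IsZero.of_iso hz (e1 ≪≫ ((C.sc m).mapHomologyIso R).symm)

end Groth.Agent.H16.RpushQCohLocal
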