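import Mathlib.Algebra.Homology.ShortComplex.Abelian
import Mathlib.Algebra.Homology.ShortComplex.Limits
import Mathlib.Algebra.Homology.ShortComplex.PreservesHomology
import Mathlib.Algebra.Homology.ShortComplex.ExactFunctor
import Mathlib.Algebra.Homology.ShortComplex.ShortExact
import Mathlib.CategoryTheory.Preadditive.Injective.Basic
import Mathlib.CategoryTheory.Abelian.Exact

/-!
# The abelian category of short complexes: componentwise criteria and injective objects
-/

set_option autoImplicit false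
universe v u
open CategoryTheory CategoryTheory.Limits

namespace Groth.Agent.H16.SESLift

variable {C : Type u} [Category.{v} C] [Abelian C]

theorem isZero_of_components (Z : ShortComplex C) (h₁ : IsZero Z.X₁) (h₂ : IsZero Z.X₂)
    (h₃ : IsZero Z.X₃) : IsZero Z := by
  rw [IsZero.iff_id_eq_zero]
  ext
  · exact h₁.eq_of_src _ _
  · exact h₂.eq_of_src _ _
  · exact h₃.eq_of_src _ _

theorem mono_of_components {A B : ShortComplex C} (m : A ⟶ B) [Mono m.τ₁] [Mono m.τ₂]
    [Mono m.τ₃] : Mono m := by
  constructor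
  intro W g₁ g₂ h
  ext
  · rw [← cancel_mono m.τ₁, ← ShortComplex.comp_τ₁, ← ShortComplex.comp_τ₁, h]
  · rw [← cancel_mono m.τ₂, ← ShortComplex.comp_τ₂, ← ShortComplex.comp_τ₂, h]
  · rw [← cancel_mono m.τ₃, ← ShortComplex.comp_τ₃, ← ShortComplex.comp_τ₃, h]

/-- exactness in the category of short complexes can be checked componentwise -/
theorem exact_of_components (S : ShortComplex (ShortComplex C))
    (h₁ : (S.map ShortComplex.π₁).Exact) (h₂ : (S.map ShortComplex.π₂).Exact)
    (h₃ : (S.map ShortComplex.π₃).Exact) : S.Exact := by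
  rw [ShortComplex.exact_iff_isZero_homology] at h₁ h₂ h₃ ⊢
  apply isZero_of_components
  · exact IsZero.of_iso h₁ (S.mapHomologyIso ShortComplex.π₁).symm
  · exact IsZero.of_iso h₂ (S.mapHomologyIso ShortComplex.π₂).symm
  · exact IsZero.of_iso h₃ (S.mapHomologyIso ShortComplex.π₃).symm

/-- a split short complex with injective ends is an injective object of the category of
short complexes -/
theorem injective_of_splitting (X : ShortComplex C) (s : X.Splitting) [Injective X.X₁]
    [Injective X.X₃] : Injective X := by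
  constructor
  intro A B a m hm
  have hm₂ : Mono m.τ₂ := (inferInstance : Mono (ShortComplex.π₂.map m))
  have hm₃ : Mono m.τ₃ := (inferInstance : Mono (ShortComplex.π₃.map m))
  let b₃ : B.X₃ ⟶ X.X₃ := Injective.factorThru a.τ₃ m.τ₃
  have hb₃ : m.τ₃ ≫ b₃ = a.τ₃ := Injective.comp_factorThru _ _
  let β : B.X₂ ⟶ X.X₁ := Injective.factorThru (a.τ₂ ≫ s.r) m.τ₂
  have hβ : m.τ₂ ≫ β = a.τ₂ ≫ s.r := Injective.comp_factorThru _ _
  refine ⟨ShortComplex.homMk (B.f ≫ β) (β ≫ X.f + B.g ≫ b₃ ≫ s.s) b₃ ?_ ?_, ?_⟩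
  · simp only [Preadditive.comp_add, Category.assoc, B.zero_assoc, zero_comp, add_zero]
  · simp only [Preadditive.add_comp, Category.assoc, X.zero, comp_zero, zero_add, s.s_g,
      Category.comp_id]
  · ext
    · change m.τ₁ ≫ B.f ≫ β = a.τ₁
      rw [m.comm₁₂_assoc, hβ, ← a.comm₁₂_assoc, s.f_r, Category.comp_id]
    · change m.τ₂ ≫ (β ≫ X.f + B.g ≫ b₃ ≫ s.s) = a.τ₂
      rw [Preadditive.comp_add, ← Category.assoc, hβ, m.comm₂₃_assoc, ← Category.assoc m.τ₃,
        hb₃, ← a.comm₂₃_assoc, Category.assoc, ← Preadditive.comp_add, s.id, Category.comp_id]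
    · exact hb₃

end Groth.Agent.H16.SESLift
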