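import Groth.Agent.H16.SESLiftA
import Groth.Prelude.Def_RDerDelta
import Groth.Prelude.Def_RDer

/-!
# Injective resolutions of a short exact sequence as injective resolutions in the category of
short complexes; lifting morphisms of short exact sequences to the resolutions
-/

set_option autoImplicit false
universe v u
open CategoryTheory CategoryTheory.Limits

namespace Groth.Agent.H16.SESLift

variable {C : Type u} [Category.{v} C] [Abelian C]

/-- a short complex of cochain complexes, seen as a cochain complex of short complexes -/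
noncomputable def toCx (T : ShortComplex (CochainComplex C ℕ)) : CochainComplex (ShortComplex C) ℕ where
  X n := T.map (HomologicalComplex.eval C (ComplexShape.up ℕ) n)
  d i j := ShortComplex.homMk (T.X₁.d i j) (T.X₂.d i j) (T.X₃.d i j)
    (T.f.comm i j).symm (T.g.comm i j).symm
  shape i j h := by
    ext
    · exact T.X₁.shape i j h
    · exact T.X₂.shape i j h
    · exact T.X₃.shape i j h
  d_comp_d' i j k _ _ := by
    ext
    · exact T.X₁.d_comp_d i j k
    · exact T.X₂.d_comp_d i j k
    · exact T.X₃.d_comp_d i j k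

/-- a morphism of the associated cochain complexes of short complexes gives back a morphism of
short complexes of cochain complexes -/
noncomputable def ofCxHom {T T' : ShortComplex (CochainComplex C ℕ)} (Φ : toCx T ⟶ toCx T') :
    T ⟶ T' where
  τ₁ := { f := fun n => (Φ.f n).τ₁
          comm' := fun i j _ => congrArg ShortComplex.Hom.τ₁ (Φ.comm i j) }
  τ₂ := { f := fun n => (Φ.f n).τ₂
          comm' := fun i j _ => congrArg ShortComplex.Hom.τ₂ (Φ.comm i j) }
  τ₃ := { f := fun n => (Φ.f n).τ₃
          comm' := fun i j _ => congrArg ShortComplex.Hom.τ₃ (Φ.comm i j) }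
  comm₁₂ := by
    ext n
    exact (Φ.f n).comm₁₂
  comm₂₃ := by
    ext n
    exact (Φ.f n).comm₂₃

variable {S : ShortComplex C}

theorem ι_f_zero (T : RDer.SESRes S) : T.I₁.ι.f 0 ≫ T.f.f 0 = S.f ≫ T.I₂.ι.f 0 := by
  have := congrArg (fun t => t.f 0) T.ι_f
  simpa using this

theorem ι_g_zero (T : RDer.SESRes S) : T.I₂.ι.f 0 ≫ T.g.f 0 = S.g ≫ T.I₃.ι.f 0 := by
  have := congrArg (fun t => t.f 0) T.ι_g
  simpa using this

/-- the augmentation in degree `0`, as a morphism of short complexes -/
noncomputable def aug₀ (T : RDer.SESRes S) : S ⟶ (toCx T.cx).X 0 :=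
  ShortComplex.homMk (T.I₁.ι.f 0) (T.I₂.ι.f 0) (T.I₃.ι.f 0) (ι_f_zero T) (ι_g_zero T)

theorem aug₀_d (T : RDer.SESRes S) : aug₀ T ≫ (toCx T.cx).d 0 1 = 0 := by
  ext
  · exact T.I₁.ι_f_zero_comp_complex_d
  · exact T.I₂.ι_f_zero_comp_complex_d
  · exact T.I₃.ι_f_zero_comp_complex_d

/-- the augmentation -/
noncomputable def aug (T : RDer.SESRes S) :
    (CochainComplex.single₀ (ShortComplex C)).obj S ⟶ toCx T.cx :=
  (CochainComplex.fromSingle₀Equiv _ _).symm ⟨aug₀ T, aug₀_d T⟩

theorem aug_f_zero (T : RDer.SESRes S) : (aug T).f 0 = aug₀ T := by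
  simp [aug]

instance (T : RDer.SESRes S) (n : ℕ) : Injective ((toCx T.cx).X n) := by
  have h1 : Injective ((toCx T.cx).X n).X₁ := T.I₁.injective n
  have h3 : Injective ((toCx T.cx).X n).X₃ := T.I₃.injective n
  exact injective_of_splitting _ (T.splitting n)

theorem toCx_exact_succ (T : RDer.SESRes S) (n : ℕ) :
    (ShortComplex.mk _ _ ((toCx T.cx).d_comp_d n (n + 1) (n + 2))).Exact := by
  apply exact_of_components
  · exact T.I₁.exact_succ n
  · exact T.I₂.exact_succ n
  · exact T.I₃.exact_succ n

theorem toCx_exact_zero (T : RDer.SESRes S) :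
    (ShortComplex.mk (aug₀ T) ((toCx T.cx).d 0 1) (aug₀_d T)).Exact := by
  apply exact_of_components
  · exact RDer.res_exact₀ T.I₁.cocomplex T.I₁.ι
  · exact RDer.res_exact₀ T.I₂.cocomplex T.I₂.ι
  · exact RDer.res_exact₀ T.I₃.cocomplex T.I₃.ι

instance (T : RDer.SESRes S) : Mono (aug₀ T) := by
  have h1 : Mono (aug₀ T).τ₁ := (inferInstance : Mono (T.I₁.ι.f 0))
  have h2 : Mono (aug₀ T).τ₂ := (inferInstance : Mono (T.I₂.ι.f 0))
  have h3 : Mono (aug₀ T).τ₃ := (inferInstance : Mono (T.I₃.ι.f 0))
  exact mono_of_components _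

set_option backward.isDefEq.respectTransparency false in
instance (T : RDer.SESRes S) : QuasiIso (aug T) := ⟨fun n => by
  cases n with
  | zero =>
    rw [CochainComplex.quasiIsoAt₀_iff, ShortComplex.quasiIso_iff_of_zeros]
    · refine (ShortComplex.exact_and_mono_f_iff_of_iso ?_).2
        ⟨toCx_exact_zero T, by dsimp; infer_instance⟩
      exact ShortComplex.isoMk (Iso.refl _) (Iso.refl _) (Iso.refl _) (by simp [aug_f_zero])
        (by simp)
    · rfl
    · rfl
    · exact (toCx T.cx).shape 0 0 (by simp)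
  | succ n =>
    rw [quasiIsoAt_iff_exactAt]
    · rw [HomologicalComplex.exactAt_iff' _ n (n + 1) (n + 2) (by simp)
        (by simp only [CochainComplex.next]; rfl)]
      exact toCx_exact_succ T n
    · apply CochainComplex.exactAt_succ_single_obj⟩

end Groth.Agent.H16.SESLift
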