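import Groth.Agent.H16.SESLiftB
import Mathlib.Algebra.Homology.HomologySequenceLemmas

/-!
# Naturality and independence of the connecting morphisms of right derived functors
-/

set_option autoImplicit false
universe v u v' u'
open CategoryTheory CategoryTheory.Limits

namespace Groth.Agent.H16.SESLift

variable {C : Type u} [Category.{v} C] [Abelian C]

/-- a morphism of short complexes lifts to a morphism between injective resolutions of them -/
theorem exists_lift {S S' : ShortComplex C} (φ : S ⟶ S') (T : RDer.SESRes S)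
    (T' : RDer.SESRes S') :
    ∃ Ψ : T.cx ⟶ T'.cx,
      T.I₁.ι.f 0 ≫ Ψ.τ₁.f 0 = φ.τ₁ ≫ T'.I₁.ι.f 0 ∧
      T.I₂.ι.f 0 ≫ Ψ.τ₂.f 0 = φ.τ₂ ≫ T'.I₂.ι.f 0 ∧
      T.I₃.ι.f 0 ≫ Ψ.τ₃.f 0 = φ.τ₃ ≫ T'.I₃.ι.f 0 := by
  let Φ := RDer.descToInjectives φ (toCx T.cx) (aug T) (toCx T'.cx) (aug T')
  have h := RDer.ι_descToInjectives_f_zero φ (toCx T.cx) (aug T) (toCx T'.cx) (aug T')
  rw [aug_f_zero, aug_f_zero] at h
  refine ⟨ofCxHom Φ, ?_, ?_, ?_⟩
  · exact congrArg ShortComplex.Hom.τ₁ h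
  · exact congrArg ShortComplex.Hom.τ₂ h
  · exact congrArg ShortComplex.Hom.τ₃ h

variable [HasInjectiveResolutions C] {D : Type u'} [Category.{v'} D] [Abelian D]
  (F : C ⥤ D) [F.Additive]

/-- naturality of the connecting morphisms computed from arbitrary resolutions -/
theorem delta_natural {S S' : ShortComplex C} (φ : S ⟶ S') (T : RDer.SESRes S)
    (T' : RDer.SESRes S') (n₀ n₁ : ℕ) (h : n₀ + 1 = n₁) :
    (F.rightDerived n₀).map φ.τ₃ ≫ T'.delta F n₀ n₁ h =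
      T.delta F n₀ n₁ h ≫ (F.rightDerived n₁).map φ.τ₁ := by
  obtain ⟨Ψ, c₁, _, c₃⟩ := exists_lift φ T T'
  let H₃ := HomologicalComplex.homologyMap
    ((F.mapHomologicalComplex (ComplexShape.up ℕ)).mapShortComplex.map Ψ).τ₃ n₀
  let H₁ := HomologicalComplex.homologyMap
    ((F.mapHomologicalComplex (ComplexShape.up ℕ)).mapShortComplex.map Ψ).τ₁ n₁
  have N₃ : (F.rightDerived n₀).map φ.τ₃ ≫ (T'.I₃.isoRightDerivedObj F n₀).hom =
      (T.I₃.isoRightDerivedObj F n₀).hom ≫ H₃ :=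
    InjectiveResolution.isoRightDerivedObj_hom_naturality φ.τ₃ T.I₃ T'.I₃ Ψ.τ₃ c₃ F n₀
  have N₁ : (F.rightDerived n₁).map φ.τ₁ ≫ (T'.I₁.isoRightDerivedObj F n₁).hom =
      (T.I₁.isoRightDerivedObj F n₁).hom ≫ H₁ :=
    InjectiveResolution.isoRightDerivedObj_hom_naturality φ.τ₁ T.I₁ T'.I₁ Ψ.τ₁ c₁ F n₁
  have Nδ : (T.map_shortExact F).δ n₀ n₁ h ≫ H₁ = H₃ ≫ (T'.map_shortExact F).δ n₀ n₁ h :=
    HomologicalComplex.HomologySequence.δ_naturality
      ((F.mapHomologicalComplex (ComplexShape.up ℕ)).mapShortComplex.map Ψ)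
      (T.map_shortExact F) (T'.map_shortExact F) n₀ n₁ h
  have hD := RDer.SESRes.delta_comp_isoRightDerivedObj_hom T F n₀ n₁ h
  have hD' := RDer.SESRes.delta_comp_isoRightDerivedObj_hom T' F n₀ n₁ h
  rw [← cancel_mono (T'.I₁.isoRightDerivedObj F n₁).hom]
  have e1 : ((F.rightDerived n₀).map φ.τ₃ ≫ T'.delta F n₀ n₁ h) ≫
      (T'.I₁.isoRightDerivedObj F n₁).hom =
      (F.rightDerived n₀).map φ.τ₃ ≫ (T'.I₃.isoRightDerivedObj F n₀).hom ≫
          (T'.map_shortExact F).δ n₀ n₁ h :=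
    (Category.assoc _ _ _).trans (whisker_eq _ hD')
  have e2 : (F.rightDerived n₀).map φ.τ₃ ≫ (T'.I₃.isoRightDerivedObj F n₀).hom ≫
      (T'.map_shortExact F).δ n₀ n₁ h =
      (T.I₃.isoRightDerivedObj F n₀).hom ≫ H₃ ≫ (T'.map_shortExact F).δ n₀ n₁ h :=
    (Category.assoc _ _ _).symm.trans ((eq_whisker N₃ _).trans (Category.assoc _ _ _))
  have e3 : (T.I₃.isoRightDerivedObj F n₀).hom ≫ H₃ ≫ (T'.map_shortExact F).δ n₀ n₁ h =
      (T.I₃.isoRightDerivedObj F n₀).hom ≫ (T.map_shortExact F).δ n₀ n₁ h ≫ H₁ :=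
    whisker_eq _ Nδ.symm
  have e4 : (T.I₃.isoRightDerivedObj F n₀).hom ≫ (T.map_shortExact F).δ n₀ n₁ h ≫ H₁ =
      T.delta F n₀ n₁ h ≫ (T.I₁.isoRightDerivedObj F n₁).hom ≫ H₁ :=
    (Category.assoc _ _ _).symm.trans ((eq_whisker hD.symm _).trans (Category.assoc _ _ _))
  have e5 : T.delta F n₀ n₁ h ≫ (T.I₁.isoRightDerivedObj F n₁).hom ≫ H₁ =
      (T.delta F n₀ n₁ h ≫ (F.rightDerived n₁).map φ.τ₁) ≫
          (T'.I₁.isoRightDerivedObj F n₁).hom :=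
    (whisker_eq _ N₁.symm).trans (Category.assoc _ _ _).symm
  exact e1.trans (e2.trans (e3.trans (e4.trans e5)))

/-- the connecting morphism does not depend on the resolution -/
theorem delta_eq {S : ShortComplex C} (T T' : RDer.SESRes S) (n₀ n₁ : ℕ) (h : n₀ + 1 = n₁) :
    T.delta F n₀ n₁ h = T'.delta F n₀ n₁ h := by
  have := delta_natural F (𝟙 S) T' T n₀ n₁ h
  simpa using this

end Groth.Agent.H16.SESLift
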