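import Groth.Agent.H16.SESLiftC
import Groth.Agent.H33.RDLes

/-!
# The long exact sequence of right derived functors, as an inhabitant of `RDer.DerivedLES`
-/

set_option autoImplicit false
universe v u v' u'
open CategoryTheory CategoryTheory.Limits

namespace Groth.Agent.H16.SESLift

variable {C : Type u} [Category.{v} C] [Abelian C]

/-- the horseshoe lemma, in the form of the prelude's `RDer.SESRes` -/
theorem nonempty_sesRes [EnoughInjectives C] (S : ShortComplex C) (hS : S.ShortExact) :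
    Nonempty (RDer.SESRes S) := by
  obtain ⟨I₁, I₂, I₃, a, b, w, c1, c2, hab⟩ := Groth.Agent.H33.RDLes.exists_resolutions S hS
  refine ⟨⟨I₁, I₂, I₃, a, b, w, ?_, ?_, hab⟩⟩
  · apply HomologicalComplex.from_single_hom_ext
    simpa using c1
  · apply HomologicalComplex.from_single_hom_ext
    simpa using c2

variable [HasInjectiveResolutions C] {D : Type u'} [Category.{v'} D] [Abelian D]
  (F : C ⥤ D) [F.Additive] {S : ShortComplex C} (T : RDer.SESRes S)

theorem nat₁ (n : ℕ) : (F.rightDerived n).map S.f ≫ (T.I₂.isoRightDerivedObj F n).hom =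
    (T.I₁.isoRightDerivedObj F n).hom ≫
      HomologicalComplex.homologyMap (T.cx.map (F.mapHomologicalComplex (ComplexShape.up ℕ))).f n :=
  InjectiveResolution.isoRightDerivedObj_hom_naturality S.f T.I₁ T.I₂ T.f (ι_f_zero T) F n

theorem nat₂ (n : ℕ) : (F.rightDerived n).map S.g ≫ (T.I₃.isoRightDerivedObj F n).hom =
    (T.I₂.isoRightDerivedObj F n).hom ≫
      HomologicalComplex.homologyMap (T.cx.map (F.mapHomologicalComplex (ComplexShape.up ℕ))).g n :=
  InjectiveResolution.isoRightDerivedObj_hom_naturality S.g T.I₂ T.I₃ T.g (ι_g_zero T) F n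

include T in
theorem exact₂_of (n : ℕ) :
    (ShortComplex.mk ((F.rightDerived n).map S.f) ((F.rightDerived n).map S.g)
      (by rw [← Functor.map_comp, S.zero, Functor.map_zero])).Exact :=
  (ShortComplex.exact_iff_of_iso (ShortComplex.isoMk (T.I₁.isoRightDerivedObj F n)
    (T.I₂.isoRightDerivedObj F n) (T.I₃.isoRightDerivedObj F n) (nat₁ F T n).symm
    (nat₂ F T n).symm)).2 ((T.map_shortExact F).homology_exact₂ n)

theorem comp_delta (n₀ n₁ : ℕ) (h : n₀ + 1 = n₁) :
    (F.rightDerived n₀).map S.g ≫ T.delta F n₀ n₁ h = 0 := by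
  have hD := RDer.SESRes.delta_comp_isoRightDerivedObj_hom T F n₀ n₁ h
  rw [← cancel_mono (T.I₁.isoRightDerivedObj F n₁).hom, zero_comp, Category.assoc]
  have e1 : (F.rightDerived n₀).map S.g ≫ T.delta F n₀ n₁ h ≫ (T.I₁.isoRightDerivedObj F n₁).hom =
      (F.rightDerived n₀).map S.g ≫ (T.I₃.isoRightDerivedObj F n₀).hom ≫
        (T.map_shortExact F).δ n₀ n₁ h := whisker_eq _ hD
  have e2 : (F.rightDerived n₀).map S.g ≫ (T.I₃.isoRightDerivedObj F n₀).hom ≫
        (T.map_shortExact F).δ n₀ n₁ h =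
      (T.I₂.isoRightDerivedObj F n₀).hom ≫
        HomologicalComplex.homologyMap (T.cx.map (F.mapHomologicalComplex (ComplexShape.up ℕ))).g n₀ ≫
          (T.map_shortExact F).δ n₀ n₁ h :=
    (Category.assoc _ _ _).symm.trans ((eq_whisker (nat₂ F T n₀) _).trans (Category.assoc _ _ _))
  have e3 : HomologicalComplex.homologyMap
      (T.cx.map (F.mapHomologicalComplex (ComplexShape.up ℕ))).g n₀ ≫
        (T.map_shortExact F).δ n₀ n₁ h = 0 := (T.map_shortExact F).comp_δ n₀ n₁ h
  exact e1.trans (e2.trans ((whisker_eq _ e3).trans comp_zero))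

theorem delta_comp (n₀ n₁ : ℕ) (h : n₀ + 1 = n₁) :
    T.delta F n₀ n₁ h ≫ (F.rightDerived n₁).map S.f = 0 := by
  have hD := RDer.SESRes.delta_comp_isoRightDerivedObj_hom T F n₀ n₁ h
  rw [← cancel_mono (T.I₂.isoRightDerivedObj F n₁).hom, zero_comp, Category.assoc]
  have e1 : T.delta F n₀ n₁ h ≫ (F.rightDerived n₁).map S.f ≫ (T.I₂.isoRightDerivedObj F n₁).hom =
      T.delta F n₀ n₁ h ≫ (T.I₁.isoRightDerivedObj F n₁).hom ≫
        HomologicalComplex.homologyMap
          (T.cx.map (F.mapHomologicalComplex (ComplexShape.up ℕ))).f n₁ := whisker_eq _ (nat₁ F T n₁)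
  have e2 : T.delta F n₀ n₁ h ≫ (T.I₁.isoRightDerivedObj F n₁).hom ≫
        HomologicalComplex.homologyMap
          (T.cx.map (F.mapHomologicalComplex (ComplexShape.up ℕ))).f n₁ =
      (T.I₃.isoRightDerivedObj F n₀).hom ≫ (T.map_shortExact F).δ n₀ n₁ h ≫
        HomologicalComplex.homologyMap
          (T.cx.map (F.mapHomologicalComplex (ComplexShape.up ℕ))).f n₁ :=
    (Category.assoc _ _ _).symm.trans ((eq_whisker hD _).trans (Category.assoc _ _ _))
  have e3 : (T.map_shortExact F).δ n₀ n₁ h ≫ HomologicalComplex.homologyMap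
      (T.cx.map (F.mapHomologicalComplex (ComplexShape.up ℕ))).f n₁ = 0 :=
    (T.map_shortExact F).δ_comp n₀ n₁ h
  exact e1.trans (e2.trans ((whisker_eq _ e3).trans comp_zero))

theorem exact₃_of (n₀ n₁ : ℕ) (h : n₀ + 1 = n₁) :
    (ShortComplex.mk _ _ (comp_delta F T n₀ n₁ h)).Exact := by
  refine (ShortComplex.exact_iff_of_iso (ShortComplex.isoMk (T.I₂.isoRightDerivedObj F n₀)
    (T.I₃.isoRightDerivedObj F n₀) (T.I₁.isoRightDerivedObj F n₁) (nat₂ F T n₀).symm ?_)).2
    ((T.map_shortExact F).homology_exact₃ n₀ n₁ h)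
  exact (RDer.SESRes.delta_comp_isoRightDerivedObj_hom T F n₀ n₁ h).symm

theorem exact₁_of (n₀ n₁ : ℕ) (h : n₀ + 1 = n₁) :
    (ShortComplex.mk _ _ (delta_comp F T n₀ n₁ h)).Exact := by
  refine (ShortComplex.exact_iff_of_iso (ShortComplex.isoMk (T.I₃.isoRightDerivedObj F n₀)
    (T.I₁.isoRightDerivedObj F n₁) (T.I₂.isoRightDerivedObj F n₁) ?_ (nat₁ F T n₁).symm)).2
    ((T.map_shortExact F).homology_exact₁ n₀ n₁ h)
  exact (RDer.SESRes.delta_comp_isoRightDerivedObj_hom T F n₀ n₁ h).symm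

end Groth.Agent.H16.SESLift
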