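import Mathlib.CategoryTheory.Preadditive.Injective.Basic
import Mathlib.CategoryTheory.Abelian.FunctorCategory
import Mathlib.CategoryTheory.Abelian.Basic
import Mathlib.CategoryTheory.Functor.OfSequence
import Mathlib.CategoryTheory.Limits.FunctorCategory.EpiMono

/-!
# Enough injectives in the category of inverse systems `ℕᵒᵖ ⥤ A`
-/

universe v u

open CategoryTheory CategoryTheory.Limits Opposite

namespace Groth.Agent.H16.SeqInj

variable {A : Type u} [Category.{v} A] [Abelian A]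

/-- The successor map in `ℕᵒᵖ`. -/
abbrev s (n : ℕ) : (op (n + 1) : ℕᵒᵖ) ⟶ op n := (homOfLE (n.le_add_right 1)).op

section Prod

variable (J : ℕ → A)

/-- The partial products `J 0 × ⋯ × J n`. -/
noncomputable def Iobj : ℕ → A
  | 0 => J 0
  | (n + 1) => Iobj n ⊞ J (n + 1)

/-- The projection to the last factor. -/
noncomputable def pr : ∀ n : ℕ, Iobj J n ⟶ J n
  | 0 => 𝟙 _
  | (_ + 1) => biprod.snd

/-- The projection forgetting the last factor. -/
noncomputable def fstI (n : ℕ) : Iobj J (n + 1) ⟶ Iobj J n := biprod.fst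

/-- Lifting into the next partial product. -/
noncomputable def liftI {T : A} (n : ℕ) (a : T ⟶ Iobj J n) (b : T ⟶ J (n + 1)) :
    T ⟶ Iobj J (n + 1) := biprod.lift a b

@[reassoc (attr := simp)]
lemma liftI_fstI {T : A} (n : ℕ) (a : T ⟶ Iobj J n) (b : T ⟶ J (n + 1)) :
    liftI J n a b ≫ fstI J n = a := biprod.lift_fst _ _

@[reassoc (attr := simp)]
lemma liftI_pr {T : A} (n : ℕ) (a : T ⟶ Iobj J n) (b : T ⟶ J (n + 1)) :
    liftI J n a b ≫ pr J (n + 1) = b := biprod.lift_snd _ _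

lemma extI {T : A} (n : ℕ) (x y : T ⟶ Iobj J (n + 1))
    (h1 : x ≫ fstI J n = y ≫ fstI J n) (h2 : x ≫ pr J (n + 1) = y ≫ pr J (n + 1)) : x = y :=
  biprod.hom_ext _ _ h1 h2

lemma comp_liftI {T T' : A} (f : T' ⟶ T) (n : ℕ) (a : T ⟶ Iobj J n) (b : T ⟶ J (n + 1)) :
    f ≫ liftI J n a b = liftI J n (f ≫ a) (f ≫ b) := by
  apply extI <;> simp

/-- The inverse system of partial products. -/
noncomputable def I : ℕᵒᵖ ⥤ A := Functor.ofOpSequence (X := Iobj J) (fstI J)

lemma I_map_s (n : ℕ) : (I J).map (s n) = fstI J n :=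
  Functor.ofOpSequence_map_homOfLE_succ _ n

variable {J}

/-- The components of the map to the system of partial products attached to a family of maps. -/
noncomputable def θ (G : ℕᵒᵖ ⥤ A) (g : ∀ k : ℕ, G.obj (op k) ⟶ J k) :
    ∀ n : ℕ, G.obj (op n) ⟶ Iobj J n
  | 0 => g 0
  | (n + 1) => liftI J n (G.map (s n) ≫ θ G g n) (g (n + 1))

lemma θ_pr (G : ℕᵒᵖ ⥤ A) (g : ∀ k : ℕ, G.obj (op k) ⟶ J k) (n : ℕ) :
    θ G g n ≫ pr J n = g n := by
  cases n with
  | zero => exact Category.comp_id _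
  | succ n => exact liftI_pr J n _ _

/-- The map to the system of partial products attached to a family of maps. -/
noncomputable def θNat (G : ℕᵒᵖ ⥤ A) (g : ∀ k : ℕ, G.obj (op k) ⟶ J k) : G ⟶ I J :=
  NatTrans.ofOpSequence (F := G) (G := I J) (θ G g) (fun n => by
    rw [I_map_s]
    exact (liftI_fstI J n _ _).symm)

lemma θNat_app (G : ℕᵒᵖ ⥤ A) (g : ∀ k : ℕ, G.obj (op k) ⟶ J k) (n : ℕ) :
    (θNat G g).app (op n) = θ G g n := rfl

lemma eq_θ (G : ℕᵒᵖ ⥤ A) (α : G ⟶ I J) (n : ℕ) :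
    α.app (op n) = θ G (fun k => α.app (op k) ≫ pr J k) n := by
  induction n with
  | zero => exact (Category.comp_id _).symm
  | succ n ih =>
    apply extI
    · have := α.naturality (s n)
      rw [I_map_s] at this
      refine this.symm.trans ?_
      exact (congrArg (fun x => G.map (s n) ≫ x) ih).trans (liftI_fstI J n _ _).symm
    · exact (liftI_pr J n _ _).symm

lemma comp_θ {G G' : ℕᵒᵖ ⥤ A} (ι : G ⟶ G') (g' : ∀ k : ℕ, G'.obj (op k) ⟶ J k) (n : ℕ) :
    ι.app (op n) ≫ θ G' g' n = θ G (fun k => ι.app (op k) ≫ g' k) n := by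
  induction n with
  | zero => rfl
  | succ n ih =>
    change ι.app (op (n + 1)) ≫ liftI J n (G'.map (s n) ≫ θ G' g' n) (g' (n + 1)) =
      liftI J n (G.map (s n) ≫ θ G (fun k => ι.app (op k) ≫ g' k) n)
        (ι.app (op (n + 1)) ≫ g' (n + 1))
    rw [comp_liftI, ← ih, ι.naturality_assoc]

variable (J)

lemma I_injective (hJ : ∀ k, Injective (J k)) : Injective (I J) := by
  refine ⟨fun {G G'} α ι hι => ?_⟩
  have hmono : ∀ k : ℕ, Mono (ι.app (op k)) := fun k => inferInstance
  let g' : ∀ k : ℕ, G'.obj (op k) ⟶ J k := fun k =>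
    haveI := hJ k
    Injective.factorThru (α.app (op k) ≫ pr J k) (ι.app (op k))
  have hg' : ∀ k : ℕ, ι.app (op k) ≫ g' k = α.app (op k) ≫ pr J k := fun k => by
    haveI := hJ k
    exact Injective.comp_factorThru _ _
  refine ⟨θNat G' g', ?_⟩
  ext ⟨n⟩
  refine ((comp_θ ι g' n).trans ?_).trans (eq_θ G α n).symm
  congr 1
  funext k
  exact hg' k

end Prod

theorem enoughInjectives_functor [EnoughInjectives A] : EnoughInjectives (ℕᵒᵖ ⥤ A) := by
  refine ⟨fun F => ?_⟩
  let J : ℕ → A := fun k => Injective.under (F.obj (op k))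
  let e : ∀ k : ℕ, F.obj (op k) ⟶ J k := fun k => Injective.ι _
  have : ∀ c : ℕᵒᵖ, Mono ((θNat F e).app c) := fun c => by
    obtain ⟨n⟩ := c
    rw [θNat_app]
    have h : θ F e n ≫ pr J n = e n := θ_pr F e n
    haveI : Mono (θ F e n ≫ pr J n) := by rw [h]; dsimp only [e]; infer_instance
    exact mono_of_mono (θ F e n) (pr J n)
  exact ⟨{ J := I J
           injective := I_injective J (fun k => by dsimp only [J]; infer_instance)
           f := θNat F e
           mono := NatTrans.mono_of_mono_app _ }⟩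

section Level0

open ZeroObject

/-- The sequence of objects `X, 0, 0, …`. -/
noncomputable def Z (X : A) : ℕ → A
  | 0 => X
  | (_ + 1) => 0

lemma isZero_Z (X : A) (n : ℕ) : IsZero (Z X (n + 1)) := isZero_zero A

/-- Extension by zero from level `0`. -/
noncomputable def L0 (X : A) : ℕᵒᵖ ⥤ A :=
  Functor.ofOpSequence (X := Z X) (fun n => (0 : Z X (n + 1) ⟶ Z X n))

/-- Components of the map out of the extension by zero. -/
noncomputable def L0app {X : A} {F : ℕᵒᵖ ⥤ A} (g : X ⟶ F.obj (op 0)) :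
    ∀ n : ℕ, Z X n ⟶ F.obj (op n)
  | 0 => g
  | (_ + 1) => 0

/-- The map out of the extension by zero. -/
noncomputable def L0hom {X : A} {F : ℕᵒᵖ ⥤ A} (g : X ⟶ F.obj (op 0)) : L0 X ⟶ F :=
  NatTrans.ofOpSequence (F := L0 X) (G := F) (L0app g) (fun n => (isZero_Z X n).eq_of_src _ _)

lemma L0hom_app_zero {X : A} {F : ℕᵒᵖ ⥤ A} (g : X ⟶ F.obj (op 0)) :
    (L0hom g).app (op 0) = g := rfl

lemma injective_eval_zero (J : ℕᵒᵖ ⥤ A) [Injective J] : Injective (J.obj (op 0)) := by
  refine ⟨fun {Y Y'} a i hi => ?_⟩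
  let ι : L0 Y ⟶ L0 Y' := L0hom (F := L0 Y') i
  have : ∀ c : ℕᵒᵖ, Mono (ι.app c) := fun c => by
    obtain ⟨n⟩ := c
    cases n with
    | zero => exact hi
    | succ n => exact (isZero_Z Y n).mono _
  haveI : Mono ι := NatTrans.mono_of_mono_app _
  refine ⟨(Injective.factorThru (L0hom a) ι).app (op 0), ?_⟩
  have h := congrArg (fun x => x.app (op 0)) (Injective.comp_factorThru (L0hom a) ι)
  exact h

end Level0

theorem enoughInjectives_of_functor [EnoughInjectives (ℕᵒᵖ ⥤ A)] : EnoughInjectives A := by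
  refine ⟨fun X => ?_⟩
  let J : ℕᵒᵖ ⥤ A := Injective.under (L0 X)
  have hm : Mono ((Injective.ι (L0 X)).app (op 0)) := inferInstance
  exact ⟨{ J := J.obj (op 0)
           injective := injective_eval_zero J
           f := (Injective.ι (L0 X)).app (op 0)
           mono := hm }⟩

theorem main (A : Type u) [Category.{v} A] [Abelian A] :
    EnoughInjectives (ℕᵒᵖ ⥤ A) ↔ EnoughInjectives A :=
  ⟨fun _ => enoughInjectives_of_functor, fun _ => enoughInjectives_functor⟩

end Groth.Agent.H16.SeqInj
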