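import Groth.Agent.H16.RlimInjC

/-!
# The comparison map `H^q(U, I) → H^q(I)(U)` for a K-injective complex of sheaves (helper16)
-/

set_option autoImplicit false
universe u
open CategoryTheory CategoryTheory.Limits Opposite DerivedCategory

namespace Groth.Agent.H16.ThetaA

open Groth.Agent.H30 Groth.Agent.H30.HDSheafify Groth.Agent.H16.RlimInjB Groth.Agent.H16.RlimInjC

variable {C : Type u} [SmallCategory C] {J : GrothendieckTopology C}

section cycles

variable (S : ShortComplex (Sheaf J AddCommGrpCat.{u}))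

lemma exists_cycle (W : C) (x : S.X₂.obj.obj (op W)) (hx : (S.g.hom.app (op W)).hom x = 0) :
    ∃ z : S.cycles.obj.obj (op W), (S.iCycles.hom.app (op W)).hom z = x := by
  let Γ := sheafToPresheaf J AddCommGrpCat.{u} ⋙ (evaluation Cᵒᵖ AddCommGrpCat.{u}).obj (op W)
  have hex : ((ShortComplex.mk S.iCycles S.g S.iCycles_g).map Γ).Exact :=
    (ShortComplex.exact_of_f_is_kernel _ S.cyclesIsKernel).map_of_mono_of_preservesKernel Γ
      (inferInstanceAs (Mono S.iCycles)) inferInstance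
  exact (ShortComplex.ab_exact_iff _).1 hex x hx

/-- the cycle section attached to a section killed by `g`. -/
noncomputable def cyc (W : C) (x : S.X₂.obj.obj (op W)) (hx : (S.g.hom.app (op W)).hom x = 0) :
    S.cycles.obj.obj (op W) := Classical.choose (exists_cycle S W x hx)

lemma iCycles_cyc (W : C) (x : S.X₂.obj.obj (op W)) (hx : (S.g.hom.app (op W)).hom x = 0) :
    (S.iCycles.hom.app (op W)).hom (cyc S W x hx) = x :=
  Classical.choose_spec (exists_cycle S W x hx)

lemma cyc_eq (W : C) (x : S.X₂.obj.obj (op W)) (hx : (S.g.hom.app (op W)).hom x = 0)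
    (z : S.cycles.obj.obj (op W)) (hz : (S.iCycles.hom.app (op W)).hom z = x) :
    cyc S W x hx = z :=
  injective_of_mono J S.iCycles W ((iCycles_cyc S W x hx).trans hz.symm)

/-- the class of a section killed by `g`. -/
noncomputable def cl (W : C) (x : S.X₂.obj.obj (op W)) (hx : (S.g.hom.app (op W)).hom x = 0) :
    S.homology.obj.obj (op W) := (S.homologyπ.hom.app (op W)).hom (cyc S W x hx)

lemma cl_eq (W : C) (x : S.X₂.obj.obj (op W)) (hx : (S.g.hom.app (op W)).hom x = 0)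
    (z : S.cycles.obj.obj (op W)) (hz : (S.iCycles.hom.app (op W)).hom z = x) :
    cl S W x hx = (S.homologyπ.hom.app (op W)).hom z := by
  rw [cl, cyc_eq S W x hx z hz]

lemma cl_add (W : C) (x y : S.X₂.obj.obj (op W)) (hx : (S.g.hom.app (op W)).hom x = 0)
    (hy : (S.g.hom.app (op W)).hom y = 0) (hxy : (S.g.hom.app (op W)).hom (x + y) = 0) :
    cl S W (x + y) hxy = cl S W x hx + cl S W y hy := by
  rw [cl_eq S W (x + y) hxy (cyc S W x hx + cyc S W y hy) (by
    rw [map_add, iCycles_cyc, iCycles_cyc]), map_add]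
  rfl

lemma cl_eq_zero_of_boundary (W : C) (x : S.X₂.obj.obj (op W))
    (hx : (S.g.hom.app (op W)).hom x = 0) (b : S.X₁.obj.obj (op W))
    (hb : (S.f.hom.app (op W)).hom b = x) : cl S W x hx = 0 :=
  homologyπ_eq_zero_of_boundary S W (cyc S W x hx) b (hb.trans (iCycles_cyc S W x hx).symm)

lemma cl_res {W W' : C} (g : W' ⟶ W) (x : S.X₂.obj.obj (op W))
    (hx : (S.g.hom.app (op W)).hom x = 0)
    (hx' : (S.g.hom.app (op W')).hom ((S.X₂.obj.map g.op).hom x) = 0) :
    cl S W' ((S.X₂.obj.map g.op).hom x) hx' = (S.homology.obj.map g.op).hom (cl S W x hx) := by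
  rw [cl_eq S W' _ hx' ((S.cycles.obj.map g.op).hom (cyc S W x hx)) (by
    rw [res_comm, iCycles_cyc]), res_comm]
  rfl

lemma cl_map {S' : ShortComplex (Sheaf J AddCommGrpCat.{u})} (Φ : S ⟶ S') (W : C)
    (x : S.X₂.obj.obj (op W)) (hx : (S.g.hom.app (op W)).hom x = 0)
    (hx' : (S'.g.hom.app (op W)).hom ((Φ.τ₂.hom.app (op W)).hom x) = 0) :
    cl S' W ((Φ.τ₂.hom.app (op W)).hom x) hx' =
      ((ShortComplex.homologyMap Φ).hom.app (op W)).hom (cl S W x hx) := by
  rw [cl_eq S' W _ hx' (((ShortComplex.cyclesMap Φ).hom.app (op W)).hom (cyc S W x hx)) (by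
    rw [← RlimInjB.comp_apply' J, ShortComplex.cyclesMap_i, RlimInjB.comp_apply' J, iCycles_cyc])]
  rw [← RlimInjB.comp_apply' J, ← ShortComplex.homologyπ_naturality, RlimInjB.comp_apply' J]
  rfl

end cycles

section theta

variable [HasDerivedCategory.{u} (Sheaf J AddCommGrpCat.{u})]
  (I : CochainComplex (Sheaf J AddCommGrpCat.{u}) ℤ) (q : ℤ)

/-- the class in the homology sheaf of a cycle, as an additive map. -/
noncomputable def clK (X : Cᵒᵖ) : ((T I q).g.app X).hom.ker →+ (I.sc q).homology.obj.obj X where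
  toFun x := cl (I.sc q) X.unop x.1 x.2
  map_zero' := cl_eq_zero_of_boundary (I.sc q) X.unop _ _ 0 (map_zero _)
  map_add' x y := cl_add (I.sc q) X.unop x.1 y.1 x.2 y.2 (x + y).2

lemma clK_eq_zero_of_boundary (X : Cᵒᵖ) (x : ((T I q).g.app X).hom.ker)
    (h : ∃ b, ((T I q).f.app X).hom b = x.1) : clK I q X x = 0 := by
  obtain ⟨b, hb⟩ := h
  exact cl_eq_zero_of_boundary (I.sc q) X.unop x.1 x.2 b hb

variable [I.IsKInjective]

/-- the comparison map `H^q(X, I) → H^q(I)(X)`. -/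
noncomputable def thetaFun (X : Cᵒᵖ) (y : HDUobj I q X) : (I.sc q).homology.obj.obj X :=
  clK I q X (Classical.choose (c_surjective I q X y))

lemma thetaFun_c (X : Cᵒᵖ) (x : ((T I q).g.app X).hom.ker) :
    thetaFun I q X (c I q X x) = clK I q X x := by
  have h1 : c I q X (Classical.choose (c_surjective I q X (c I q X x))) = c I q X x :=
    Classical.choose_spec (c_surjective I q X (c I q X x))
  have h2 : c I q X (Classical.choose (c_surjective I q X (c I q X x)) - x) = 0 := by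
    rw [map_sub, h1, sub_self]
  have h3 := clK_eq_zero_of_boundary I q X _ ((c_eq_zero_iff I q X _).1 h2)
  rw [map_sub] at h3
  exact sub_eq_zero.1 h3

lemma thetaFun_add (X : Cᵒᵖ) (y y' : HDUobj I q X) :
    thetaFun I q X (y + y') = thetaFun I q X y + thetaFun I q X y' := by
  obtain ⟨x, rfl⟩ := c_surjective I q X y
  obtain ⟨x', rfl⟩ := c_surjective I q X y'
  rw [← map_add, thetaFun_c, thetaFun_c, thetaFun_c, map_add]

lemma thetaFun_res {X Y : Cᵒᵖ} (f : X ⟶ Y) (y : HDUobj I q X) :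
    thetaFun I q Y (((CohCx.HDUPresheaf (Q.obj I) q).map f).hom y) =
      ((I.sc q).homology.obj.map f).hom (thetaFun I q X y) := by
  obtain ⟨x, rfl⟩ := c_surjective I q X y
  rw [c_nat, thetaFun_c, thetaFun_c]
  exact cl_res (I.sc q) f.unop x.1 x.2 _

lemma thetaFun_postcomp {I' : CochainComplex (Sheaf J AddCommGrpCat.{u}) ℤ} [I'.IsKInjective]
    (φ : I ⟶ I') (X : Cᵒᵖ) (y : HDUobj I q X) :
    thetaFun I' q X (y ≫ (Q.map φ)⟦q⟧') =
      ((ShortComplex.homologyMap ((HomologicalComplex.shortComplexFunctor _ _ q).map φ)).hom.app X).hom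
        (thetaFun I q X y) := by
  obtain ⟨x, rfl⟩ := c_surjective I q X y
  rw [← c_postcomp, thetaFun_c, thetaFun_c]
  exact cl_map (I.sc q) ((HomologicalComplex.shortComplexFunctor _ _ q).map φ) X.unop x.1 x.2 _

/-- local surjectivity. -/
lemma thetaFun_locally_surjective (V : C) (s : (I.sc q).homology.obj.obj (op V)) :
    ∃ R : Sieve V, R ∈ J V ∧ ∀ ⦃W : C⦄ (f : W ⟶ V), R.arrows f →
      ∃ y : HDUobj I q (op W), thetaFun I q (op W) y = ((I.sc q).homology.obj.map f.op).hom s := by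
  obtain ⟨R, hR, h⟩ := homology_local_cycles (I.sc q) V s
  refine ⟨R, hR, fun W f hf => ?_⟩
  obtain ⟨z, hz⟩ := h f hf
  let x : ((T I q).g.app (op W)).hom.ker :=
    ⟨((I.sc q).iCycles.hom.app (op W)).hom z, iCycles_g_apply (I.sc q) W z⟩
  refine ⟨c I q (op W) x, ?_⟩
  rw [thetaFun_c, ← hz]
  exact cl_eq (I.sc q) W x.1 x.2 z rfl

/-- local injectivity. -/
lemma thetaFun_locally_injective (W : C) (y : HDUobj I q (op W)) (hy : thetaFun I q (op W) y = 0) :
    ∃ R : Sieve W, R ∈ J W ∧ ∀ ⦃W' : C⦄ (g : W' ⟶ W), R.arrows g →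
      ((CohCx.HDUPresheaf (Q.obj I) q).map g.op).hom y = 0 := by
  obtain ⟨x, rfl⟩ := c_surjective I q (op W) y
  rw [thetaFun_c] at hy
  have hy' : ((I.sc q).homologyπ.hom.app (op W)).hom (cyc (I.sc q) W x.1 x.2) = 0 := hy
  obtain ⟨R, hR, h⟩ := cycles_local_boundary (I.sc q) W _ hy'
  refine ⟨R, hR, fun W' g hg => ?_⟩
  obtain ⟨b, hb⟩ := h g hg
  rw [c_nat]
  refine (c_eq_zero_iff I q (op W') _).2 ⟨b, hb.trans ?_⟩
  rw [iCycles_cyc]
  rfl

end theta

end Groth.Agent.H16.ThetaA
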