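import Groth.Agent.H16.ThetaA

/-!
# The comparison map `θ : H^q(U, K) → H^q(K)(U)` for objects of the derived category of sheaves (helper16)
-/

set_option autoImplicit false
universe u
open CategoryTheory CategoryTheory.Limits Opposite DerivedCategory

namespace Groth.Agent.H16.ThetaB

open Groth.Agent.H30 Groth.Agent.H30.HDSheafify Groth.Agent.H16.RlimInjB Groth.Agent.H16.RlimInjC
  Groth.Agent.H16.ThetaA

variable {C : Type u} [SmallCategory C] {J : GrothendieckTopology C}
  [HasDerivedCategory.{u} (Sheaf J AddCommGrpCat.{u})]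

section aux

variable {T : Type*} [Category T] (F : T ⥤ T)

lemma aux_hom_inv {Z X Y : T} (e : X ≅ Y) (y : Z ⟶ F.obj X) :
    (y ≫ F.map e.hom) ≫ F.map e.inv = y := by
  rw [Category.assoc, ← F.map_comp, e.hom_inv_id, F.map_id, Category.comp_id]

lemma aux_inv_hom {Z X Y : T} (e : X ≅ Y) (y : Z ⟶ F.obj Y) :
    (y ≫ F.map e.inv) ≫ F.map e.hom = y := by
  rw [Category.assoc, ← F.map_comp, e.inv_hom_id, F.map_id, Category.comp_id]

lemma aux_sq {Z X X' Y Y' : T} (y : Z ⟶ F.obj X) (ψ : X ⟶ X') (a : X ⟶ Y) (a' : X' ⟶ Y')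
    (φ : Y ⟶ Y') (h : ψ ≫ a' = a ≫ φ) :
    (y ≫ F.map ψ) ≫ F.map a' = (y ≫ F.map a) ≫ F.map φ := by
  rw [Category.assoc, Category.assoc, ← F.map_comp, ← F.map_comp, h]

end aux

/-- A K-injective model of an object of the derived category. -/
structure Model (K : DerivedCategory (Sheaf J AddCommGrpCat.{u})) where
  I : CochainComplex (Sheaf J AddCommGrpCat.{u}) ℤ
  hI : I.IsKInjective
  e : K ≅ Q.obj I

instance {K : DerivedCategory (Sheaf J AddCommGrpCat.{u})} (M : Model K) : M.I.IsKInjective := M.hI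

lemma nonempty_model (K : DerivedCategory (Sheaf J AddCommGrpCat.{u})) : Nonempty (Model K) := by
  obtain ⟨I, f, hI, hf, -, -⟩ := H33.KInj.exists_kInjective_resolution (Q.objPreimage K)
  have : IsIso (Q.map f) :=
    (DerivedCategory.isIso_Q_map_iff_quasiIso (C := Sheaf J AddCommGrpCat.{u}) f).2 hf
  exact ⟨⟨I, hI, (Q.objObjPreimageIso K).symm ≪≫ asIso (Q.map f)⟩⟩

/-- a chosen model. -/
noncomputable def model (K : DerivedCategory (Sheaf J AddCommGrpCat.{u})) : Model K :=
  Classical.choice (nonempty_model K)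

variable {K K' : DerivedCategory (Sheaf J AddCommGrpCat.{u})}

/-- the cohomology sheaf computed on a model. -/
noncomputable def Model.α (M : Model K) (q : ℤ) : CohCx.HD K q ≅ (M.I.sc q).homology :=
  (DerivedCategory.homologyFunctor (Sheaf J AddCommGrpCat.{u}) q).mapIso M.e ≪≫
    (DerivedCategory.homologyFunctorFactors (Sheaf J AddCommGrpCat.{u}) q).app M.I

/-- transport of a class to the model. -/
noncomputable def toModel (M : Model K) (q : ℤ) (U : C) (y : CohCx.HDU K q U) : HDUobj M.I q (op U) :=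
  y ≫ (M.e.hom)⟦q⟧'

/-- transport of a class from the model. -/
noncomputable def fromModel (M : Model K) (q : ℤ) (U : C) (y : HDUobj M.I q (op U)) : CohCx.HDU K q U :=
  y ≫ (M.e.inv)⟦q⟧'

lemma toModel_fromModel (M : Model K) (q : ℤ) (U : C) (y : HDUobj M.I q (op U)) :
    toModel M q U (fromModel M q U y) = y :=
  aux_inv_hom (shiftFunctor (DerivedCategory (Sheaf J AddCommGrpCat.{u})) q) M.e y

lemma fromModel_toModel (M : Model K) (q : ℤ) (U : C) (y : CohCx.HDU K q U) :
    fromModel M q U (toModel M q U y) = y :=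
  aux_hom_inv (shiftFunctor (DerivedCategory (Sheaf J AddCommGrpCat.{u})) q) M.e y

lemma toModel_add (M : Model K) (q : ℤ) (U : C) (y y' : CohCx.HDU K q U) :
    toModel M q U (y + y') = toModel M q U y + toModel M q U y' :=
  Preadditive.add_comp _ _ _ _ _ _

lemma toModel_res (M : Model K) (q : ℤ) {U V : C} (f : V ⟶ U) (y : CohCx.HDU K q U) :
    toModel M q V (CohCx.HDUres K q f y) =
      ((CohCx.HDUPresheaf (Q.obj M.I) q).map f.op).hom (toModel M q U y) :=
  Category.assoc _ _ _

lemma fromModel_res (M : Model K) (q : ℤ) {U V : C} (f : V ⟶ U) (y : HDUobj M.I q (op U)) :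
    fromModel M q V (((CohCx.HDUPresheaf (Q.obj M.I) q).map f.op).hom y) =
      CohCx.HDUres K q f (fromModel M q U y) :=
  Category.assoc _ _ _

lemma fromModel_zero (M : Model K) (q : ℤ) (U : C) : fromModel M q U 0 = 0 := zero_comp

lemma toModel_comp (M : Model K) (M' : Model K') (ψ : K ⟶ K') (q : ℤ) (U : C) (φ : M.I ⟶ M'.I)
    (hφ : Q.map φ = M.e.inv ≫ ψ ≫ M'.e.hom) (y : CohCx.HDU K q U) :
    toModel M' q U (y ≫ ψ⟦q⟧') = toModel M q U y ≫ (Q.map φ)⟦q⟧' := by
  have h1 : ψ ≫ M'.e.hom = M.e.hom ≫ Q.map φ := by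
    rw [hφ, Iso.hom_inv_id_assoc]
  exact aux_sq (shiftFunctor (DerivedCategory (Sheaf J AddCommGrpCat.{u})) q) y ψ M.e.hom M'.e.hom
    (Q.map φ) h1

/-- the comparison map relative to a model. -/
noncomputable def thetaM (M : Model K) (q : ℤ) (U : C) (y : CohCx.HDU K q U) :
    (CohCx.HD K q).obj.obj (op U) :=
  ((M.α q).inv.hom.app (op U)).hom (thetaFun M.I q (op U) (toModel M q U y))

lemma α_naturality (M : Model K) (M' : Model K') (ψ : K ⟶ K') (q : ℤ) (φ : M.I ⟶ M'.I)
    (hφ : Q.map φ = M.e.inv ≫ ψ ≫ M'.e.hom) :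
    (DerivedCategory.homologyFunctor (Sheaf J AddCommGrpCat.{u}) q).map ψ ≫ (M'.α q).hom =
      (M.α q).hom ≫ ShortComplex.homologyMap ((HomologicalComplex.shortComplexFunctor _ _ q).map φ) := by
  let H := DerivedCategory.homologyFunctor (Sheaf J AddCommGrpCat.{u}) q
  have h1 : ψ ≫ M'.e.hom = M.e.hom ≫ Q.map φ := by
    rw [hφ, Iso.hom_inv_id_assoc]
  have h2 := (DerivedCategory.homologyFunctorFactors (Sheaf J AddCommGrpCat.{u}) q).hom.naturality φ
  change H.map ψ ≫ H.map M'.e.hom ≫ _ = (H.map M.e.hom ≫ _) ≫ _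
  rw [← Category.assoc, ← Functor.map_comp, h1, Functor.map_comp, Category.assoc, Category.assoc]
  congr 1

/-- naturality of the comparison map (between arbitrary models). -/
theorem thetaM_naturality (M : Model K) (M' : Model K') (ψ : K ⟶ K') (q : ℤ) (U : C)
    (y : CohCx.HDU K q U) :
    thetaM M' q U (y ≫ ψ⟦q⟧') =
      (((DerivedCategory.homologyFunctor (Sheaf J AddCommGrpCat.{u}) q).map ψ).hom.app (op U)).hom
        (thetaM M q U y) := by
  obtain ⟨φ, hφ⟩ := exists_Q_map_eq M.I M'.I (M.e.inv ≫ ψ ≫ M'.e.hom)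
  have hnat := α_naturality M M' ψ q φ hφ
  have hnat' : (M.α q).inv ≫ (DerivedCategory.homologyFunctor (Sheaf J AddCommGrpCat.{u}) q).map ψ =
      ShortComplex.homologyMap ((HomologicalComplex.shortComplexFunctor _ _ q).map φ) ≫
        (M'.α q).inv := by
    rw [Iso.inv_comp_eq, ← Category.assoc, ← hnat, Category.assoc, Iso.hom_inv_id, Category.comp_id]
  have e1 : thetaFun M'.I q (op U) (toModel M' q U (y ≫ ψ⟦q⟧')) =
      thetaFun M'.I q (op U) (toModel M q U y ≫ (Q.map φ)⟦q⟧') :=
    congrArg (thetaFun M'.I q (op U)) (toModel_comp M M' ψ q U φ hφ y)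
  have e2 := thetaFun_postcomp M.I q φ (op U) (toModel M q U y)
  have e3 := congrArg (fun s => ((M'.α q).inv.hom.app (op U)).hom s) (e1.trans e2)
  refine e3.trans ?_
  change (((ShortComplex.homologyMap ((HomologicalComplex.shortComplexFunctor _ _ q).map φ)) ≫
    (M'.α q).inv).hom.app (op U)).hom _ = _
  rw [← hnat']
  rfl

/-- the comparison map `H^q(U, K) → H^q(K)(U)`. -/
noncomputable def theta (K : DerivedCategory (Sheaf J AddCommGrpCat.{u})) (q : ℤ) (U : C)
    (y : CohCx.HDU K q U) : (CohCx.HD K q).obj.obj (op U) :=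
  thetaM (model K) q U y

theorem theta_naturality (ψ : K ⟶ K') (q : ℤ) (U : C) (y : CohCx.HDU K q U) :
    theta K' q U (y ≫ ψ⟦q⟧') =
      (((DerivedCategory.homologyFunctor (Sheaf J AddCommGrpCat.{u}) q).map ψ).hom.app (op U)).hom
        (theta K q U y) :=
  thetaM_naturality (model K) (model K') ψ q U y

/-- independence of the model. -/
theorem theta_eq_thetaM (M : Model K) (q : ℤ) (U : C) (y : CohCx.HDU K q U) :
    theta K q U y = thetaM M q U y := by
  have h := thetaM_naturality M (model K) (𝟙 K) q U y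
  have h1 : y ≫ (𝟙 K)⟦q⟧' = y := by
    rw [CategoryTheory.Functor.map_id]
    exact Category.comp_id y
  rw [h1] at h
  refine h.trans ?_
  rw [CategoryTheory.Functor.map_id]
  rfl

lemma thetaM_add (M : Model K) (q : ℤ) (U : C) (y y' : CohCx.HDU K q U) :
    thetaM M q U (y + y') = thetaM M q U y + thetaM M q U y' := by
  dsimp only [thetaM]
  rw [toModel_add, thetaFun_add, map_add]

lemma theta_add (q : ℤ) (U : C) (y y' : CohCx.HDU K q U) :
    theta K q U (y + y') = theta K q U y + theta K q U y' :=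
  thetaM_add (model K) q U y y'

/-- `θ` as an additive map. -/
noncomputable def thetaHom (K : DerivedCategory (Sheaf J AddCommGrpCat.{u})) (q : ℤ) (U : C) :
    CohCx.HDU K q U →+ (CohCx.HD K q).obj.obj (op U) :=
  AddMonoidHom.mk' (theta K q U) (theta_add q U)

lemma thetaM_res (M : Model K) (q : ℤ) {U V : C} (f : V ⟶ U) (y : CohCx.HDU K q U) :
    thetaM M q V (CohCx.HDUres K q f y) = ((CohCx.HD K q).obj.map f.op).hom (thetaM M q U y) := by
  dsimp only [thetaM]
  rw [toModel_res, thetaFun_res, RlimInjB.res_comm J]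

lemma theta_res (q : ℤ) {U V : C} (f : V ⟶ U) (y : CohCx.HDU K q U) :
    theta K q V (CohCx.HDUres K q f y) = ((CohCx.HD K q).obj.map f.op).hom (theta K q U y) :=
  thetaM_res (model K) q f y

/-- every section of `H^q(K)` is locally in the image of `θ`. -/
theorem theta_locally_surjective (K : DerivedCategory (Sheaf J AddCommGrpCat.{u})) (q : ℤ) (V : C)
    (s : (CohCx.HD K q).obj.obj (op V)) :
    ∃ R : Sieve V, R ∈ J V ∧ ∀ ⦃W : C⦄ (f : W ⟶ V), R.arrows f →
      ∃ y : CohCx.HDU K q W, theta K q W y = ((CohCx.HD K q).obj.map f.op).hom s := by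
  let M := model K
  obtain ⟨R, hR, h⟩ := thetaFun_locally_surjective M.I q V (((M.α q).hom.hom.app (op V)).hom s)
  refine ⟨R, hR, fun W f hf => ?_⟩
  obtain ⟨y', hy'⟩ := h f hf
  refine ⟨fromModel M q W y', ?_⟩
  change ((M.α q).inv.hom.app (op W)).hom (thetaFun M.I q (op W) (toModel M q W (fromModel M q W y'))) = _
  rw [toModel_fromModel, hy', ← RlimInjB.res_comm J, ← RlimInjB.comp_apply' J, Iso.hom_inv_id]
  rfl

/-- a class killed by `θ` vanishes locally. -/
theorem theta_locally_injective (K : DerivedCategory (Sheaf J AddCommGrpCat.{u})) (q : ℤ) (W : C)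
    (y : CohCx.HDU K q W) (hy : theta K q W y = 0) :
    ∃ R : Sieve W, R ∈ J W ∧ ∀ ⦃W' : C⦄ (g : W' ⟶ W), R.arrows g → CohCx.HDUres K q g y = 0 := by
  let M := model K
  have h0 : thetaFun M.I q (op W) (toModel M q W y) = 0 := by
    apply (RlimInjB.bijective_of_isIso J (M.α q).inv W).1
    rw [map_zero]
    exact hy
  obtain ⟨R, hR, h⟩ := thetaFun_locally_injective M.I q W _ h0
  refine ⟨R, hR, fun W' g hg => ?_⟩
  have h1 := h g hg
  rw [← fromModel_toModel M q W' (CohCx.HDUres K q g y), toModel_res, h1]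
  exact fromModel_zero M q W'

end Groth.Agent.H16.ThetaB
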