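import Groth.Agent.H16.ThetaB
import Groth.Agent.H16.HyperAcyclicC

/-!
# Bijectivity of the comparison map `θ : H^q(U, K) → H^q(K)(U)` on acyclic objects (helper16)
-/

set_option autoImplicit false
universe u
open CategoryTheory CategoryTheory.Limits Opposite DerivedCategory

namespace Groth.Agent.H16.ThetaC

open Groth.Agent.H30 Groth.Agent.H30.HDSheafify Groth.Agent.H16.RlimInjB Groth.Agent.H16.RlimInjC
  Groth.Agent.H16.ThetaA Groth.Agent.H16.ThetaB

variable {C : Type u} [SmallCategory C] {J : GrothendieckTopology C}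
  [HasDerivedCategory.{u} (Sheaf J AddCommGrpCat.{u})]

/-- bijectivity of the chain-level comparison map when `I^{q-1} = 0`. -/
lemma thetaFun_bijective_of_isZero (I : CochainComplex (Sheaf J AddCommGrpCat.{u}) ℤ) [I.IsKInjective]
    (q : ℤ) (hz : IsZero (I.X ((ComplexShape.up ℤ).prev q))) (U : C) :
    Function.Bijective (thetaFun I q (op U)) := by
  have hf : (I.sc q).f = 0 := hz.eq_of_src _ _
  have hiso : IsIso (I.sc q).homologyπ := ShortComplex.isIso_homologyπ _ hf
  have hπ := RlimInjB.bijective_of_isIso J (I.sc q).homologyπ U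
  constructor
  · intro y y' hyy'
    obtain ⟨x, rfl⟩ := c_surjective I q (op U) y
    obtain ⟨x', rfl⟩ := c_surjective I q (op U) y'
    rw [thetaFun_c, thetaFun_c] at hyy'
    have h1 : cyc (I.sc q) U x.1 x.2 = cyc (I.sc q) U x'.1 x'.2 := hπ.1 hyy'
    have h2 : x.1 = x'.1 := by
      rw [← iCycles_cyc (I.sc q) U x.1 x.2, ← iCycles_cyc (I.sc q) U x'.1 x'.2, h1]
    rw [Subtype.ext h2]
  · intro s
    obtain ⟨z, rfl⟩ := hπ.2 s
    let x : ((T I q).g.app (op U)).hom.ker :=
      ⟨((I.sc q).iCycles.hom.app (op U)).hom z, iCycles_g_apply (I.sc q) U z⟩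
    refine ⟨c I q (op U) x, ?_⟩
    rw [thetaFun_c]
    exact cl_eq (I.sc q) U x.1 x.2 z rfl

lemma thetaM_bijective_iff (K : DerivedCategory (Sheaf J AddCommGrpCat.{u})) (M : Model K) (q : ℤ)
    (U : C) (h : Function.Bijective (thetaFun M.I q (op U))) : Function.Bijective (theta K q U) := by
  have hα := RlimInjB.bijective_of_isIso J (M.α q).inv U
  constructor
  · intro y y' hyy'
    rw [theta_eq_thetaM M, theta_eq_thetaM M] at hyy'
    have h1 := h.1 (hα.1 hyy')
    rw [← fromModel_toModel M q U y, h1, fromModel_toModel]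
  · intro s
    obtain ⟨s', rfl⟩ := hα.2 s
    obtain ⟨y', rfl⟩ := h.2 s'
    refine ⟨fromModel M q U y', ?_⟩
    rw [theta_eq_thetaM M]
    dsimp only [thetaM]
    rw [toModel_fromModel]

/-- `θ` is bijective in the lowest degree. -/
theorem theta_bijective_of_isGE (K : DerivedCategory (Sheaf J AddCommGrpCat.{u})) (q : ℤ) [K.IsGE q]
    (U : C) : Function.Bijective (theta K q U) := by
  obtain ⟨N, hN, ⟨e2⟩⟩ := DerivedCategory.exists_iso_Q_obj_of_isGE K q
  obtain ⟨I', ι, hι, hI', hI'0⟩ :=
    CochainComplex.Plus.modelCategoryQuillen.exists_quasiIso_injective N q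
  have hK' : I'.IsKInjective := CochainComplex.isKInjective_of_injective I' q
  have : IsIso (Q.map ι) :=
    (DerivedCategory.isIso_Q_map_iff_quasiIso (C := Sheaf J AddCommGrpCat.{u}) ι).2 hι
  let M : Model K := ⟨I', hK', e2 ≪≫ asIso (Q.map ι)⟩
  refine thetaM_bijective_iff K M q U ?_
  exact thetaFun_bijective_of_isZero I' q
    (CochainComplex.isZero_of_isStrictlyGE I' q _ (by simp)) U

/-- transfer of bijectivity along a morphism inducing bijections on `H^q(U, -)` and on `H^q`. -/
theorem theta_bijective_transfer {K K' : DerivedCategory (Sheaf J AddCommGrpCat.{u})} (ψ : K ⟶ K')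
    (q : ℤ) (U : C) (h1 : Function.Bijective (fun y : CohCx.HDU K q U => y ≫ ψ⟦q⟧'))
    (h2 : IsIso ((DerivedCategory.homologyFunctor (Sheaf J AddCommGrpCat.{u}) q).map ψ))
    (h3 : Function.Bijective (theta K' q U)) : Function.Bijective (theta K q U) := by
  have hH := RlimInjB.bijective_of_isIso J
    ((DerivedCategory.homologyFunctor (Sheaf J AddCommGrpCat.{u}) q).map ψ) U
  constructor
  · intro y y' hyy'
    apply h1.1
    apply h3.1
    change theta K' q U (y ≫ ψ⟦q⟧') = theta K' q U (y' ≫ ψ⟦q⟧')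
    rw [theta_naturality, theta_naturality, hyy']
  · intro s
    obtain ⟨y'', hy''⟩ := h3.2 ((((DerivedCategory.homologyFunctor
      (Sheaf J AddCommGrpCat.{u}) q).map ψ).hom.app (op U)).hom s)
    obtain ⟨y, rfl⟩ := h1.2 y''
    refine ⟨y, hH.1 ?_⟩
    rw [← theta_naturality]
    exact hy''

section main

open Groth.Agent.H16.HyperAcyclicA Groth.Agent.H16.HyperAcyclicB

variable (K : DerivedCategory (Sheaf J AddCommGrpCat.{u})) (B : Set C)
  (hB : ∀ U : C, ∃ (ι : Type u) (Y : ι → C) (f : ∀ i, Y i ⟶ U), Sieve.ofArrows Y f ∈ J U ∧ ∀ i, Y i ∈ B)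
  (h : ∀ U ∈ B, ∀ (p : ℕ) (q : ℤ), Subsingleton (CohSite.HU (CohCx.HD K q) (p + 1) U))

include hB h in
/-- under the acyclicity hypotheses, `K` is the derived limit of its truncations. -/
theorem isRlimVia_of_acyclic [HasProduct (CohCx.truncTower K)] :
    CohCx.IsRlimVia (CohCx.truncTower K) (CohCx.truncTowerMap K) K (CohCx.toTruncTower K) := by
  refine Groth.Agent.S0881.result K B hB ?_
  intro V _
  refine ⟨fun _ => 0, fun R hR => ?_⟩
  choose ιB YB fB hcovB hYB using hB
  let ι : Type u := Σ (W : C), Σ (_ : {g : W ⟶ V // R.arrows g}), ιB W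
  let Y : ι → C := fun i => YB i.1 i.2.2
  let f : ∀ i : ι, Y i ⟶ V := fun i => fB i.1 i.2.2 ≫ i.2.1.1
  refine ⟨ι, Y, f, fun i => R.downward_closed i.2.1.2 _, ?_, ?_⟩
  · have h1 : Sieve.bind R.arrows (fun W _ _ => Sieve.ofArrows (YB W) (fB W)) ∈ J V :=
      J.bind_covering hR (fun W _ _ => hcovB W)
    refine J.superset_covering ?_ h1
    rintro Z _ ⟨W, g', g, hg, hg', rfl⟩
    obtain ⟨j, a, rfl⟩ := (Sieve.mem_ofArrows_iff _ _ _).1 hg'
    exact (Sieve.mem_ofArrows_iff Y f _).2 ⟨⟨W, ⟨g, hg⟩, j⟩, a, Category.assoc _ _ _⟩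
  · intro i m k hk
    obtain ⟨p', rfl⟩ : ∃ p', k = p' + 1 := ⟨k - 1, by
      have : (0 : ℤ) < (k : ℤ) := hk
      omega⟩
    exact h (Y i) (hYB i.1 i.2.2) p' _

include h in
lemma theta_bijective_truncGE (U : C) (hU : U ∈ B) (q : ℤ) (d : ℕ) : ∀ a : ℤ, a + d = q →
    Function.Bijective (theta ((TStructure.t.truncGE a).obj K) q U) := by
  induction d with
  | zero =>
    intro a ha
    obtain rfl : a = q := by simpa using ha
    exact theta_bijective_of_isGE _ a U
  | succ d ih =>
    intro a ha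
    refine theta_bijective_transfer ((TStructure.t.natTransTruncGEOfLE a (a + 1) (by omega)).app K) q U
      (bijective_natTrans K U (h U hU) a q (by push_cast at ha; omega))
      (RlimTruncA.isIso_homologyMap_natTransTruncGEOfLE K a (a + 1) (by omega) q
        (by push_cast at ha; omega))
      (ih (a + 1) (by push_cast at ha; omega))

include hB h in
/-- **Bijectivity of `θ`** on members of `B`. -/
theorem theta_bijective (U : C) (hU : U ∈ B) (q : ℤ) : Function.Bijective (theta K q U) := by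
  haveI : HasProduct (CohCx.truncTower K) := hasProduct_nat _
  have hR := isRlimVia_of_acyclic K B hB h
  let N := (-q).toNat
  refine theta_bijective_transfer (CohCx.toTruncTower K N) q U
    (bijective_toTruncTower K U (h U hU) hR q N (by omega))
    (RlimTruncA.isIso_homologyMap_toTruncTower K N q (by omega))
    (theta_bijective_truncGE K B h U hU q (q + N).toNat (-(N : ℤ)) (by omega))

end main

end Groth.Agent.H16.ThetaC
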