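import Mathlib.Algebra.Homology.DerivedCategory.TStructure
import Mathlib.Algebra.Homology.DerivedCategory.Fractions
import Mathlib.Algebra.Homology.DerivedCategory.HomologySequence
import Mathlib.CategoryTheory.Triangulated.TStructure.TruncLTGE
import Mathlib.CategoryTheory.ComposableArrows.Basic

/-!
# Chains of morphisms in the derived category that vanish on low cohomology
-/

set_option autoImplicit false

universe w v u

open CategoryTheory Category Limits Pretriangulated DerivedCategory

namespace Groth.Agent.H16.TruncChain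

variable {C : Type u} [Category.{v} C] [Abelian C]

lemma hom_eq_zero_of_homologyMap_eq_zero (K L : CochainComplex C ℤ) (n : ℤ)
    [K.IsStrictlyLE n] [L.IsStrictlyGE n] (g : K ⟶ L)
    (hg : HomologicalComplex.homologyMap g n = 0) : g = 0 := by
  ext i
  by_cases hi : i = n
  · subst hi
    haveI : IsIso (K.iCycles i) := K.isIso_iCycles i (i + 1) (by simp)
      ((K.isZero_of_isStrictlyLE i (i + 1) (by omega)).eq_of_tgt _ _)
    haveI : IsIso (L.homologyπ i) := L.isIso_homologyπ (i - 1) i (by simp)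
      ((L.isZero_of_isStrictlyGE i (i - 1) (by omega)).eq_of_src _ _)
    have h1 : HomologicalComplex.cyclesMap g i = 0 := by
      rw [← cancel_mono (L.homologyπ i), zero_comp, ← HomologicalComplex.homologyπ_naturality, hg,
        comp_zero]
    have h2 := HomologicalComplex.cyclesMap_i g i
    rw [h1, zero_comp] at h2
    rw [← cancel_epi (K.iCycles i), ← h2]
    exact comp_zero.symm
  · rcases lt_or_gt_of_ne hi with h | h
    · exact (L.isZero_of_isStrictlyGE n i h).eq_of_tgt _ _
    · exact (K.isZero_of_isStrictlyLE n i h).eq_of_src _ _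

variable [HasDerivedCategory.{w} C]

lemma hom_eq_zero_of_homology_map_eq_zero (X Z : DerivedCategory C) (n : ℤ) [X.IsLE n] [Z.IsGE n]
    (v : X ⟶ Z) (hv : (homologyFunctor C n).map v = 0) : v = 0 := by
  obtain ⟨K, _, ⟨eX⟩⟩ := exists_iso_Q_obj_of_isLE X n
  obtain ⟨L, _, ⟨eZ⟩⟩ := exists_iso_Q_obj_of_isGE Z n
  obtain ⟨L', _, g, s, hs, fac⟩ := left_fac_of_isStrictlyGE (eX.inv ≫ v ≫ eZ.hom) n
  have hg : HomologicalComplex.homologyMap g n = 0 := by
    have h1 : (homologyFunctor C n).map (Q.map g) = 0 := by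
      have : Q.map g = (eX.inv ≫ v ≫ eZ.hom) ≫ Q.map s := by
        rw [fac, assoc, IsIso.inv_hom_id, comp_id]
      rw [this]
      simp only [Functor.map_comp, hv, zero_comp, comp_zero]
    have h2 := (homologyFunctorFactors C n).hom.naturality g
    rw [Functor.comp_map, h1, zero_comp] at h2
    have h3 : ((homologyFunctorFactors C n).app K).hom ≫ HomologicalComplex.homologyMap g n =
        ((homologyFunctorFactors C n).app K).hom ≫ 0 := by
      rw [comp_zero]
      exact h2.symm
    exact (cancel_epi _).1 h3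
  have hg0 := hom_eq_zero_of_homologyMap_eq_zero K L' n g hg
  have h3 : eX.inv ≫ v ≫ eZ.hom = 0 := by rw [fac, hg0, Functor.map_zero, zero_comp]
  rw [← cancel_epi eX.inv, ← cancel_mono eZ.hom, assoc, h3, comp_zero, zero_comp]

/-- a morphism from `D^{≤ n}` vanishing on `H^n` factors through an object of `D^{≤ n-1}` -/
lemma exists_fac_of_homology_map_eq_zero {X Y : DerivedCategory C} (u : X ⟶ Y) (n : ℤ) [X.IsLE n]
    (hu : (homologyFunctor C n).map u = 0) :
    ∃ (W : DerivedCategory C) (_ : W.IsLE (n - 1)) (u' : X ⟶ W) (ι : W ⟶ Y), u = u' ≫ ι := by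
  let t := TStructure.t (C := C)
  have hT := t.triangleLTGE_distinguished n Y
  have hge : ((t.triangleLTGE n).obj Y).obj₃.IsGE n :=
    (inferInstance : t.IsGE ((t.truncGE n).obj Y) n)
  have hv : u ≫ ((t.triangleLTGE n).obj Y).mor₂ = 0 :=
    hom_eq_zero_of_homology_map_eq_zero X _ n _ (by rw [Functor.map_comp, hu, zero_comp])
  obtain ⟨u', hu'⟩ := Triangle.coyoneda_exact₂ _ hT u hv
  exact ⟨_, (inferInstance : t.IsLE ((t.truncLT n).obj Y) (n - 1)), u', _, hu'⟩

lemma chain_zero (N k : ℕ) (hkN : k ≤ N) (K : ComposableArrows (DerivedCategory C) N)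
    (F : DerivedCategory C) (ι : F ⟶ K.obj' 0 (Nat.zero_le N)) (hF : F.IsLE ((k : ℤ) - 1))
    (hGE : (K.obj' k hkN).IsGE 0)
    (hf : ∀ (i : ℕ) (hi : i < k) (p : ℤ), p < (k : ℤ) →
      (homologyFunctor C p).map
        (K.map' i (i + 1) (Nat.le_succ i) (Nat.succ_le_of_lt (lt_of_lt_of_le hi hkN))) = 0) :
    ι ≫ K.map' 0 k (Nat.zero_le k) hkN = 0 := by
  have key : ∀ (j : ℕ) (hj : j ≤ k), ∃ (W : DerivedCategory C) (_ : W.IsLE ((k : ℤ) - 1 - j))
      (a : F ⟶ W) (b : W ⟶ K.obj' j (hj.trans hkN)),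
      ι ≫ K.map' 0 j (Nat.zero_le j) (hj.trans hkN) = a ≫ b := by
    intro j
    induction j with
    | zero =>
      intro _
      refine ⟨F, ?_, 𝟙 F, ι, ?_⟩
      · simpa using hF
      · rw [K.map'_self 0 (Nat.zero_le N), comp_id, id_comp]
    | succ j ih =>
      intro hj
      have hj' : j ≤ k := Nat.le_of_succ_le hj
      have hjk : j < k := hj
      obtain ⟨W, hW, a, b, hab⟩ := ih hj'
      obtain ⟨W', hW', u', ι', hu'⟩ := exists_fac_of_homology_map_eq_zero
        (b ≫ K.map' j (j + 1) (Nat.le_succ j) (hj.trans hkN)) ((k : ℤ) - 1 - j)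
        (by rw [Functor.map_comp, hf j hjk _ (by omega), comp_zero])
      have e : (k : ℤ) - 1 - ((j + 1 : ℕ) : ℤ) = (k : ℤ) - 1 - j - 1 := by omega
      refine ⟨W', e ▸ hW', a ≫ u', ι', ?_⟩
      rw [K.map'_comp 0 j (j + 1) (Nat.zero_le j) (Nat.le_succ j) (hj.trans hkN), ← assoc, hab,
        assoc, hu', assoc]
  obtain ⟨W, hW, a, b, hab⟩ := key k le_rfl
  have hW' : W.IsLE (-1) := by
    have e : (k : ℤ) - 1 - (k : ℤ) = -1 := by omega
    exact e ▸ hW
  have hb : b = 0 := TStructure.t.zero_of_isLE_of_isGE b (-1) 0 (by omega) hW' hGE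
  rw [hab, hb, comp_zero]

/-- the fibre of a morphism to the top cohomology, inducing an iso on top cohomology -/
lemma fibre_isLE {F X S : DerivedCategory C} (ι : F ⟶ X) (π : X ⟶ S) (h : S ⟶ F⟦(1 : ℤ)⟧)
    (hT : Triangle.mk ι π h ∈ distTriang _) (k : ℤ) [X.IsLE k] [S.IsLE k] [S.IsGE k]
    (hπ : IsIso ((homologyFunctor C k).map π)) : F.IsLE (k - 1) := by
  rw [isLE_iff]
  intro p hp
  have hex := HomologySequence.exact₁ _ hT (p - 1) p (by omega)
  refine hex.isZero_of_both_zeros ?_ ?_
  · -- δ = 0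
    by_cases hpk : p - 1 = k
    · have hiso : IsIso ((homologyFunctor C (p - 1)).map π) := by
        rw [hpk]
        exact hπ
      exact (HomologySequence.epi_homologyMap_mor₂_iff _ hT (p - 1) p (by omega)).1
        (show Epi ((homologyFunctor C (p - 1)).map π) from inferInstance)
    · by_cases hpk' : p - 1 < k
      · exact (S.isZero_of_isGE k (p - 1) hpk').eq_of_src _ _
      · exact (S.isZero_of_isLE k (p - 1) (by omega)).eq_of_src _ _
  · -- H^p(ι) = 0
    by_cases hpk : p = k
    · have hiso : IsIso ((homologyFunctor C p).map π) := by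
        rw [hpk]
        exact hπ
      exact (HomologySequence.mono_homologyMap_mor₂_iff _ hT p).1
        (show Mono ((homologyFunctor C p).map π) from inferInstance)
    · exact (X.isZero_of_isLE k p (by omega)).eq_of_tgt _ _

end Groth.Agent.H16.TruncChain
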