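import Mathlib.Algebra.Homology.DerivedCategory.TStructure
import Mathlib.Algebra.Homology.DerivedCategory.FullyFaithful
import Mathlib.Algebra.Homology.DerivedCategory.Linear
import Mathlib.Algebra.Homology.DerivedCategory.Ext.EnoughInjectives
import Mathlib.Algebra.Homology.DerivedCategory.HomologySequence
import Mathlib.CategoryTheory.Triangulated.TStructure.TruncLTGE
import Mathlib.Algebra.Category.ModuleCat.EnoughInjectives

/-!
# Objects of `D(R)` with cohomology in degrees `-1, 0`: `Ext¹` killed by a power of an ideal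
-/

set_option autoImplicit false

universe u

open CategoryTheory Category Limits Pretriangulated DerivedCategory

namespace Groth.Agent.H16.TwoTerm

attribute [local instance] HasDerivedCategory.standard

variable {R : Type u} [CommRing R]

/-- morphisms from `D^{≥ n}` to an injective object placed in degree `i < n` vanish -/
lemma hom_to_single_injective_eq_zero (X : DerivedCategory (ModuleCat.{u} R)) (n i : ℤ)
    (hi : i < n) [X.IsGE n] (E : ModuleCat.{u} R) [Injective E]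
    (φ : X ⟶ (singleFunctor (ModuleCat.{u} R) i).obj E) : φ = 0 := by
  obtain ⟨K, _, ⟨e⟩⟩ := exists_iso_Q_obj_of_isGE X n
  have h := to_singleFunctor_obj_eq_zero_of_injective
    (e.inv ≫ φ ≫ (singleFunctorIsoCompQ (ModuleCat.{u} R) i).hom.app E) n hi
  rw [← cancel_epi e.inv, ← cancel_mono ((singleFunctorIsoCompQ (ModuleCat.{u} R) i).hom.app E),
    assoc, h]
  simp

/-- the module `N` placed in degree `-1`, as a shift -/
noncomputable abbrev Y (N : ModuleCat.{u} R) : DerivedCategory (ModuleCat.{u} R) :=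
  ((singleFunctor (ModuleCat.{u} R) 0).obj N)⟦(1 : ℤ)⟧

instance (N : ModuleCat.{u} R) : (Y N).IsGE (-1) :=
  TStructure.t.isGE_shift ((singleFunctor (ModuleCat.{u} R) 0).obj N) 0 1 (-1) (by lia)

/-- `Y N` is the single functor in degree `-1` -/
noncomputable def yIso (N : ModuleCat.{u} R) :
    Y N ≅ (singleFunctor (ModuleCat.{u} R) (-1)).obj N :=
  ((singleFunctors (ModuleCat.{u} R)).shiftIso 1 (-1) 0 (by lia)).app N

section ThmA

variable {T K G : DerivedCategory (ModuleCat.{u} R)} (f : T ⟶ K) (g : K ⟶ G)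
  (h : G ⟶ T⟦(1 : ℤ)⟧) (hT : Triangle.mk f g h ∈ distTriang _)
  {L M : ModuleCat.{u} R}
  (eT : T ≅ (singleFunctor (ModuleCat.{u} R) (-1)).obj L)
  (eG : G ≅ (singleFunctor (ModuleCat.{u} R) 0).obj M)

include hT eT in
lemma eq_zero_of_comp_eq_zero (N : ModuleCat.{u} R) (ξ : G ⟶ Y N) (hξ : g ≫ ξ = 0) : ξ = 0 := by
  obtain ⟨k, hk⟩ := Triangle.yoneda_exact₃ _ hT ξ hξ
  have hT1 : T.IsLE (-1) := TStructure.t.isLE_of_iso eT.symm (-1)
  have hT2 : (T⟦(1 : ℤ)⟧).IsLE (-2) := TStructure.t.isLE_shift T (-1) 1 (-2) (by lia)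
  have : k = 0 := TStructure.t.zero_of_isLE_of_isGE k (-2) (-1) (by lia) hT2 inferInstance
  rw [hk, this]
  exact comp_zero

include hT eG in
lemma exists_lift_of_injective (E : ModuleCat.{u} R) [Injective E] (γ : T ⟶ Y E) :
    ∃ φ : K ⟶ Y E, γ = f ≫ φ := by
  have hG1 : G.IsGE 0 := TStructure.t.isGE_of_iso eG.symm 0
  have hG2 : (G⟦(-1 : ℤ)⟧).IsGE 1 := TStructure.t.isGE_shift G 0 (-1) 1 (by lia)
  refine Triangle.yoneda_exact₂ _ (inv_rot_of_distTriang _ hT) γ ?_
  rw [← cancel_mono (yIso E).hom, zero_comp]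
  exact hom_to_single_injective_eq_zero (G⟦(-1 : ℤ)⟧) 1 (-1) (by lia) E _

include eT in
omit hT in
lemma smul_id_eq_zero (b : R) (hb : b • 𝟙 L = 0) : b • 𝟙 T = 0 := by
  have : b • 𝟙 T = eT.hom ≫ (singleFunctor (ModuleCat.{u} R) (-1)).map (b • 𝟙 L) ≫ eT.inv := by
    rw [Functor.map_smul, CategoryTheory.Functor.map_id, Linear.smul_comp, Linear.comp_smul,
      id_comp, Iso.hom_inv_id]
  rw [this, hb, Functor.map_zero, zero_comp, comp_zero]

include hT eT eG in
theorem thmA (I : Ideal R) :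
    (∃ c : ℕ, ∀ (N : ModuleCat.{u} R) (a : R), a ∈ I ^ c → ∀ ξ : K ⟶ Y N, a • ξ = 0) ↔
    ∃ c : ℕ, (∀ a : R, a ∈ I ^ c → a • 𝟙 L = 0) ∧
      ∀ (N : ModuleCat.{u} R) (a : R), a ∈ I ^ c →
        ∀ ξ : (singleFunctor (ModuleCat.{u} R) 0).obj M ⟶ Y N, a • ξ = 0 := by
  constructor
  · rintro ⟨c, hc⟩
    refine ⟨c, fun a ha => ?_, fun N a ha ξ => ?_⟩
    · obtain ⟨φ, hφ⟩ := exists_lift_of_injective f g h hT eG (Injective.under L)
        (eT.hom ≫ (singleFunctor (ModuleCat.{u} R) (-1)).map (Injective.ι L) ≫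
          (yIso (Injective.under L)).inv)
      have h1 : a • φ = 0 := hc _ a ha φ
      have h2 : a • (eT.hom ≫ (singleFunctor (ModuleCat.{u} R) (-1)).map (Injective.ι L) ≫
          (yIso (Injective.under L)).inv) = 0 := by
        rw [hφ, ← Linear.comp_smul, h1, comp_zero]
      have h3 : (singleFunctor (ModuleCat.{u} R) (-1)).map (a • Injective.ι L) = 0 := by
        rw [← cancel_epi eT.hom, ← cancel_mono (yIso (Injective.under L)).inv, Functor.map_smul,
          comp_zero, zero_comp, Linear.comp_smul, Linear.smul_comp, assoc]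
        exact h2
      have h4 : a • Injective.ι L = 0 :=
        (singleFunctor (ModuleCat.{u} R) (-1)).map_injective (by rw [h3, Functor.map_zero])
      rw [← cancel_mono (Injective.ι L), zero_comp, Linear.smul_comp, id_comp]
      exact h4
    · have h1 := hc N a ha (g ≫ eG.hom ≫ ξ)
      have h0 : g ≫ (eG.hom ≫ (a • ξ)) = 0 := by
        rw [Linear.comp_smul, Linear.comp_smul]
        exact h1
      have h2 := eq_zero_of_comp_eq_zero f g h hT eT N _ h0
      rwa [← cancel_epi eG.hom, comp_zero]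
  · rintro ⟨c, hL, hM⟩
    refine ⟨c + c, fun N x hx ξ => ?_⟩
    rw [pow_add] at hx
    refine Submodule.mul_induction_on hx (fun a ha b hb => ?_) (fun x y hx hy => ?_)
    · have hbT := smul_id_eq_zero eT b (hL b hb)
      have h1 : f ≫ (b • ξ) = 0 := by
        have : f ≫ (b • ξ) = (b • 𝟙 T) ≫ f ≫ ξ := by
          rw [Linear.comp_smul, Linear.smul_comp, id_comp]
        rw [this, hbT, zero_comp]
      obtain ⟨ζ, hζ⟩ : ∃ ζ : G ⟶ Y N, b • ξ = g ≫ ζ := Triangle.yoneda_exact₂ _ hT (b • ξ) h1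
      have h2 : a • (eG.inv ≫ ζ) = 0 := hM N a ha _
      have h3 : a • ζ = 0 := by
        have : ζ = eG.hom ≫ eG.inv ≫ ζ := by simp
        rw [this, ← Linear.comp_smul, h2, comp_zero]
      rw [mul_smul, hζ, ← Linear.comp_smul, h3, comp_zero]
    · rw [add_smul, hx, hy, add_zero]

end ThmA

section Setup

variable (K : DerivedCategory (ModuleCat.{u} R))
  (hK : ∀ i : ℤ, i ≠ -1 → i ≠ 0 → IsZero ((homologyFunctor (ModuleCat.{u} R) i).obj K))

include hK

lemma isLE_zero : K.IsLE 0 := (isLE_iff K 0).2 (fun i hi => hK i (by lia) (by lia))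

lemma isGE_neg_one : K.IsGE (-1) := (isGE_iff K (-1)).2 (fun i hi => hK i (by lia) (by lia))

theorem exists_data : ∃ (T G : DerivedCategory (ModuleCat.{u} R)) (f : T ⟶ K) (g : K ⟶ G)
    (h : G ⟶ T⟦(1 : ℤ)⟧) (_ : Triangle.mk f g h ∈ distTriang _),
    Nonempty (T ≅ (singleFunctor (ModuleCat.{u} R) (-1)).obj
      ((homologyFunctor (ModuleCat.{u} R) (-1)).obj K)) ∧
    Nonempty (G ≅ (singleFunctor (ModuleCat.{u} R) 0).obj
      ((homologyFunctor (ModuleCat.{u} R) 0).obj K)) := by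
  haveI := isLE_zero K hK
  haveI := isGE_neg_one K hK
  let t := TStructure.t (C := ModuleCat.{u} R)
  let Tr := (t.triangleLTGE 0).obj K
  have hTr : Tr ∈ distTriang _ := t.triangleLTGE_distinguished 0 K
  have hT1 : Tr.obj₁.IsLE (-1) := t.isLE_truncLT_obj K 0 (-1)
  have hT2 : Tr.obj₁.IsGE (-1) := (inferInstance : t.IsGE ((t.truncLT 0).obj K) (-1))
  have hG1 : Tr.obj₃.IsGE 0 := (inferInstance : t.IsGE ((t.truncGE 0).obj K) 0)
  have hG2 : Tr.obj₃.IsLE 0 := (inferInstance : t.IsLE ((t.truncGE 0).obj K) 0)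
  obtain ⟨L', ⟨eT⟩⟩ := exists_iso_singleFunctor_obj_of_isGE_of_isLE Tr.obj₁ (-1)
  obtain ⟨M', ⟨eG⟩⟩ := exists_iso_singleFunctor_obj_of_isGE_of_isLE Tr.obj₃ 0
  have i1 : IsIso ((homologyFunctor (ModuleCat.{u} R) (-1)).map Tr.mor₁) := by
    have hm : Mono ((homologyFunctor (ModuleCat.{u} R) (-1)).map Tr.mor₁) := by
      rw [HomologySequence.mono_homologyMap_mor₁_iff Tr hTr (-2) (-1)]
      exact (isZero_of_isGE Tr.obj₃ 0 (-2) (by lia)).eq_of_src _ _
    have he : Epi ((homologyFunctor (ModuleCat.{u} R) (-1)).map Tr.mor₁) := by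
      rw [HomologySequence.epi_homologyMap_mor₁_iff Tr hTr (-1)]
      exact (isZero_of_isGE Tr.obj₃ 0 (-1) (by lia)).eq_of_tgt _ _
    exact isIso_of_mono_of_epi _
  have i2 : IsIso ((homologyFunctor (ModuleCat.{u} R) 0).map Tr.mor₂) := by
    have hm : Mono ((homologyFunctor (ModuleCat.{u} R) 0).map Tr.mor₂) := by
      rw [HomologySequence.mono_homologyMap_mor₂_iff Tr hTr 0]
      exact (isZero_of_isLE Tr.obj₁ (-1) 0 (by lia)).eq_of_src _ _
    have he : Epi ((homologyFunctor (ModuleCat.{u} R) 0).map Tr.mor₂) := by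
      rw [HomologySequence.epi_homologyMap_mor₂_iff Tr hTr 0 1]
      exact (isZero_of_isLE Tr.obj₁ (-1) 1 (by lia)).eq_of_tgt _ _
    exact isIso_of_mono_of_epi _
  let isoL : L' ≅ (homologyFunctor (ModuleCat.{u} R) (-1)).obj K :=
    (singleFunctorCompHomologyFunctorIso (ModuleCat.{u} R) (-1)).symm.app L' ≪≫
      (homologyFunctor (ModuleCat.{u} R) (-1)).mapIso eT.symm ≪≫
      @asIso _ _ _ _ _ i1
  let isoM : M' ≅ (homologyFunctor (ModuleCat.{u} R) 0).obj K :=
    (singleFunctorCompHomologyFunctorIso (ModuleCat.{u} R) 0).symm.app M' ≪≫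
      (homologyFunctor (ModuleCat.{u} R) 0).mapIso eG.symm ≪≫
      (@asIso _ _ _ _ _ i2).symm
  exact ⟨Tr.obj₁, Tr.obj₃, Tr.mor₁, Tr.mor₂, Tr.mor₃, hTr,
    ⟨eT ≪≫ (singleFunctor (ModuleCat.{u} R) (-1)).mapIso isoL⟩,
    ⟨eG ≪≫ (singleFunctor (ModuleCat.{u} R) 0).mapIso isoM⟩⟩

end Setup

end Groth.Agent.H16.TwoTerm
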