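import Groth.Agent.H16.RFExact
import Groth.Agent.H30.LerayB
import Groth.Agent.H6.InjHorseshoe

/-!
# The unit `Q(F K) ⟶ RF(Q K)` for complexes of acyclic objects (helper16)
-/

set_option autoImplicit false
universe w' w v' u' v u
open CategoryTheory CategoryTheory.Limits DerivedCategory Pretriangulated

namespace Groth.Agent.H16.UnitAcyclic

open RFExact ZeroObject

variable {A : Type u} [Category.{v} A] [Abelian A] [IsGrothendieckAbelian.{v} A]
  [HasDerivedCategory.{w} A]
  {B : Type u'} [Category.{v'} B] [Abelian B] [HasDerivedCategory.{w'} B]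
  (F : A ⥤ B) [F.Additive]
  [(F.mapHomotopyCategory (ComplexShape.up ℤ) ⋙ DerivedCategory.Qh).HasRightDerivedFunctor
    (HomotopyCategory.quasiIso A (ComplexShape.up ℤ))]

/-- `Φ F` on a morphism of complexes is `Q` of the image morphism, up to isomorphism. -/
noncomputable def ΦQuotIso :
    HomotopyCategory.quotient A (ComplexShape.up ℤ) ⋙ Φ F ≅
      F.mapHomologicalComplex (ComplexShape.up ℤ) ⋙ DerivedCategory.Q :=
  (Functor.associator _ _ _).symm ≪≫
    Functor.isoWhiskerRight (F.mapHomotopyCategoryFactors (ComplexShape.up ℤ)).symm Qh ≪≫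
    Functor.associator _ _ _ ≪≫ Functor.isoWhiskerLeft _ (quotientCompQhIso B)

/-- `H^m(Φ F(-))` is the homology of the image complex. -/
noncomputable def ΦQuotHomologyIso (m : ℤ) :
    (HomotopyCategory.quotient A (ComplexShape.up ℤ) ⋙ Φ F) ⋙ homologyFunctor B m ≅
      F.mapHomologicalComplex (ComplexShape.up ℤ) ⋙
        HomologicalComplex.homologyFunctor B (ComplexShape.up ℤ) m :=
  Functor.isoWhiskerRight (ΦQuotIso F) _ ≪≫ Functor.associator _ _ _ ≪≫
    Functor.isoWhiskerLeft _ (homologyFunctorFactors B m)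

lemma isIso_Φ_map_quotient_iff {K L : CochainComplex A ℤ} (φ : K ⟶ L) :
    IsIso ((Φ F).map ((HomotopyCategory.quotient A (ComplexShape.up ℤ)).map φ)) ↔
      QuasiIso ((F.mapHomologicalComplex (ComplexShape.up ℤ)).map φ) := by
  rw [← DerivedCategory.isIso_Q_map_iff_quasiIso]
  exact NatIso.isIso_map_iff (ΦQuotIso F) φ

lemma isIso_homology_Φ_map_quotient_iff {K L : CochainComplex A ℤ} (φ : K ⟶ L) (m : ℤ) :
    IsIso ((homologyFunctor B m).map
      ((Φ F).map ((HomotopyCategory.quotient A (ComplexShape.up ℤ)).map φ))) ↔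
      IsIso (HomologicalComplex.homologyMap
        ((F.mapHomologicalComplex (ComplexShape.up ℤ)).map φ) m) :=
  NatIso.isIso_map_iff (ΦQuotHomologyIso F m) φ

/-- If `ρ : K ⟶ I` is a K-injective resolution and `F(ρ)` is a quasi-isomorphism, then the unit
`Q(F K) ⟶ RF(Q K)` is an isomorphism. -/
lemma isIso_α_of_quasiIso_map {K I : CochainComplex A ℤ} (ρ : K ⟶ I) [QuasiIso ρ]
    (hI : I.IsKInjective)
    (h : QuasiIso ((F.mapHomologicalComplex (ComplexShape.up ℤ)).map ρ)) :
    IsIso ((α F).app ((HomotopyCategory.quotient A (ComplexShape.up ℤ)).obj K)) := by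
  let qA := HomotopyCategory.quotient A (ComplexShape.up ℤ)
  have hαI : IsIso ((α F).app (qA.obj I)) :=
    Groth.Agent.H5.KInjDeriv.isIso_totalRightDerivedUnit_app RFKInj.hKinj (Φ F) I hI
  have h1 : IsIso ((Φ F).map (qA.map ρ)) := (isIso_Φ_map_quotient_iff F ρ).2 h
  have h2 : IsIso (Qh.map (qA.map ρ)) := by
    have : IsIso (Q.map ρ) := inferInstance
    exact this
  have h3 : IsIso ((RF F).map (Qh.map (qA.map ρ))) := inferInstance
  have nat := (α F).naturality (qA.map ρ)
  have h3' : IsIso ((Qh ⋙ RF F).map (qA.map ρ)) := h3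
  have h4 : IsIso ((α F).app (qA.obj K) ≫ (Qh ⋙ RF F).map (qA.map ρ)) := by
    rw [← nat]; infer_instance
  exact IsIso.of_isIso_comp_right _ ((Qh ⋙ RF F).map (qA.map ρ))

/-- **Leray's acyclicity lemma** for the unit of the unbounded derived functor. -/
theorem isIso_α_of_acyclic [PreservesFiniteLimits F] (K : CochainComplex A ℤ) (a : ℤ)
    [K.IsStrictlyGE a]
    (hK : ∀ n, Groth.Agent.H30.Leray.acyclic F (K.X n)) :
    IsIso ((α F).app ((HomotopyCategory.quotient A (ComplexShape.up ℤ)).obj K)) := by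
  obtain ⟨I, ι, -, hι, hIinj, hIa⟩ := Groth.Agent.H6.exists_mono_quasiIso_injective_ge K a
  have hIK : I.IsKInjective := CochainComplex.isKInjective_of_injective I a
  refine isIso_α_of_quasiIso_map F ι hIK ?_
  exact Groth.Agent.H30.Leray.quasiIso_map F (Groth.Agent.H30.Leray.acyclic F)
    (fun S hS h₁ h₂ => Groth.Agent.H30.Leray.acyclic_X₃_and_shortExact F hS h₁ h₂)
    ⟨(0 : A), isZero_zero A, Groth.Agent.H30.Leray.acyclic_of_isZero F (isZero_zero A)⟩
    (fun X Y hX hY => (Groth.Agent.H30.Leray.acyclic F).le_isoClosure _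
      (Groth.Agent.H30.Leray.acyclic_biprod F hX hY))
    ι a a hK (fun n => Groth.Agent.H30.Leray.acyclic_of_injective F _)

end Groth.Agent.H16.UnitAcyclic
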