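import Mathlib
import Groth.Agent.H16.WCProj

/-!
# AB4* for abelian sheaves on a site with a weakly contractible generating set (helper16)
-/

set_option autoImplicit false
open CategoryTheory CategoryTheory.Limits Opposite
universe u

namespace Groth.Agent.H16.WCAB4

open Groth.Agent.H16.WCExact Groth.Agent.H16.WCProj

variable {C : Type u} [SmallCategory C] (J : GrothendieckTopology C)

/-- products of epimorphisms are surjective on sections over a weakly contractible object. -/
lemma surjective_sections_lim_map (α : Type u) (U : C) (hU : IsWC J U)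
    {X Y : Discrete α ⥤ Sheaf J AddCommGrpCat.{u}} (f : X ⟶ Y) [Epi f] :
    Function.Surjective ((Γ J U).map (lim.map f)).hom := by
  rw [← AddCommGrpCat.epi_iff_surjective]
  have hcomp : ∀ i : Discrete α, Epi ((Γ J U).map (f.app i)) := fun i => by
    haveI : Epi (f.app i) := inferInstance
    exact (AddCommGrpCat.epi_iff_surjective _).2 (surjective_sections_of_epi J U hU (f.app i))
  haveI : Epi (Functor.whiskerRight f (Γ J U)) := by
    apply (config := { allowSynthFailures := true }) NatTrans.epi_of_epi_app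
    intro i
    exact hcomp i
  have h1 : Epi ((lim : (Discrete α ⥤ AddCommGrpCat.{u}) ⥤ _).map
      (Functor.whiskerRight f (Γ J U))) := inferInstance
  have h2 : Epi (((Functor.whiskeringRight (Discrete α) _ _).obj (Γ J U) ⋙ lim).map f) := h1
  exact ((NatIso.isIso_map_iff (preservesLimitNatIso (J := Discrete α) (Γ J U)) f) |> fun _ => by
    have nat := (preservesLimitNatIso (J := Discrete α) (Γ J U)).hom.naturality f
    have e : (lim ⋙ Γ J U).map f =
        (preservesLimitNatIso (J := Discrete α) (Γ J U)).hom.app X ≫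
          ((Functor.whiskeringRight (Discrete α) _ _).obj (Γ J U) ⋙ lim).map f ≫
          (preservesLimitNatIso (J := Discrete α) (Γ J U)).inv.app Y := by
      rw [← Category.assoc, ← nat, Category.assoc, Iso.hom_inv_id_app, Category.comp_id]
    change Epi ((lim ⋙ Γ J U).map f)
    rw [e]
    infer_instance)


theorem epi_lim_map (B : Set C) (hB : ∀ U ∈ B, IsWC J U)
    (hcov : ∀ V : C, ∃ (ι : Type u) (U : ι → C) (f : ∀ i, U i ⟶ V),
      (∀ i, U i ∈ B) ∧ Sieve.ofArrows U f ∈ J V)
    (α : Type u) {X Y : Discrete α ⥤ Sheaf J AddCommGrpCat.{u}} (f : X ⟶ Y) [Epi f] :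
    Epi (lim.map f) := by
  haveI : Sheaf.IsLocallySurjective (lim.map f) := by
    constructor
    intro V s
    obtain ⟨ι, U, g, hUB, hg⟩ := hcov V
    refine J.superset_covering ?_ hg
    rw [Sieve.ofArrows, Sieve.generate_le_iff, Presieve.ofArrows_le_iff]
    intro i
    obtain ⟨t, ht⟩ := surjective_sections_lim_map J α (U i) (hB _ (hUB i)) f
      (((lim.obj Y).obj.map (g i).op).hom s)
    exact ⟨t, ht⟩
  infer_instance

theorem ab4Star (B : Set C) (hB : ∀ U ∈ B, IsWC J U)
    (hcov : ∀ V : C, ∃ (ι : Type u) (U : ι → C) (f : ∀ i, U i ⟶ V),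
      (∀ i, U i ∈ B) ∧ Sieve.ofArrows U f ∈ J V) :
    AB4Star (Sheaf J AddCommGrpCat.{u}) where
  ofShape α := by
    haveI : Functor.PreservesEpimorphisms
        (lim : (Discrete α ⥤ Sheaf J AddCommGrpCat.{u}) ⥤ Sheaf J AddCommGrpCat.{u}) :=
      ⟨fun f _ => epi_lim_map J B hB hcov α f⟩
    exact hasExactLimitsOfShape_of_preservesEpi _ _

end Groth.Agent.H16.WCAB4
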